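import Cfsg.Agent.HNL.AltD
import Cfsg.Agent.L43.Gens
import Cfsg.Agent.A9.Model

/-! The frame and its three views. -/

set_option autoImplicit false
set_option synthInstance.maxSize 100000
set_option synthInstance.maxHeartbeats 400000

namespace Cfsg.Agent.HNL

open Subgroup Equiv Cfsg.Agent.Comp Cfsg.Agent.Loc3 Cfsg.Agent.PLocal.Amb

variable {G : Type*} [Group G] [Finite G] {u a b c na nb nc u1 u2 u3 u4 ρ : G} {π : G → Perm (Fin 9)}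

namespace AA

section Sg

variable {m n x : G} {s s' : Bool}

/-- `m` inverts or fixes `x` -/
def Sg (m x : G) (s : Bool) : Prop := m * x * m⁻¹ = cond s x⁻¹ x

omit [Finite G] in
theorem Sg.mul (h : Sg m x s) (h' : Sg n x s') : Sg (m * n) x (xor s s') := by
  have e : m * n * x * (m * n)⁻¹ = m * (n * x * n⁻¹) * m⁻¹ := by group
  rw [Sg, e, h']
  cases s'
  · rw [Bool.xor_false]; exact h
  · rw [cond_true, ← conj_inv, h]; cases s <;> simp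

omit [Finite G] in
theorem Sg.inv (h : Sg m x s) : Sg m⁻¹ x s := by
  have e : ∀ y, m * y * m⁻¹ = x → m⁻¹ * x * m⁻¹⁻¹ = y := by rintro y rfl; group
  cases s
  exacts [e _ h, e _ (by rw [cond_true, ← conj_inv, h]; exact inv_inv x)]

omit [Finite G] in
theorem Sg.cj (h : Sg m x s) (g : G) : Sg (g * m * g⁻¹) (g * x * g⁻¹) s := by
  have e : g * m * g⁻¹ * (g * x * g⁻¹) * (g * m * g⁻¹)⁻¹ = g * (m * x * m⁻¹) * g⁻¹ := by group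
  rw [Sg, e, h]; cases s <;> simp [mul_assoc]

omit [Finite G] in
theorem Sg.comm (h : Sg m x false) : Commute m x := mul_inv_eq_iff_eq_mul.1 h

omit [Finite G] in
theorem Sg.sq (h : Sg m x s) : Commute (m * m) x := (Bool.xor_self s ▸ h.mul h).comm

omit [Finite G] in
theorem Sg.cube (h : Sg m x s) : Sg (m * m * m) x s := by simpa using (h.mul h).mul h

omit [Finite G] in
theorem Sg.j (h : Sg m x s) (h' : Sg n x s') : Sg (n⁻¹ * (m * n * m⁻¹)) x false := by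
  have := h'.inv.mul ((h.mul h').mul h.inv)
  cases s <;> cases s' <;> exact this

/-- the action on the four elements -/
def Ac (u1 u2 u3 u4 m : G) (s1 s2 s3 s4 : Bool) : Prop := Sg m u1 s1 ∧ Sg m u2 s2 ∧ Sg m u3 s3 ∧ Sg m u4 s4

variable {s1 s2 s3 s4 t1 t2 t3 t4 : Bool}

omit [Finite G] in
theorem Ac.mul (h : Ac u1 u2 u3 u4 m s1 s2 s3 s4) (k : Ac u1 u2 u3 u4 n t1 t2 t3 t4) :
    Ac u1 u2 u3 u4 (m * n) (xor s1 t1) (xor s2 t2) (xor s3 t3) (xor s4 t4) :=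
  ⟨h.1.mul k.1, h.2.1.mul k.2.1, h.2.2.1.mul k.2.2.1, h.2.2.2.mul k.2.2.2⟩

omit [Finite G] in
theorem Ac.cube (cj : ∀ g, Commute g u1 → Commute g u2 → Commute g u3 → Commute g u4 → g ^ 3 = 1)
    (h : Ac u1 u2 u3 u4 m s1 s2 s3 s4) : ∃ n, Ac u1 u2 u3 u4 n s1 s2 s3 s4 ∧ n * n = 1 ∧
      ∀ y, Commute y m → Commute y n :=
  ⟨m * m * m, ⟨h.1.cube, h.2.1.cube, h.2.2.1.cube, h.2.2.2.cube⟩, by
    rw [← cj _ h.1.sq h.2.1.sq h.2.2.1.sq h.2.2.2.sq]; simp only [pow_succ, pow_zero, one_mul, mul_assoc],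
    fun _ c => (c.mul_right c).mul_right c⟩

omit [Finite G] in
theorem Ac.fix (cj : ∀ g, Commute g u1 → Commute g u2 → Commute g u3 → Commute g u4 → g ^ 3 = 1)
    (h : Ac u1 u2 u3 u4 m s1 s2 s3 s4) (m2 : m * m = 1) (k : Ac u1 u2 u3 u4 n t1 t2 t3 t4) :
    ∃ n', Ac u1 u2 u3 u4 n' t1 t2 t3 t4 ∧ Commute m n' ∧ ∀ y, Commute y m → Commute y n → Commute y n' :=
  ⟨_, ⟨by simpa only [Bool.xor_false] using k.1.mul (h.1.j k.1).inv,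
    by simpa only [Bool.xor_false] using k.2.1.mul (h.2.1.j k.2.1).inv,
    by simpa only [Bool.xor_false] using k.2.2.1.mul (h.2.2.1.j k.2.2.1).inv,
    by simpa only [Bool.xor_false] using k.2.2.2.mul (h.2.2.2.j k.2.2.2).inv⟩,
    L43.fixc m2 (cj _ (h.1.j k.1).comm (h.2.1.j k.2.1).comm (h.2.2.1.j k.2.2.1).comm (h.2.2.2.j k.2.2.2).comm),
    fun _ a b => b.mul_right (b.inv_right.mul_right ((a.mul_right b).mul_right a.inv_right)).inv_right⟩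

end Sg

end AA

open AA

theorem exists_Fm (h3 : u1 ^ 3 = 1) (h1 : u1 ≠ 1) (c12 : Commute u1 u2) (c13 : Commute u1 u3)
    (c14 : Commute u1 u4) (c23 : Commute u2 u3) (c24 : Commute u2 u4) (c34 : Commute u3 u4)
    (cj : ∀ g, Commute g u1 → Commute g u2 → Commute g u3 → Commute g u4 → g ^ 3 = 1)
    (r1 : ρ * u1 * ρ⁻¹ = u2) (r2 : ρ * u2 * ρ⁻¹ = u4) (r4 : ρ * u4 * ρ⁻¹ = u1) (r3 : ρ * u3 * ρ⁻¹ = u3)
    (d1 : c * u1 * c⁻¹ = u1) (d2 : c * u2 * c⁻¹ = u2) (d3 : c * u3 * c⁻¹ = u4)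
    (d4 : c * u4 * c⁻¹ = u3⁻¹) : ∃ n2 n3 n4, Fm u1 u2 u3 u4 n2 n3 n4 := by
  have st : ∀ {m s1 s2 s3 s4}, Ac u1 u2 u3 u4 m s1 s2 s3 s4 → Ac u1 u2 u3 u4 (ρ * m * ρ⁻¹) s4 s1 s3 s2 :=
    fun h => ⟨r4 ▸ h.2.2.2.cj ρ, r1 ▸ h.1.cj ρ, r3 ▸ h.2.2.1.cj ρ, r2 ▸ h.2.1.cj ρ⟩
  have e : ∀ x, c * c * x * (c * c)⁻¹ = c * (c * x * c⁻¹) * c⁻¹ := fun x => by group
  have a0 : Ac u1 u2 u3 u4 (c * c) false false true true := ⟨by rw [Sg, e, d1, d1]; rfl, by rw [Sg, e, d2, d2]; rfl,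
    by rw [Sg, e, d3, d4]; rfl, by rw [Sg, e, d4, ← conj_inv, d3]; rfl⟩
  obtain ⟨n3, a3, q3, -⟩ := (st a0).cube cj
  obtain ⟨m2, b2, k2, -⟩ := a3.fix cj q3 ((st (st a0)).mul (st a0))
  obtain ⟨n2, a2, q2, l2⟩ := b2.cube cj
  obtain ⟨m4, b4, k4, -⟩ := a3.fix cj q3 (a0.mul (st a0))
  obtain ⟨m4', b4', k4', l4'⟩ := a2.fix cj q2 b4
  obtain ⟨n4, a4, q4, l4⟩ := b4'.cube cj
  have p : ∀ {g x y : G}, g * x * g⁻¹ = y → (x ^ 3 = 1 ↔ y ^ 3 = 1) ∧ (x ≠ 1 ↔ y ≠ 1) := by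
    rintro g x _ rfl; simp [conj_pow]
  have t2 := (p r1).1.1 h3
  have t4 := (p r2).1.1 t2
  have z2 := (p r1).2.1 h1
  have z4 := (p r2).2.1 z2
  exact ⟨n2, n3, n4, h3, t2, (p d3).1.2 t4, t4, h1, z2, (p d3).2.2 z4, z4, c12, c13, c14, c23, c24, c34,
    ⟨q2, a2.1, a2.2.1, a2.2.2.1.comm, a2.2.2.2.comm⟩, ⟨q3, a3.1, a3.2.2.1, a3.2.1.comm, a3.2.2.2.comm⟩,
    ⟨q4, a4.1, a4.2.2.2, a4.2.1.comm, a4.2.2.1.comm⟩, (l2 _ k2).symm, l4 _ k4', l4 _ (l4' _ (l2 _ k2) k4)⟩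

namespace AA

theorem nz {X : Type*} [Group X] {g x y : X} (h3 : x ^ 3 = 1) (h1 : x ≠ 1) (e : g * x * g⁻¹ = x⁻¹)
    (c : Commute g y) : y ∉ [x, x⁻¹] := fun h => by
  have : Commute g x := by
    rcases List.mem_pair.1 h with rfl | rfl
    exacts [c, Commute.inv_right_iff.1 c]
  rw [this.eq, mul_inv_cancel_right] at e
  exact h1 (by rw [← h3, pow_succ, pow_two]; nth_rw 2 [e]; simp)

/-- the image of the frame -/
structure F9 {X : Type*} [Group X] (u a b na nb nc : X) : Prop where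
  u3 : u ^ 3 = 1
  a3 : a ^ 3 = 1
  b3 : b ^ 3 = 1
  u1 : u ≠ 1
  a1 : a ≠ 1
  b1 : b ≠ 1
  au : Commute a u
  bu : Commute b u
  ba : Commute b a
  ia : Iv na u a b 1
  ib : Iv nb u b a 1
  ic : Iv nc u 1 a b
  nab : Commute na nb
  nac : Commute na nc
  nbc : Commute nb nc

end AA

theorem Fm.memA (h : Fm u a b c na nb nc) : u ∈ 𝐍[zpowers c] ∧ a ∈ 𝐍[zpowers c] ∧ b ∈ 𝐍[zpowers c] ∧
    na ∈ 𝐍[zpowers c] ∧ nb ∈ 𝐍[zpowers c] ∧ nc ∈ 𝐍[zpowers c] :=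
  have k : ∀ {g}, Commute g c → g ∈ 𝐍[zpowers c] := fun e =>
    (mem_norm_three h.c3 h.c1).2 (.inl (mul_inv_eq_iff_eq_mul.2 e))
  ⟨k h.uc, k h.ac, k h.bc, k h.ia.c, k h.ib.c, (mem_norm_three h.c3 h.c1).2 (.inr h.ic.a)⟩

theorem Fm.f9A (h : Fm u a b c na nb nc) (ph : PH 𝐍[zpowers c] (zpowers c) π) :
    F9 (π u) (π a) (π b) (π na) (π nb) (π nc) := by
  obtain ⟨mu, ma, mb, pa, pb, pc⟩ := h.memA
  have p3 : ∀ {x}, x ∈ 𝐍[zpowers c] → x ^ 3 = 1 → π x ^ 3 = 1 := fun m e => by rw [← ph.map_pow m, e, ph.map_one]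
  have cm : ∀ {x y}, x ∈ 𝐍[zpowers c] → y ∈ 𝐍[zpowers c] → Commute x y → Commute (π x) (π y) := fun m m' e =>
    (ph.mul m m').symm.trans ((congrArg π e).trans (ph.mul m' m))
  have sq : ∀ {x}, x ∈ 𝐍[zpowers c] → x * x = 1 → π x * π x = 1 := fun m e => by rw [← ph.mul m m, e, ph.map_one]
  have iv : ∀ {g x}, g ∈ 𝐍[zpowers c] → x ∈ 𝐍[zpowers c] → g * x * g⁻¹ = x⁻¹ → π g * π x * (π g)⁻¹ = (π x)⁻¹ :=
    fun m m' e => by rw [← ph.map_conj m m', e, ph.map_inv m']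
  have n1 : ∀ {g x}, x ∈ 𝐍[zpowers c] → x ^ 3 = 1 → x ≠ 1 → g * x * g⁻¹ = x⁻¹ → Commute g c → π x ≠ 1 :=
    fun m x3 x1 e k r => by
      obtain ⟨i, rfl⟩ := (ph.ker m).1 r
      exact nz x3 x1 e (k.zpow_right i) (by simp)
  exact ⟨p3 mu h.u3, p3 ma h.a3, p3 mb h.b3, n1 mu h.u3 h.u1 h.ia.u h.ia.c, n1 ma h.a3 h.a1 h.ia.a h.ia.c,
    n1 mb h.b3 h.b1 h.ib.a h.ib.c, cm ma mu h.ua.symm, cm mb mu h.ub.symm, cm mb ma h.ab.symm,
    ⟨sq pa h.ia.sq, iv pa mu h.ia.u, iv pa ma h.ia.a, cm pa mb h.ia.b, Commute.one_right _⟩,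
    ⟨sq pb h.ib.sq, iv pb mu h.ib.u, iv pb mb h.ib.a, cm pb ma h.ib.b, Commute.one_right _⟩,
    ⟨sq pc h.ic.sq, iv pc mu h.ic.u, by simp, cm pc ma h.ic.b, cm pc mb h.ic.c⟩,
    cm pa pb h.nab, cm pa pc h.nac, cm pb pc h.nbc⟩

namespace AA

theorem F9.pr {X : Type*} [Group X] {u a b na nb nc : X} (h : F9 u a b na nb nc) : ∃ p r, Commute p u ∧ p * p = 1 ∧
    Commute r u ∧ r * r = 1 ∧ Commute p r ∧ p * a * p⁻¹ = a⁻¹ ∧ Commute p b ∧ r * b * r⁻¹ = b⁻¹ := by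
  have k : ∀ {g k x : X}, g * x * g⁻¹ = x⁻¹ → k * x * k⁻¹ = x⁻¹ → Commute (g * k) x := fun a b =>
    Sg.comm (Sg.mul (s := true) (s' := true) a b)
  have l : ∀ {g k x : X}, g * x * g⁻¹ = x⁻¹ → Commute k x → g * k * x * (g * k)⁻¹ = x⁻¹ := fun a b =>
    Sg.mul (s := true) (s' := false) a (mul_inv_eq_iff_eq_mul.2 b)
  exact ⟨na * nc, nb * nc, k h.ia.u h.ic.u, by rw [h.nac.symm.mul_mul_mul_comm, h.ia.sq, h.ic.sq, mul_one],
    k h.ib.u h.ic.u, by rw [h.nbc.symm.mul_mul_mul_comm, h.ib.sq, h.ic.sq, mul_one],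
    (h.nab.mul_right h.nac).mul_left (h.nbc.symm.mul_right (Commute.refl _)), l h.ia.a h.ic.b,
    h.ia.b.mul_left h.ic.c, l h.ib.a h.ic.c⟩

/-- the three standard three-cycles -/
abbrev ya1 : Perm (Fin 9) := swap 0 1 * swap 1 2
/-- the three standard three-cycles -/
abbrev ya2 : Perm (Fin 9) := swap 3 4 * swap 4 5
/-- the three standard three-cycles -/
abbrev ya3 : Perm (Fin 9) := swap 6 7 * swap 7 8

theorem y_facts : ya1 ^ 3 = 1 ∧ ya1.support.card = 3 ∧ (ya1 * ya2) ^ 3 = 1 ∧ (ya1 * ya2).support.card = 6 ∧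
    (ya1 * ya2 * ya3) ^ 3 = 1 ∧ (ya1 * ya2 * ya3).support.card = 9 := pd!

theorem y_six : ∀ p : Perm (Fin 9), Commute p (ya1 * ya2) → p * p = 1 → ∀ τ, Commute τ (ya1 * ya2) → τ ^ 3 = 1 →
    p * τ * p⁻¹ = τ⁻¹ → τ.support.card = 6 → ∀ υ, Commute υ (ya1 * ya2) → υ ^ 3 = 1 → Commute p υ →
      υ.support.card = 6 → ya1 * ya2 ∈ [υ, υ⁻¹] := pd!

theorem y_nine : ∀ p : Perm (Fin 9), Commute p (ya1 * ya2 * ya3) → p * p = 1 → ∀ r, Commute r (ya1 * ya2 * ya3) →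
    r * r = 1 → Commute p r → p = 1 ∨ r = 1 ∨ p = r := pd!

theorem y_two : ∀ τ : Perm (Fin 9), Commute τ ya1 → τ ^ 3 = 1 → τ.support.card = 3 →
    τ ∈ [ya1, ya1⁻¹] ∨ ∃ g, Commute g ya1 ∧ g * τ * g⁻¹ = ya2 := pd!

theorem y_three : ∀ υ : Perm (Fin 9), Commute υ ya1 → Commute υ ya2 → υ ^ 3 = 1 → υ.support.card = 3 →
    υ ∈ [ya1, ya1⁻¹] ∨ υ ∈ [ya2, ya2⁻¹] ∨ ∀ n, Commute n ya2 → Commute n υ → n * n = 1 → n * ya1 * n⁻¹ = ya1⁻¹ →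
      ∃ g, Commute g ya1 ∧ Commute g ya2 ∧ g * υ * g⁻¹ = ya3 ∧ g * n * g⁻¹ = swap 0 1 := pd!

end AA

theorem Fm.supp (h : Fm u a b c na nb nc) (ph : PH 𝐍[zpowers c] (zpowers c) π)
    (r1 : ρ * u * ρ⁻¹ = a) (r2 : ρ * a * ρ⁻¹ = b) (r3 : ρ * c * ρ⁻¹ = c) :
    (π u).support.card = 3 ∧ (π a).support.card = 3 ∧ (π b).support.card = 3 := by
  obtain ⟨mu, ma, -⟩ := h.memA
  have mρ := (mem_norm_three h.c3 h.c1).2 (.inl r3)
  have e1 : (π a).support.card = (π u).support.card := by rw [← r1, ph.map_conj mρ mu, Perm.card_support_conj]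
  have e2 : (π b).support.card = (π u).support.card := by rw [← r2, ph.map_conj mρ ma, Perm.card_support_conj, e1]
  rw [e1, e2, and_self, and_self]
  have f := h.f9A ph
  have r : ∀ t : Perm (Fin 9), t ^ 3 = 1 → (π u).support.card = t.support.card → ∃ a' b' na nb nc,
      F9 t a' b' na nb nc ∧ a'.support.card = t.support.card ∧ b'.support.card = t.support.card := fun t t3 e => by
    obtain ⟨g, rfl⟩ := isConj_iff.1 (isConj_of_supp Nat.prime_three f.u3 t3 e)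
    exact ⟨_, _, _, _, _, h.f9A (ph.equiv (MulAut.conj g)), Perm.card_support_conj.trans (e1.trans e),
      Perm.card_support_conj.trans (e2.trans e)⟩
  obtain ⟨j, d⟩ := dvd_supp Nat.prime_three f.u3
  have l : (π u).support.card ≤ 9 := Finset.card_le_univ _
  have l0 : (π u).support.card ≠ 0 := by simpa using f.u1
  obtain ⟨-, -, w1, w2, w3, w4⟩ := y_facts
  rcases (by omega : j = 1 ∨ j = 2 ∨ j = 3) with rfl | rfl | rfl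
  · exact d
  · obtain ⟨a', b', _, _, _, f, sa, sb⟩ := r _ w1 (d.trans w2.symm)
    obtain ⟨p, r, p1, p2, r1, -, -, p3, p4, r3⟩ := f.pr
    exact absurd (y_six p p1 p2 a' f.au f.a3 p3 (sa.trans w2) b' f.bu f.b3 p4 (sb.trans w2)) (nz f.b3 f.b1 r3 r1)
  · obtain ⟨a', b', _, _, _, f, -, -⟩ := r _ w3 (d.trans w4.symm)
    obtain ⟨p, r, p1, p2, r1, r2, pr, p3, p4, r3⟩ := f.pr
    rcases y_nine p p1 p2 r r1 r2 pr with rfl | rfl | rfl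
    exacts [absurd (by simp) (nz f.a3 f.a1 p3 (Commute.one_left a')),
      absurd (by simp) (nz f.b3 f.b1 r3 (Commute.one_left b')), absurd (by simp) (nz f.b3 f.b1 r3 p4)]

theorem Fm.vw (h : Fm u a b c na nb nc) (ph : PH 𝐍[zpowers c] (zpowers c) π)
    (su : (π u).support.card = 3) (sa : (π a).support.card = 3) (sb : (π b).support.card = 3) :
    ∃ π, Vw u a b c nc π := by
  have k : ∀ {g x y : Perm (Fin 9)}, x = y → Commute g y → MulAut.conj g x = y := by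
    rintro g x _ rfl e; exact mul_inv_eq_iff_eq_mul.2 e
  obtain ⟨g, d⟩ := isConj_iff.1 (isConj_of_supp Nat.prime_three (h.f9A ph).u3 y_facts.1 (su.trans y_facts.2.1.symm))
  obtain ⟨π, p1, d, sa, sb⟩ : ∃ π : G → Perm (Fin 9), PH 𝐍[zpowers c] (zpowers c) π ∧ π u = ya1 ∧
    (π a).support.card = 3 ∧ (π b).support.card = 3 := ⟨_, ph.equiv (MulAut.conj g), d,
      (Perm.card_support_conj (σ := g)).trans sa, (Perm.card_support_conj (σ := g)).trans sb⟩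
  have f := h.f9A p1
  rw [d] at f
  obtain ⟨g, g1, g2⟩ := (y_two _ f.au f.a3 sa).resolve_left (nz f.u3 f.u1 f.ic.u f.ic.b)
  obtain ⟨π, p1, d, d', sb⟩ : ∃ π : G → Perm (Fin 9), PH 𝐍[zpowers c] (zpowers c) π ∧ π u = ya1 ∧
    π a = ya2 ∧ (π b).support.card = 3 := ⟨_, p1.equiv (MulAut.conj g), k d g1, g2,
      (Perm.card_support_conj (σ := g)).trans sb⟩
  have f := h.f9A p1
  rw [d, d'] at f
  obtain ⟨g, g1, g2, g3, g4⟩ := ((y_three _ f.bu f.ba f.b3 sb).resolve_left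
    (nz f.u3 f.u1 f.ic.u f.ic.c)).resolve_left (nz f.a3 f.a1 f.ia.a f.ia.b) _ f.ic.b f.ic.c f.ic.sq f.ic.u
  exact ⟨_, p1.equiv (MulAut.conj g), k d g1, k d' g2, g3, g4⟩

theorem altA (h3 : u1 ^ 3 = 1) (h1 : u1 ≠ 1) (c12 : Commute u1 u2) (c13 : Commute u1 u3)
    (c14 : Commute u1 u4) (c23 : Commute u2 u3) (c24 : Commute u2 u4) (c34 : Commute u3 u4)
    (cj : ∀ g, Commute g u1 → Commute g u2 → Commute g u3 → Commute g u4 → g ^ 3 = 1)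
    (r1 : ρ * u1 * ρ⁻¹ = u2) (r2 : ρ * u2 * ρ⁻¹ = u4) (r4 : ρ * u4 * ρ⁻¹ = u1) (r3 : ρ * u3 * ρ⁻¹ = u3)
    (d1 : c * u1 * c⁻¹ = u1) (d2 : c * u2 * c⁻¹ = u2) (d3 : c * u3 * c⁻¹ = u4)
    (d4 : c * u4 * c⁻¹ = u3⁻¹) (ph : PH 𝐍[zpowers u3] (zpowers u3) π) :
    ∃ n2 n3 n4, Fm u1 u2 u3 u4 n2 n3 n4 ∧ (∃ π, Vw u1 u3 u4 u2 n2 π) ∧ (∃ π, Vw u1 u2 u4 u3 n3 π) ∧
      ∃ π, Vw u1 u2 u3 u4 n4 π := by
  obtain ⟨n2, n3, n4, f⟩ := exists_Fm h3 h1 c12 c13 c14 c23 c24 c34 cj r1 r2 r4 r3 d1 d2 d3 d4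
  obtain ⟨s1, s2, s4⟩ := f.swap'.supp ph r1 r2 r3
  have s4' : (π u4⁻¹).support.card = 3 := by rw [ph.map_inv f.swap'.memA.2.2.1, Perm.support_inv, s4]
  have t : ∀ {g y}, g * u3 * g⁻¹ = y → PH 𝐍[zpowers y] (zpowers y) fun x => π (g⁻¹ * x * g) := by
    rintro g _ rfl
    have := ph.cj g
    rwa [← normalizer_cj, MonoidHom.map_zpowers] at this
  have i : ∀ {g x y : G}, g * x * g⁻¹ = y → g⁻¹ * y * g = x := by rintro g x _ rfl; group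
  have d4' : c * u4⁻¹ * c⁻¹ = u3 := by rw [← conj_inv, d4, inv_inv]
  have e : ∀ x, (ρ⁻¹ * c)⁻¹ * x * (ρ⁻¹ * c) = c⁻¹ * (ρ * x * ρ⁻¹) * c := fun x => by group
  refine ⟨n2, n3, n4, f, f.swap.swap'.vw (t (g := ρ⁻¹ * c) (by rw [← i r2, ← d3]; group)) ?_ ?_ ?_,
    f.swap'.vw ph s1 s2 s4, f.vw (t d3) ?_ ?_ ?_⟩
  exacts [by rwa [e, r1, i d2], by rwa [e, r3, i d4'], by rwa [e, r4, i d1], by rwa [i d1], by rwa [i d2],
    by rwa [i d4']]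

end Cfsg.Agent.HNL
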