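import Cfsg.Agent.HNL.AltD

/-! The 3-cycles `(0 1 j)` seen from one view.

Use `pd!` (Loc3/PD) for the facts in `S₉`; API of `PH`/`WH` in Loc3/Tools5; `mem_zpowers_three`,
`mem_norm_three`, `ne_inv3` (Loc3).  Everything below (`u, a, b, na, nb, nc`, `x` with `Xs`) normalises `⟨c⟩`.

Key trick `T`: if `x` commutes with `c`, `(x u)² = 1`, `n` inverts `u` and `n x n⁻¹ = x⁻¹ w` with `w ∈ ⟨c⟩`, then `w = 1`:
`n (x u) n⁻¹ = x⁻¹ u⁻¹ w` is an involution, `x⁻¹ u⁻¹ = (u x)⁻¹` is conjugate to `(x u)⁻¹`, so `w² = 1`.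
`π nb`: an involution commuting with `swap 0 1` and `(345)`, inverting `(012), (678)`; so it is `(0 1)(p q)` with `p, q ∈ {6,7,8}`;
similarly `π na = (0 1)(p q)`, `p, q ∈ {3,4,5}` (`pd!`).

`img`: `y = π x` commutes with `(678)`, `y³ = 1`, inverted by `(0 1)`, `(y (012))² = 1`; `pd!` gives `y (012) = 1` or `y = (0 1 j)`,
`j ∈ {3,4,5}`; in the first case `x u ∈ ⟨c⟩` has square 1, so `x u = 1`.
`ex`: `(0 1 j) = σ (012) σ⁻¹` (`σ = swap 2 j`); lift `σ = π g`, `x₀ = g u g⁻¹`, `x₀³ = 1`, so `x₀` centralises `c` (an element of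
order 3 of `N(⟨c⟩)` cannot invert `c`); `w = (x₀ u)² ∈ ⟨c⟩`; `x = x₀ w` has `x³ = 1`, `(x u)² = w³ = 1`.  `s = x u`:
`s b s⁻¹ = b w'` with `w' ∈ ⟨c⟩`, `s² = 1` and `s` commutes with `c`, so `w'² = 1`, `w' = 1`; hence `x` commutes with `b`.
Inverted by `nb, nc`: trick `T`.
`inj`: `x' = x w` with `w ∈ ⟨c⟩`, `1 = (x' u)² = w²`.
`rel1`, `rel2`: `w = (x y)² ∈ ⟨c⟩` since `((0 1 i)(0 1 j))² = 1` for `i ≠ j` (for `rel2` use `Vw.swap`/`Fm.swap` with `img`, or redo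
the `pd!` with `{6,7,8}`); if `n` centralises `c` and inverts `x, y` then `w = n w n⁻¹ = (x⁻¹y⁻¹)² = y w⁻¹ y⁻¹ = w⁻¹`, so `w = 1`.
`rel1`: `n = nb`.  `rel2`: `n = aⁱ na a⁻ⁱ` with `i` such that `π n = (0 1)(p q)` fixes `j` where `π x = (0 1 j)`; it centralises
`c`, inverts `u` and `y` (`a` commutes with `y`), and inverts `x` by trick `T`.
`word`: by `img`, `π` of the word is `(345)` (`pd!`, three cases), so `word * a⁻¹ ∈ ⟨c⟩`; in the view from `b` (`Fm.swap'`, `Xs.swap`)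
it is in `⟨b⟩`; `⟨b⟩ ∩ ⟨c⟩ = 1` because `nb` inverts `b` and centralises `c`. -/

set_option autoImplicit false
set_option linter.unusedSectionVars false
set_option synthInstance.maxSize 100000
set_option synthInstance.maxHeartbeats 400000

namespace Cfsg.Agent.HNL

open Subgroup Equiv Cfsg.Agent.Comp Cfsg.Agent.Loc3 Cfsg.Agent.PLocal.Amb

variable {G : Type*} [Group G] [Finite G] {u a b c na nb nc x y : G} {π π' : G → Perm (Fin 9)}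

namespace AltB

omit [Finite G]

theorem cjc {g t : G} (e : Commute g t) : g * t * g⁻¹ = t := mul_inv_eq_iff_eq_mul.2 e.eq

theorem one_of_sq {w : G} (c3 : c ^ 3 = 1) (hw : w ∈ zpowers c) (e : w * w = 1) : w = 1 := by
  have h3 : w ^ 3 = 1 := by
    obtain ⟨k, rfl⟩ := hw
    rw [← zpow_natCast, ← zpow_mul, mul_comm, zpow_mul, zpow_natCast, c3, one_zpow]
  rw [pow_succ, pow_two, e, one_mul] at h3
  exact h3

theorem cm {w g : G} (hw : w ∈ zpowers c) (e : Commute g c) : Commute g w := by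
  obtain ⟨k, rfl⟩ := hw
  exact e.zpow_right k

theorem cjX {g : G} (hx : Xs u b c nb nc x) (eu : Commute g u) (eb : Commute g b) (ec : Commute g c)
    (e1 : Commute g nb) (e2 : Commute g nc) : Xs u b c nb nc (g * x * g⁻¹) := by
  have k : ∀ {n : G}, Commute g n → n * x * n⁻¹ = x⁻¹ →
      n * (g * x * g⁻¹) * n⁻¹ = (g * x * g⁻¹)⁻¹ := fun {n} e a => by
    calc n * (g * x * g⁻¹) * n⁻¹ = (g * n * g⁻¹) * (g * x * g⁻¹) * (g * n * g⁻¹)⁻¹ := by rw [cjc e]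
      _ = g * (n * x * n⁻¹) * g⁻¹ := by group
      _ = _ := by rw [a]; group
  have m : g * x * g⁻¹ * u = g * (x * u) * g⁻¹ := by
    conv_lhs => rw [← cjc eu]
    group
  refine ⟨by rw [conj_pow, hx.x3]; simp, cjc eb ▸ hx.b.conj g, cjc ec ▸ hx.c.conj g, ?_, ?_,
    k e1 hx.nb, k e2 hx.nc⟩
  · rw [m]
    calc _ = g * (x * u * (x * u)) * g⁻¹ := by group
      _ = 1 := by rw [hx.sq]; simp
  · rw [m]
    simpa using hx.ne

theorem trick {n : G} (c3 : c ^ 3 = 1) (xc : Commute x c) (uc : Commute u c)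
    (sq : x * u * (x * u) = 1) (nu : n * u * n⁻¹ = u⁻¹) (hw : n * x * n⁻¹ * x ∈ zpowers c) :
    n * x * n⁻¹ = x⁻¹ := by
  refine eq_inv_of_mul_eq_one_left (one_of_sq c3 hw ?_)
  obtain ⟨w, e⟩ : ∃ w, w = n * x * n⁻¹ * x := ⟨_, rfl⟩
  rw [← e] at hw ⊢
  have e1 : n * x * n⁻¹ = w * x⁻¹ := by rw [e]; group
  have e2 : w * x⁻¹ * u⁻¹ * (w * x⁻¹ * u⁻¹) = 1 := by
    rw [← e1, ← nu]
    calc _ = n * (x * u * (x * u)) * n⁻¹ := by group
      _ = 1 := by rw [sq]; simp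
  have e3 : x⁻¹ * u⁻¹ * w = w * (x⁻¹ * u⁻¹) :=
    ((cm hw xc).inv_left.mul_left (cm hw uc).inv_left).eq
  calc w * w = w * w * (u * (x * u * (x * u)) * u⁻¹)⁻¹ := by rw [sq]; simp
    _ = w * (w * (x⁻¹ * u⁻¹)) * (x⁻¹ * u⁻¹) := by group
    _ = w * x⁻¹ * u⁻¹ * (w * x⁻¹ * u⁻¹) := by rw [← e3]; group
    _ = 1 := e2

theorem rel {n : G} (c3 : c ^ 3 = 1) (hw : x * y * (x * y) ∈ zpowers c) (yc : Commute y c)
    (nc : Commute n c) (nx : n * x * n⁻¹ = x⁻¹) (ny : n * y * n⁻¹ = y⁻¹) : x * y * (x * y) = 1 := by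
  refine one_of_sq c3 hw ?_
  calc _ = (n * (x * y * (x * y)) * n⁻¹) * (y * (x * y * (x * y)) * y⁻¹) := by
        rw [cjc (cm hw nc), cjc (cm hw yc)]
    _ = (n * x * n⁻¹) * (n * y * n⁻¹) * ((n * x * n⁻¹) * (n * y * n⁻¹)) *
        (y * (x * y * (x * y)) * y⁻¹) := by group
    _ = 1 := by rw [nx, ny]; group

abbrev cy (j : Fin 9) : Perm (Fin 9) := Equiv.swap j 0 * Equiv.swap 0 1

end AltB

open AltB

namespace Fm

variable (h : Fm u a b c na nb nc)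
include h

omit [Finite G] in
theorem cjX (hx : Xs u b c nb nc x) : Xs u b c nb nc (a * x * a⁻¹) :=
  AltB.cjX hx h.ua.symm h.ab h.ac h.ib.b.symm h.ic.b.symm

omit [Finite G] in
theorem cjX' (hx : Xs u b c nb nc x) : Xs u b c nb nc (a⁻¹ * x * a) := by
  simpa using AltB.cjX hx h.ua.symm.inv_left h.ab.inv_left h.ac.inv_left h.ib.b.symm.inv_left
    h.ic.b.symm.inv_left

theorem mN {g : G} (e : Commute g c) : g ∈ 𝐍[zpowers c] := (mem_norm_three h.c3 h.c1).2 (.inl (cjc e))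

theorem ncN : nc ∈ 𝐍[zpowers c] := (mem_norm_three h.c3 h.c1).2 (.inr h.ic.a)

variable (v : Vw u a b c nc π)
include v

theorem πc {g k : G} (hg : g ∈ 𝐍[zpowers c]) (hk : k ∈ 𝐍[zpowers c]) (e : Commute g k) :
    Commute (π g) (π k) := by
  rw [Commute, SemiconjBy, ← v.ph.mul hg hk, e.eq, v.ph.mul hk hg]

theorem πi {g k : G} (hg : g ∈ 𝐍[zpowers c]) (hk : k ∈ 𝐍[zpowers c]) (e : g * k * g⁻¹ = k⁻¹) :
    π g * π k * (π g)⁻¹ = (π k)⁻¹ := by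
  rw [← v.ph.map_conj hg hk, e, v.ph.map_inv hk]

theorem πs {g : G} (hg : g ∈ 𝐍[zpowers c]) (e : g * g = 1) : π g * π g = 1 := by
  rw [← v.ph.mul hg hg, e, v.ph.map_one]

theorem trick {n : G} (hn : n ∈ 𝐍[zpowers c]) (xc : Commute x c) (sq : x * u * (x * u) = 1)
    (nu : n * u * n⁻¹ = u⁻¹) (e : π n * π x * (π n)⁻¹ = (π x)⁻¹) : n * x * n⁻¹ = x⁻¹ := by
  have hx := h.mN xc
  have m := mul_mem (mul_mem hn hx) (inv_mem hn)
  refine AltB.trick h.c3 xc h.uc sq nu ((v.ph.ker (mul_mem m hx)).1 ?_)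
  rw [v.ph.mul m hx, v.ph.map_conj hn hx, e, inv_mul_cancel]

theorem img0 {b' n' : G} (hx : Xs u b' c n' nc x) :
    π x ^ 3 = 1 ∧ Equiv.swap 0 1 * π x * (Equiv.swap 0 1)⁻¹ = (π x)⁻¹ ∧
      π x * π u * (π x * π u) = 1 ∧ π x * π u ≠ 1 := by
  have m := h.mN hx.c
  have mu := h.mN h.uc
  refine ⟨by rw [← v.ph.map_pow m, hx.x3, v.ph.map_one], v.n ▸ h.πi v h.ncN m hx.nc, ?_, fun e => ?_⟩
  · rw [← v.ph.mul m mu]
    exact h.πs v (mul_mem m mu) hx.sq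
  · rw [← v.ph.mul m mu] at e
    exact hx.ne (one_of_sq h.c3 ((v.ph.ker (mul_mem m mu)).1 e) hx.sq)

theorem imgL (hx : Xs u b c nb nc x) : π x ∈ [cy 3, cy 4, cy 5] := by
  obtain ⟨e1, e2, e3, e4⟩ := h.img0 v hx
  have e0 := h.πc v (h.mN hx.c) (h.mN h.bc) hx.b
  rw [v.b] at e0
  rw [v.u] at e3 e4
  exact (pd! : ∀ y : Perm (Fin 9), Commute y (Equiv.swap 6 7 * Equiv.swap 7 8) → y ^ 3 = 1 →
    Equiv.swap 0 1 * y * (Equiv.swap 0 1)⁻¹ = y⁻¹ →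
    y * (Equiv.swap 0 1 * Equiv.swap 1 2) * (y * (Equiv.swap 0 1 * Equiv.swap 1 2)) = 1 →
    y * (Equiv.swap 0 1 * Equiv.swap 1 2) ≠ 1 → y ∈ [cy 3, cy 4, cy 5]) _ e0 e1 e2 e3 e4

theorem imgR (hy : Xs u a c na nc y) : π y ∈ [cy 6, cy 7, cy 8] := by
  obtain ⟨e1, e2, e3, e4⟩ := h.img0 v hy
  have e0 := h.πc v (h.mN hy.c) (h.mN h.ac) hy.b
  rw [v.a] at e0
  rw [v.u] at e3 e4
  exact (pd! : ∀ y : Perm (Fin 9), Commute y (Equiv.swap 3 4 * Equiv.swap 4 5) → y ^ 3 = 1 →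
    Equiv.swap 0 1 * y * (Equiv.swap 0 1)⁻¹ = y⁻¹ →
    y * (Equiv.swap 0 1 * Equiv.swap 1 2) * (y * (Equiv.swap 0 1 * Equiv.swap 1 2)) = 1 →
    y * (Equiv.swap 0 1 * Equiv.swap 1 2) ≠ 1 → y ∈ [cy 6, cy 7, cy 8]) _ e0 e1 e2 e3 e4

theorem img (hx : Xs u b c nb nc x) : ∃ j ∈ ([3, 4, 5] : List (Fin 9)), π x = Equiv.swap j 0 * Equiv.swap 0 1 := by
  have := h.imgL v hx
  simp only [List.mem_cons, List.not_mem_nil, or_false] at this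
  rcases this with e | e | e
  exacts [⟨3, by simp, e⟩, ⟨4, by simp, e⟩, ⟨5, by simp, e⟩]

theorem πnb : ∀ y ∈ [cy 3, cy 4, cy 5], π nb * y * (π nb)⁻¹ = y⁻¹ := by
  have m := h.mN h.ib.c
  have e1 := h.πc v m (h.mN h.ac) h.ib.b
  have e2 := h.πc v m h.ncN h.nbc
  have e3 := h.πs v m h.ib.sq
  have e4 := h.πi v m (h.mN h.uc) h.ib.u
  rw [v.a] at e1
  rw [v.n] at e2
  rw [v.u] at e4
  exact (pd! : ∀ P : Perm (Fin 9), Commute P (Equiv.swap 3 4 * Equiv.swap 4 5) →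
    Commute P (Equiv.swap 0 1) → P * P = 1 →
    P * (Equiv.swap 0 1 * Equiv.swap 1 2) * P⁻¹ = (Equiv.swap 0 1 * Equiv.swap 1 2)⁻¹ →
    ∀ y ∈ [cy 3, cy 4, cy 5], P * y * P⁻¹ = y⁻¹) _ e1 e2 e3 e4

theorem ex {j : Fin 9} (hj : j ∈ ([3, 4, 5] : List (Fin 9))) :
    ∃ x, Xs u b c nb nc x ∧ π x = Equiv.swap j 0 * Equiv.swap 0 1 := by
  have hL : cy j ∈ [cy 3, cy 4, cy 5] := List.mem_map_of_mem (f := cy) hj
  obtain ⟨σ, -, f1⟩ := (pd! : ∀ y ∈ [cy 3, cy 4, cy 5], ∃ σ ∈ [Equiv.swap 2 3, Equiv.swap 2 4, Equiv.swap 2 5],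
    σ * (Equiv.swap 0 1 * Equiv.swap 1 2) * σ⁻¹ = y) _ hL
  obtain ⟨f2, f3, f4, f5⟩ := (pd! : ∀ y ∈ [cy 3, cy 4, cy 5],
    y * (Equiv.swap 0 1 * Equiv.swap 1 2) * (y * (Equiv.swap 0 1 * Equiv.swap 1 2)) = 1 ∧
    y * (Equiv.swap 0 1 * Equiv.swap 1 2) ≠ 1 ∧
    Commute (y * (Equiv.swap 0 1 * Equiv.swap 1 2)) (Equiv.swap 6 7 * Equiv.swap 7 8) ∧
    Equiv.swap 0 1 * y * (Equiv.swap 0 1)⁻¹ = y⁻¹) _ hL
  obtain ⟨g, hg, rfl⟩ := v.ph.surj σ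
  have mu := h.mN h.uc
  have mb := h.mN h.bc
  rw [← v.u, ← v.ph.map_conj hg mu] at f1
  have xc : Commute (g * u * g⁻¹) c := by
    rcases (mem_norm_three h.c3 h.c1).1 hg with e | e
    · exact e ▸ h.uc.conj g
    · exact (Commute.inv_right_iff.1 (e ▸ h.uc.conj g))
  have x3 : (g * u * g⁻¹) ^ 3 = 1 := by rw [conj_pow, h.u3]; simp
  generalize g * u * g⁻¹ = x at f1 xc x3
  have mx := h.mN xc
  obtain ⟨w, ew⟩ : ∃ w, w = x * u * (x * u) := ⟨_, rfl⟩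
  have hw : w ∈ zpowers c := by
    rw [ew, ← v.ph.ker (mul_mem (mul_mem mx mu) (mul_mem mx mu)),
      v.ph.mul (mul_mem mx mu) (mul_mem mx mu), v.ph.mul mx mu, f1, v.u, f2]
  have w3 : w ^ 3 = 1 := by
    obtain ⟨k, rfl⟩ := hw
    rw [← zpow_natCast, ← zpow_mul, mul_comm, zpow_mul, zpow_natCast, h.c3, one_zpow]
  have xw := cm hw xc
  have uw := cm hw h.uc
  have yc : Commute (x * w) c := xc.mul_left (cm hw (Commute.refl c)).symm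
  have my := h.mN yc
  have py : π (x * w) = cy j := by rw [v.ph.mul mx (v.ph.le hw), v.ph.of_mem hw, mul_one, f1]
  have sq : x * w * u * (x * w * u) = 1 := by
    have e1 : x * w * u = w * (x * u) := by rw [xw.eq, mul_assoc]
    have e2 : x * u * w = w * (x * u) := (xw.mul_left uw).eq
    calc _ = w * (x * u * w) * (x * u) := by rw [e1]; group
      _ = w * w * (x * u * (x * u)) := by rw [e2]; group
      _ = 1 := by rw [← ew, ← w3, pow_succ, pow_two]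
  have y3 : (x * w) ^ 3 = 1 := by rw [xw.mul_pow, x3, w3, one_mul]
  generalize x * w = y at yc my py sq y3
  have ms := mul_mem my mu
  have ps : π (y * u) = cy j * (Equiv.swap 0 1 * Equiv.swap 1 2) := by rw [v.ph.mul my mu, py, v.u]
  have sb : Commute (y * u) b := by
    have sc := yc.mul_left h.uc
    generalize y * u = s at sq ms ps sc
    have m := mul_mem (mul_mem ms mb) (inv_mem ms)
    have hz : s * b * s⁻¹ * b⁻¹ ∈ zpowers c := by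
      rw [← v.ph.eq_iff m mb, v.ph.map_conj ms mb, ps, v.b, cjc f4]
    obtain ⟨z, ez⟩ : ∃ z, z = s * b * s⁻¹ * b⁻¹ := ⟨_, rfl⟩
    rw [← ez] at hz
    have e1 : s * b * s⁻¹ = z * b := by rw [ez]; group
    have e2 : z * z = 1 := by
      calc z * z = (s * z * s⁻¹) * (s * b * s⁻¹) * b⁻¹ := by rw [cjc (cm hz sc), e1]; group
        _ = s * (z * b) * s⁻¹ * b⁻¹ := by group
        _ = (s * s) * b * (s * s)⁻¹ * b⁻¹ := by rw [← e1]; group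
        _ = 1 := by rw [sq]; simp
    rw [one_of_sq h.c3 hz e2, one_mul] at e1
    exact mul_inv_eq_iff_eq_mul.1 e1
  refine ⟨y, ⟨y3, by simpa using sb.mul_left h.ub.inv_left, yc, sq, fun e => f3 ?_,
    h.trick v (h.mN h.ib.c) yc sq h.ib.u ?_, h.trick v h.ncN yc sq h.ic.u ?_⟩, py⟩
  · rw [← ps, e, v.ph.map_one]
  · rw [py]; exact h.πnb v _ hL
  · rw [py, v.n]; exact f5

theorem inj (hx : Xs u b c nb nc x) (hy : Xs u b c nb nc y) (e : π x = π y) : x = y := by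
  have hw := (v.ph.eq_iff (h.mN hx.c) (h.mN hy.c)).1 e
  refine mul_inv_eq_one.1 (one_of_sq h.c3 hw ?_)
  obtain ⟨w, ew⟩ : ∃ w, w = x * y⁻¹ := ⟨_, rfl⟩
  rw [← ew] at hw ⊢
  have e1 : x = w * y := by rw [ew]; group
  have e2 : y * u * w = w * (y * u) := (cm hw (hy.c.mul_left h.uc)).eq
  calc w * w = w * (w * (y * u)) * (y * u) := by rw [mul_assoc, mul_assoc, hy.sq]; simp
    _ = x * u * (x * u) := by rw [← e2, e1]; group
    _ = 1 := hx.sq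

theorem memw (xc : Commute x c) (yc : Commute y c) (e : π x * π y * (π x * π y) = 1) :
    x * y * (x * y) ∈ zpowers c := by
  have m := mul_mem (h.mN xc) (h.mN yc)
  rw [← v.ph.ker (mul_mem m m), v.ph.mul m m, v.ph.mul (h.mN xc) (h.mN yc), e]

theorem rel1 (hx : Xs u b c nb nc x) (hy : Xs u b c nb nc y) (e : x ≠ y) : x * y * (x * y) = 1 :=
  rel h.c3 (h.memw v hx.c hy.c ((pd! : ∀ x ∈ [cy 3, cy 4, cy 5], ∀ y ∈ [cy 3, cy 4, cy 5], x ≠ y →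
    x * y * (x * y) = 1) _ (h.imgL v hx) _ (h.imgL v hy) fun a => e (h.inj v hx hy a))) hy.c h.ib.c
    hx.nb hy.nb

theorem rel2 (hx : Xs u b c nb nc x) (hy : Xs u a c na nc y) : x * y * (x * y) = 1 := by
  have hw := h.memw v hx.c hy.c ((pd! : ∀ x ∈ [cy 3, cy 4, cy 5], ∀ y ∈ [cy 6, cy 7, cy 8],
    x * y * (x * y) = 1) _ (h.imgL v hx) _ (h.imgR v hy))
  have m := h.mN h.ia.c
  have ma := h.mN h.ac
  have e1 := h.πc v m (h.mN h.bc) h.ia.b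
  have e2 := h.πc v m h.ncN h.nac
  have e3 := h.πs v m h.ia.sq
  have e4 := h.πi v m (h.mN h.uc) h.ia.u
  have e5 := h.πi v m ma h.ia.a
  rw [v.b] at e1
  rw [v.n] at e2
  rw [v.u] at e4
  rw [v.a] at e5
  obtain ⟨g, hg, e⟩ := (pd! : ∀ P : Perm (Fin 9), Commute P (Equiv.swap 6 7 * Equiv.swap 7 8) →
    Commute P (Equiv.swap 0 1) → P * P = 1 →
    P * (Equiv.swap 0 1 * Equiv.swap 1 2) * P⁻¹ = (Equiv.swap 0 1 * Equiv.swap 1 2)⁻¹ →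
    P * (Equiv.swap 3 4 * Equiv.swap 4 5) * P⁻¹ = (Equiv.swap 3 4 * Equiv.swap 4 5)⁻¹ →
    ∀ y ∈ [cy 3, cy 4, cy 5], ∃ g ∈ [1, Equiv.swap 3 4 * Equiv.swap 4 5, (Equiv.swap 3 4 * Equiv.swap 4 5)⁻¹],
      g * P * g⁻¹ * y * (g * P * g⁻¹)⁻¹ = y⁻¹) _ e1 e2 e3 e4 e5 _ (h.imgL v hx)
  obtain ⟨k, rfl, ku, kc, ky⟩ : ∃ k, π k = g ∧ Commute k u ∧ Commute k c ∧ Commute k y := by
    simp only [List.mem_cons, List.not_mem_nil, or_false] at hg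
    rcases hg with rfl | rfl | rfl
    exacts [⟨1, v.ph.map_one, by simp, by simp, by simp⟩, ⟨a, v.a, h.ua.symm, h.ac, hy.b.symm⟩,
      ⟨a⁻¹, by rw [v.ph.map_inv ma, v.a], h.ua.symm.inv_left, h.ac.inv_left, hy.b.symm.inv_left⟩]
  have mk := h.mN kc
  have i : ∀ {t : G}, Commute k t → na * t * na⁻¹ = t⁻¹ →
      k * na * k⁻¹ * t * (k * na * k⁻¹)⁻¹ = t⁻¹ := fun {t} e a => by
    calc _ = k * na * k⁻¹ * (k * t * k⁻¹) * (k * na * k⁻¹)⁻¹ := by rw [cjc e]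
      _ = k * (na * t * na⁻¹) * k⁻¹ := by group
      _ = _ := by rw [a, cjc e.inv_right]
  have nc' : Commute (k * na * k⁻¹) c := (kc.mul_left h.ia.c).mul_left kc.inv_left
  rw [← v.ph.map_conj mk m] at e
  exact rel h.c3 hw hy.c nc' (h.trick v (h.mN nc') hx.c hx.sq (i ku h.ia.u) e) (i ky hy.nb)

theorem word0 (hx : Xs u b c nb nc x) :
    x * (a⁻¹ * x * a)⁻¹ * (a * x * a⁻¹) * x⁻¹ * a⁻¹ ∈ zpowers c := by
  have mx := h.mN hx.c
  have ma := h.mN h.ac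
  have m1 := mul_mem (mul_mem (inv_mem ma) mx) ma
  have m2 := mul_mem (mul_mem ma mx) (inv_mem ma)
  have m3 := mul_mem mx (inv_mem m1)
  rw [← v.ph.eq_iff (mul_mem (mul_mem m3 m2) (inv_mem mx)) ma, v.ph.mul (mul_mem m3 m2) (inv_mem mx),
    v.ph.mul m3 m2, v.ph.mul mx (inv_mem m1), v.ph.map_inv m1, v.ph.map_inv mx,
    v.ph.map_conj ma mx, v.ph.mul (mul_mem (inv_mem ma) mx) ma, v.ph.mul (inv_mem ma) mx,
    v.ph.map_inv ma, v.a]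
  exact (pd! : ∀ y ∈ [cy 3, cy 4, cy 5], y * ((Equiv.swap 3 4 * Equiv.swap 4 5)⁻¹ * y *
    (Equiv.swap 3 4 * Equiv.swap 4 5))⁻¹ * (Equiv.swap 3 4 * Equiv.swap 4 5 * y *
    (Equiv.swap 3 4 * Equiv.swap 4 5)⁻¹) * y⁻¹ = Equiv.swap 3 4 * Equiv.swap 4 5) _ (h.imgL v hx)

theorem word (v' : Vw u a c b nb π') (hx : Xs u b c nb nc x) :
    x * (a⁻¹ * x * a)⁻¹ * (a * x * a⁻¹) * x⁻¹ = a := by
  have h1 := h.word0 v hx
  have h2 := h.swap'.word0 v' hx.swap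
  refine mul_inv_eq_one.1 (one_of_sq h.c3 h1 ?_)
  generalize x * (a⁻¹ * x * a)⁻¹ * (a * x * a⁻¹) * x⁻¹ * a⁻¹ = z at h1 h2
  have e1 := cjc (cm h1 h.ib.c)
  have e2 : nb * z * nb⁻¹ = z⁻¹ := by
    obtain ⟨k, rfl⟩ := h2
    rw [← conj_zpow, h.ib.a, inv_zpow]
  rw [e1] at e2
  exact mul_eq_one_iff_eq_inv.2 e2

end Fm

end Cfsg.Agent.HNL
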