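import Cfsg.Agent.HNL.AltB
import Cfsg.Agent.KSG.Carmichael

/-! The subgroup `A₁₂` generated from the frame.

Uses the lemmas of `HNL/AltB` (with `Fm.swap`, `Fm.swap'`, `Vw.swap`, `Xs.swap` of `HNL/AltD`).
Pick `x2 ∈ Xs u1 u3 u4 n3 n4`, `x3 ∈ Xs u1 u2 u4 n2 n4`, `x4 ∈ Xs u1 u2 u3 n2 n3` by `Fm.ex`.  Let `X : Fin 12 → G` be
`![1, 1, u1, x2, u2 x2 u2⁻¹, u2⁻¹ x2 u2, x3, u3 x3 u3⁻¹, u3⁻¹ x3 u3, x4, u4 x4 u4⁻¹, u4⁻¹ x4 u4]`.
`KSG.exists_hom_alt_of_carmichael` (`u = 0`, `v = 1`; `c3 j 0 1 = swap j 0 * swap 0 1 = (0 1 j)`): cubes by `Xs.x3`; `(X i X j)² = 1`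
from `Xs.sq` (one of them `u1`; `(u x)²` is conjugate to `(x u)²`), `rel1` (same block; the three elements of a block are distinct as
their images `(0 1 j)` under the view are: `img` + `map_conj` + `pd!`), `rel2` (different blocks).  It may help to prove first
`∀ i ∈ block k, Xs … (X i)` and argue by blocks instead of 100 cases.
`α w1 = u1` as `w1 = c3 2 0 1`; `w2 = c3 3 0 1 * (c3 5 0 1)⁻¹ * c3 4 0 1 * (c3 3 0 1)⁻¹` (`pd!`/`decide`), so `α w2 = u2` by
`Fm.word`; the same for `w3, w4`.  Injective: `alternatingGroup.isSimpleGroup` and `α w1 ≠ 1`.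
`C(u4) ≤ range α`: the subgroup `H = range α ⊓ C(u4)` contains `u1`, `u4` and the six `X i`, `3 ≤ i ≤ 8`, whose images under `π4` are all
`(0 1 j)`, `2 ≤ j ≤ 8` (three distinct elements of `Xs` have the three images; for block 3 use `Vw.swap` or conjugate back); these
generate `A₉` (see KSG/Carmichael, `closure_c3…`/the proof there; or `Equiv.Perm.closure_three_cycles_eq_alternating`).  For `g`
commuting with `u4`: if `π4 g` is even, `g ∈ H ⟨u4⟩`; if odd, `g n4 ∈ H ⟨u4⟩ ≤ C(u4)`, so `n4` centralises `u4`, which it inverts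
(`ne_inv3`). -/

set_option autoImplicit false
set_option synthInstance.maxSize 100000
set_option synthInstance.maxHeartbeats 400000

namespace Cfsg.Agent.HNL

open Subgroup Equiv Cfsg.Agent.Comp Cfsg.Agent.Loc3 Cfsg.Agent.PLocal.Amb

variable {G : Type*} [Group G] [Finite G] {u1 u2 u3 u4 n2 n3 n4 : G} {π2 π3 π4 : G → Perm (Fin 9)}

section
variable {u a b c na nb nc x y : G} {π π' : G → Perm (Fin 9)}

theorem Fm.altC_img (h : Fm u a b c na nb nc) (v : Vw u a b c nc π) (hy : Xs u a c na nc y) :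
    ∃ j ∈ ([6, 7, 8] : List (Fin 9)), π y = Equiv.swap j 0 * Equiv.swap 0 1 := by
  have v' : Vw u b a c nc fun g =>
      MulAut.conj (Equiv.swap 3 6 * Equiv.swap 4 7 * Equiv.swap 5 8 : Perm (Fin 9)) (π g) :=
    ⟨v.ph.equiv _, by rw [v.u]; decide, by rw [v.b]; decide, by rw [v.a]; decide,
      by rw [v.n]; decide⟩
  obtain ⟨j, hj, e⟩ := h.swap.img v' hy
  rw [← MulEquiv.eq_symm_apply] at e
  rw [e]
  simp only [List.mem_cons, List.not_mem_nil, or_false] at hj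
  rcases hj with rfl | rfl | rfl
  · exact ⟨6, by simp, by decide⟩
  · exact ⟨7, by simp, by decide⟩
  · exact ⟨8, by simp, by decide⟩

theorem altC_dec (l : List (Fin 9)) (p : Perm (Fin 9))
    (h : l = [3, 4, 5] ∧ p = Equiv.swap 3 4 * Equiv.swap 4 5 ∨
      l = [6, 7, 8] ∧ p = Equiv.swap 6 7 * Equiv.swap 7 8) : ∀ i ∈ l, ∀ k ∈ l,
    KSG.c3 0 1 k = Equiv.swap i 0 * Equiv.swap 0 1 ∨
      KSG.c3 0 1 k = p * (Equiv.swap i 0 * Equiv.swap 0 1) * p⁻¹ ∨
      KSG.c3 0 1 k = p⁻¹ * (Equiv.swap i 0 * Equiv.swap 0 1) * p := by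
  unfold KSG.c3
  rcases h with ⟨rfl, rfl⟩ | ⟨rfl, rfl⟩ <;> decide

theorem Fm.altC_cent (h : Fm u a b c na nb nc) (v : Vw u a b c nc π) (hx : Xs u b c nb nc x)
    (hy : Xs u a c na nc y) {R : Subgroup G} (ru : u ∈ R) (ra : a ∈ R) (rb : b ∈ R) (rc : c ∈ R)
    (rx : x ∈ R) (ry : y ∈ R) {g : G} (hg : Commute g c) : g ∈ R := by
  have nm : ∀ {k : G}, Commute k c → k ∈ 𝐍[zpowers c] := fun {k} hk =>
    (mem_norm_three h.c3 h.c1).2 (Or.inl (by rw [hk.eq, mul_inv_cancel_right]))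
  let P : Subgroup (Perm (Fin 9)) :=
    { carrier := {σ | ∃ k ∈ R, Commute k c ∧ π k = σ}
      one_mem' := ⟨1, one_mem _, Commute.one_left _, v.ph.map_one⟩
      mul_mem' := by
        rintro _ _ ⟨k, k1, k2, rfl⟩ ⟨l, l1, l2, rfl⟩
        exact ⟨k * l, mul_mem k1 l1, k2.mul_left l2, v.ph.mul (nm k2) (nm l2)⟩
      inv_mem' := by
        rintro _ ⟨k, k1, k2, rfl⟩
        exact ⟨k⁻¹, inv_mem k1, k2.inv_left, v.ph.map_inv (nm k2)⟩ }
  have key : ∀ p q : Perm (Fin 9), p ∈ P → q ∈ P → ∀ s, s = q ∨ s = p * q * p⁻¹ ∨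
      s = p⁻¹ * q * p → s ∈ P := by
    rintro p q hp hq s (rfl | rfl | rfl)
    · exact hq
    · exact mul_mem (mul_mem hp hq) (inv_mem hp)
    · exact mul_mem (mul_mem (inv_mem hp) hq) hp
  have pu : π u ∈ P := ⟨u, ru, h.uc, rfl⟩
  have pa : π a ∈ P := ⟨a, ra, h.ac, rfl⟩
  have pb : π b ∈ P := ⟨b, rb, h.bc, rfl⟩
  have px : π x ∈ P := ⟨x, rx, hx.c, rfl⟩
  have py : π y ∈ P := ⟨y, ry, hy.c, rfl⟩
  obtain ⟨i, hi, ex⟩ := h.img v hx
  obtain ⟨j, hj, ey⟩ := h.altC_img v hy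
  rw [v.u] at pu
  rw [v.a] at pa
  rw [v.b] at pb
  rw [ex] at px
  rw [ey] at py
  have hA : alternatingGroup (Fin 9) ≤ P := by
    refine KSG.alternatingGroup_le_of_c3_mem (a := 0) (b := 1) (by decide) fun k k0 k1 => ?_
    have : k = 2 ∨ k ∈ ([3, 4, 5] : List (Fin 9)) ∨ k ∈ ([6, 7, 8] : List (Fin 9)) := by
      revert k; decide
    rcases this with rfl | hk | hk
    · exact pu
    · exact key _ _ pa px _ (altC_dec _ _ (Or.inl ⟨rfl, rfl⟩) i hi k hk)
    · exact key _ _ pb py _ (altC_dec _ _ (Or.inr ⟨rfl, rfl⟩) j hj k hk)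
  have main : ∀ {k : G}, k ∈ 𝐍[zpowers c] → Perm.sign (π k) = 1 → k ∈ R ∧ Commute k c := by
    intro k hk e
    obtain ⟨l, l1, l2, l3⟩ := hA (Perm.mem_alternatingGroup.2 e)
    have hz := (v.ph.eq_iff hk (nm l2)).1 l3.symm
    have e2 : k = k * l⁻¹ * l := by group
    refine ⟨e2 ▸ mul_mem (zpowers_le.2 rc hz) l1, e2 ▸ Commute.mul_left ?_ l2⟩
    obtain ⟨n, hn⟩ := hz
    rw [← hn]
    exact Commute.zpow_self c n
  rcases Int.units_eq_one_or (Perm.sign (π g)) with e | e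
  · exact (main (nm hg) e).1
  · exfalso
    have hn : nc ∈ 𝐍[zpowers c] := (mem_norm_three h.c3 h.c1).2 (Or.inr h.ic.a)
    have := (main (mul_mem (nm hg) hn) (by
      rw [v.ph.mul (nm hg) hn, map_mul, e, v.n, Perm.sign_swap (by decide)]; decide)).2
    have h2 : Commute nc c := by simpa using hg.inv_left.mul_left this
    have h3 := h.ic.a
    rw [h2.eq, mul_inv_cancel_right] at h3
    apply h.c1
    rw [← h.c3, pow_succ, pow_two]
    nth_rw 2 [h3]
    simp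

/-- the three elements of a block -/
def altCb (a x : G) (k : ℕ) : G := if k = 0 then x else if k = 1 then a * x * a⁻¹ else a⁻¹ * x * a

theorem Fm.altC_xs (h : Fm u a b c na nb nc) (hx : Xs u b c nb nc x) (k : ℕ) :
    Xs u b c nb nc (altCb a x k) := by
  unfold altCb
  split_ifs
  exacts [hx, h.cjX hx, h.cjX' hx]

theorem Fm.altC_ne (h : Fm u a b c na nb nc) (v : Vw u a b c nc π) (v' : Vw u a c b nb π')
    (hx : Xs u b c nb nc x) {k l : ℕ} (hk : k < 3) (hl : l < 3) (hkl : k ≠ l) :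
    altCb a x k ≠ altCb a x l := by
  have nc : ¬ Commute a x := fun e => h.a1 (by
    rw [← h.word v v' hx, e.eq, mul_inv_cancel_right, mul_assoc a⁻¹, ← e.eq, inv_mul_cancel_left]
    simp)
  have n1 : x ≠ a * x * a⁻¹ := fun e => nc (by
    rw [Commute, SemiconjBy]; nth_rw 2 [e]; simp)
  have n2 : x ≠ a⁻¹ * x * a := fun e => nc (by
    rw [Commute, SemiconjBy]; nth_rw 1 [e]; simp [mul_assoc])
  have n3 : a * x * a⁻¹ ≠ a⁻¹ * x * a := fun e => n2 (by
    have h3 : a⁻¹ = a * a := by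
      rw [inv_eq_iff_mul_eq_one, ← h.a3, pow_succ', pow_two]
    have h4 : a⁻¹ * a⁻¹ = a := by
      rw [← mul_inv_rev, ← h3, inv_inv]
    calc x = a⁻¹ * (a * x * a⁻¹) * a := by group
      _ = a⁻¹ * a⁻¹ * x * (a * a) := by rw [e]; group
      _ = a⁻¹ * x * a := by rw [h4, ← h3, e])
  unfold altCb
  interval_cases k <;> interval_cases l <;> simp only [reduceIte, one_ne_zero, OfNat.ofNat_ne_zero,
    OfNat.ofNat_ne_one] <;>
    first | exact absurd rfl hkl | assumption | (apply Ne.symm; assumption)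

end

theorem altC_w : w1.1 = swap 2 0 * swap 0 1 ∧
    w2.1 = swap 3 0 * swap 0 1 * (swap 5 0 * swap 0 1)⁻¹ * (swap 4 0 * swap 0 1) *
      (swap 3 0 * swap 0 1)⁻¹ ∧
    w3.1 = swap 6 0 * swap 0 1 * (swap 8 0 * swap 0 1)⁻¹ * (swap 7 0 * swap 0 1) *
      (swap 6 0 * swap 0 1)⁻¹ ∧
    w4.1 = swap 9 0 * swap 0 1 * (swap 11 0 * swap 0 1)⁻¹ * (swap 10 0 * swap 0 1) *
      (swap 9 0 * swap 0 1)⁻¹ := BD.of (by decide +kernel)

omit [Finite G] in
theorem altC_sym {x y : G} (h : x * y * (x * y) = 1) : y * x * (y * x) = 1 := by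
  rw [show y * x * (y * x) = x⁻¹ * (x * y * (x * y)) * x by group, h]; simp

theorem Fm.alt (h : Fm u1 u2 u3 u4 n2 n3 n4) (v2 : Vw u1 u3 u4 u2 n2 π2) (v3 : Vw u1 u2 u4 u3 n3 π3)
    (v4 : Vw u1 u2 u3 u4 n4 π4) : ∃ α : A12 →* G, Function.Injective α ∧ α w1 = u1 ∧ α w2 = u2 ∧
      α w3 = u3 ∧ α w4 = u4 ∧ ∀ g, Commute g u4 → g ∈ α.range := by
  obtain ⟨π2', v2'⟩ := v2.swap
  obtain ⟨π3', v3'⟩ := v3.swap
  obtain ⟨π4', v4'⟩ := v4.swap
  obtain ⟨x2, h2, -⟩ := h.ex v4 (j := 3) (by simp)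
  obtain ⟨x3, h3, -⟩ := h.swap.ex v4' (j := 3) (by simp)
  obtain ⟨x4, h4, -⟩ := h.swap'.swap.ex v3' (j := 3) (by simp)
  have b2 := h.altC_xs h2
  have b3 := h.swap.altC_xs h3
  have b4 := h.swap'.swap.altC_xs h4
  let X : Fin 12 → G := fun i => if i.val < 3 then u1 else if i.val < 6 then altCb u2 x2 (i % 3)
    else if i.val < 9 then altCb u3 x3 (i % 3) else altCb u4 x4 (i % 3)
  obtain ⟨α, hα⟩ := KSG.exists_hom_alt_of_carmichael (u := (0 : Fin 12)) (v := 1) (by decide) X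
    (fun i _ _ => by
      rw [← pow_three']
      simp only [X]
      split_ifs
      exacts [h.u3, (b2 _).x3, (b3 _).x3, (b4 _).x3])
    (fun i j i0 i1 j0 j1 ij => by
      have m3 : ∀ k : ℕ, k % 3 < 3 := fun k => Nat.mod_lt _ (by norm_num)
      have ij' : i.val ≠ j.val := fun e => ij (Fin.ext e)
      have hi := i.2
      have hj := j.2
      simp only [X]
      split_ifs
      · exfalso
        have : i.val ≠ 0 := fun e => i0 (Fin.ext e)
        have : i.val ≠ 1 := fun e => i1 (Fin.ext e)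
        have : j.val ≠ 0 := fun e => j0 (Fin.ext e)
        have : j.val ≠ 1 := fun e => j1 (Fin.ext e)
        omega
      · exact altC_sym (b2 _).sq
      · exact altC_sym (b3 _).sq
      · exact altC_sym (b4 _).sq
      · exact (b2 _).sq
      · exact h.rel1 v4 (b2 _) (b2 _) (h.altC_ne v4 v3 h2 (m3 _) (m3 _) (by omega))
      · exact h.rel2 v4 (b2 _) (b3 _)
      · exact h.swap'.rel2 v3 (b2 _).swap (b4 _)
      · exact (b3 _).sq
      · exact altC_sym (h.rel2 v4 (b2 _) (b3 _))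
      · exact h.swap.rel1 v4' (b3 _) (b3 _) (h.swap.altC_ne v4' v2 h3 (m3 _) (m3 _) (by omega))
      · exact h.swap.swap'.rel2 v2 (b3 _).swap (b4 _).swap
      · exact (b4 _).sq
      · exact altC_sym (h.swap'.rel2 v3 (b2 _).swap (b4 _))
      · exact altC_sym (h.swap.swap'.rel2 v2 (b3 _).swap (b4 _).swap)
      · exact h.swap'.swap.rel1 v3' (b4 _) (b4 _)
          (h.swap'.swap.altC_ne v3' v2' h4 (m3 _) (m3 _) (by omega)))
  let Y : ∀ j : Fin 12, j ≠ 0 → A12 := fun j hj =>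
    ⟨KSG.c3 j 0 1, KSG.c3_mem_alternatingGroup hj (by decide)⟩
  have hY : ∀ j hj, j ≠ 1 → α (Y j hj) = X j := fun j hj h1 => hα j hj h1 _
  have e1 : w1 = Y 2 (by decide) := Subtype.ext altC_w.1
  have e2 : w2 = Y 3 (by decide) * (Y 5 (by decide))⁻¹ * Y 4 (by decide) * (Y 3 (by decide))⁻¹ :=
    Subtype.ext altC_w.2.1
  have e3 : w3 = Y 6 (by decide) * (Y 8 (by decide))⁻¹ * Y 7 (by decide) * (Y 6 (by decide))⁻¹ :=
    Subtype.ext altC_w.2.2.1
  have e4 : w4 = Y 9 (by decide) * (Y 11 (by decide))⁻¹ * Y 10 (by decide) * (Y 9 (by decide))⁻¹ :=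
    Subtype.ext altC_w.2.2.2
  have a1 : α w1 = u1 := by rw [e1, hY 2 (by decide) (by decide)]; rfl
  have a2 : α w2 = u2 := by
    rw [e2, map_mul, map_mul, map_mul, map_inv, map_inv, hY 3 (by decide) (by decide),
      hY 5 (by decide) (by decide), hY 4 (by decide) (by decide)]
    exact h.word v4 v3 h2
  have a3 : α w3 = u3 := by
    rw [e3, map_mul, map_mul, map_mul, map_inv, map_inv, hY 6 (by decide) (by decide),
      hY 8 (by decide) (by decide), hY 7 (by decide) (by decide)]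
    exact h.swap.word v4' v2 h3
  have a4 : α w4 = u4 := by
    rw [e4, map_mul, map_mul, map_mul, map_inv, map_inv, hY 9 (by decide) (by decide),
      hY 11 (by decide) (by decide), hY 10 (by decide) (by decide)]
    exact h.swap'.swap.word v3' v2' h4
  refine ⟨α, ?_, a1, a2, a3, a4, fun g hg => h.altC_cent v4 h2 h3 (R := α.range) ⟨_, a1⟩ ⟨_, a2⟩ ⟨_, a3⟩
    ⟨_, a4⟩ ⟨_, hY 3 (by decide) (by decide)⟩ ⟨_, hY 6 (by decide) (by decide)⟩ hg⟩
  have : IsSimpleGroup A12 := alternatingGroup.isSimpleGroup (by simp)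
  rcases α.normal_ker.eq_bot_or_eq_top with e | e
  · exact (MonoidHom.ker_eq_bot_iff α).1 e
  · exact absurd (a1.symm.trans (MonoidHom.mem_ker.1 (e ▸ mem_top w1))) h.u1

end Cfsg.Agent.HNL
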