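import Cfsg.Agent.HNL.A12
import Cfsg.Agent.Loc3.Tools5

/-! Frames of four commuting elements of order three whose normalisers have shape `(3 × A₉) : 2`. -/

set_option autoImplicit false
set_option synthInstance.maxSize 100000
set_option synthInstance.maxHeartbeats 400000

namespace Cfsg.Agent.HNL

open Subgroup Equiv Cfsg.Agent.Comp Cfsg.Agent.Loc3 Cfsg.Agent.PLocal.Amb

variable {G : Type*} [Group G]

/-- `n` is an involution inverting `u, a` and centralising `b, c` -/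
structure Iv (n u a b c : G) : Prop where
  sq : n * n = 1
  u : n * u * n⁻¹ = u⁻¹
  a : n * a * n⁻¹ = a⁻¹
  b : Commute n b
  c : Commute n c

theorem Iv.swap {n u a b c : G} (h : Iv n u a b c) : Iv n u a c b := ⟨h.sq, h.u, h.a, h.c, h.b⟩

/-- the frame; model in `A₁₂`: `u = (0 1 2)`, `a = (3 4 5)`, `b = (6 7 8)`, `c = (9 10 11)`,
`na = (0 1)(3 4)`, `nb = (0 1)(6 7)`, `nc = (0 1)(9 10)` -/
structure Fm (u a b c na nb nc : G) : Prop where
  u3 : u ^ 3 = 1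
  a3 : a ^ 3 = 1
  b3 : b ^ 3 = 1
  c3 : c ^ 3 = 1
  u1 : u ≠ 1
  a1 : a ≠ 1
  b1 : b ≠ 1
  c1 : c ≠ 1
  ua : Commute u a
  ub : Commute u b
  uc : Commute u c
  ab : Commute a b
  ac : Commute a c
  bc : Commute b c
  ia : Iv na u a b c
  ib : Iv nb u b a c
  ic : Iv nc u c a b
  nab : Commute na nb
  nac : Commute na nc
  nbc : Commute nb nc

variable {u a b c na nb nc n x : G} {π : G → Perm (Fin 9)}

theorem Fm.swap (h : Fm u a b c na nb nc) : Fm u b a c nb na nc :=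
  ⟨h.u3, h.b3, h.a3, h.c3, h.u1, h.b1, h.a1, h.c1, h.ub, h.ua, h.uc, h.ab.symm, h.bc, h.ac, h.ib, h.ia,
    h.ic.swap, h.nab.symm, h.nbc, h.nac⟩

theorem Fm.swap' (h : Fm u a b c na nb nc) : Fm u a c b na nc nb :=
  ⟨h.u3, h.a3, h.c3, h.b3, h.u1, h.a1, h.c1, h.b1, h.ua, h.uc, h.ub, h.ac, h.ab, h.bc.symm, h.ia.swap,
    h.ic, h.ib, h.nac, h.nab, h.nbc.symm⟩

/-- the view from `c`: `N(⟨c⟩) / ⟨c⟩ ≅ S₉` in normal form -/
structure Vw (u a b c n : G) (π : G → Perm (Fin 9)) : Prop where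
  ph : PH 𝐍[zpowers c] (zpowers c) π
  u : π u = swap 0 1 * swap 1 2
  a : π a = swap 3 4 * swap 4 5
  b : π b = swap 6 7 * swap 7 8
  n : π n = swap 0 1

theorem Vw.swap (h : Vw u a b c n π) : ∃ π, Vw u b a c n π :=
  ⟨_, h.ph.equiv (MulAut.conj (Equiv.swap 3 6 * Equiv.swap 4 7 * Equiv.swap 5 8)),
    by rw [h.u]; decide, by rw [h.b]; decide, by rw [h.a]; decide, by rw [h.n]; decide⟩

/-- the three elements `(0 1 j)` with `j` in the support of the fourth element of the frame -/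
structure Xs (u b c nb nc x : G) : Prop where
  x3 : x ^ 3 = 1
  b : Commute x b
  c : Commute x c
  sq : x * u * (x * u) = 1
  ne : x * u ≠ 1
  nb : nb * x * nb⁻¹ = x⁻¹
  nc : nc * x * nc⁻¹ = x⁻¹

theorem Xs.swap (h : Xs u b c nb nc x) : Xs u c b nc nb x := ⟨h.x3, h.c, h.b, h.sq, h.ne, h.nc, h.nb⟩

end Cfsg.Agent.HNL
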