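import Cfsg.Agent.HNL.Sec
import Cfsg.Agent.HNL.Lin

/-! The chart of the centraliser of `z`.

`κ` from `exists_sec`, `t = κ (e 3)` (`inv_of`: `q (t q t⁻¹) ∈ ⟨z⟩`; `t` commutes with every `κ x`).  `of_conj` and `exy` give `y, a`; `π y ≠ 1`,
`(π y)³ = 1`, so `x (π y) x⁻¹ = e 1` for some `x : Hh` (`bd!`); conjugate `v, y, a` by `κ x`, keeping only: `v ∈ Q ∖ ⟨z⟩`, `z ~ v`,
`Commute y z`, `π y = e 1`, `Commute y v`, `a ∈ Q`, `Commute a v`, `⁅y, a⁆ = v^{±1}` (replace `a` by `a⁻¹` to get the sign).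
`W = Sec h.sh` has order 81 (`Sec.card_mul`), `ω` from `exists_om` (non-degenerate by `cen`), `σ, τ, γ = rep (κ (e 1)), rep (κ (e 12)),
rep (κ (e 6))`; `rep y = σ` (`eq_of`, `Sec.rep_eq_one_iff`, `cm`); relations in `Hh` by `bd!`: `(e 1)³ = (e 12)³ = 1`, `e 6 * e 6 = e 3`,
`e 1 * e 6 * e 1 = e 6`, `e 12 * e 6 * e 12 = e 6`, `(e 1 * e 12)⁵ = e 3`, and `rep t = -1`.  `lin` gives `e1 f1 e2 f2`; lift each to a
`t`-inverted element `A, B, C, D` of `Q` (`invI`: `q * (q * (t q t⁻¹))`).  `z' = ⁅A, B⁆ = ⁅C, D⁆` (second clause of `exists_om`),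
`1 ≠ z' ∈ ⟨z⟩`; `exists_heis` gives `ι`.  The eight conditions of `sd_hom` follow from `uq`: both sides are `t`-inverted and agree modulo
`⟨z⟩`, where (`bd!`) `aH (e 1)` maps `e 1, e 3, e 9, e 27` to `e 1, e 3 * e 9, e 9, e 27 * e 1` and `aH (e 12)` maps them to
`(e 3)⁻¹ * e 1 * (e 3)⁻¹, e 3, e 27 * e 9 * e 27, e 27` (palindromes and products of commuting elements are `t`-inverted).
`φ Z = z'`, `φ E1 = A`.  Injective: apply `π` (`π (φ x) = hp x`), then `inj_heis`, and `qp x = 1`, `hp x = 1` give `x = 1`.  The range lies in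
`C(z) = C(z')` and has order 29160 (`cC`).  `A ≡ v` or `κ(e 6) v κ(e 6)⁻¹` modulo `⟨z⟩`, so `A ~ v ~ z` by `exc'`; `t v t⁻¹ ≡ v⁻¹`, so
`v ~ v⁻¹`, `z ~ z⁻¹`, `z' ~ z`.  `sS.map φ` is a 3-group of order 729 (`card_seg`) and `|S|` is a power of 3 dividing 29160. -/

set_option autoImplicit false
set_option maxRecDepth 100000
set_option synthInstance.maxHeartbeats 400000
set_option synthInstance.maxSize 4000

namespace Cfsg.Agent.HNL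

open Subgroup Cfsg Cfsg.Agent.PLocal Cfsg.Agent.PLocal.Amb Cfsg.Agent.Loc3 Cfsg.Agent.Comp
open Cfsg.Agent.G23.Am (one_of_sq mem_of_sq cjk card_seg)
open Cfsg.Agent.X32.TG Cfsg.Agent.Loc3.Pr
open Cfsg.Agent.F4L (Hs)
open scoped commutatorElement

variable {G : Type*} [Group G] [Finite G] {z v : G} {Q : Subgroup G} {π : G → Hh}

theorem Ex.ch_pre (h : Ex z Q π) (hv : v ∈ Q) (v1 : v ∉ zpowers z) (c : IsConj z v) :
    ∃ v y a, v ∈ Q ∧ v ∉ zpowers z ∧ IsConj z v ∧ Commute y z ∧ π y = e 1 ∧ Commute y v ∧ a ∈ Q ∧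
      Commute a v ∧ ⁅y, a⁆ = v := by
  obtain ⟨Q', π', h'⟩ := h.of_conj c
  obtain ⟨y, yQ, yz, yn, a, aQ, aQ', ya⟩ := h.exy h' hv v1
  obtain ⟨a, aQ, av, ya⟩ : ∃ a ∈ Q, Commute a v ∧ ⁅y, a⁆ = v := by
    rcases (mem_zpowers_three h'.z3).1 (h'.cm yQ aQ') with f | f | f
    · exact absurd (commutatorElement_eq_one_iff_commute.1 f) ya
    · exact ⟨a, aQ, h'.cz aQ', f⟩
    · refine ⟨a⁻¹, inv_mem aQ, (h'.cz aQ').inv_left, ?_⟩
      rw [← conj_of_comm (h'.cz aQ').inv_left, ← inv_inv v, ← f]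
      simp only [commutatorElement_def]
      group
  obtain ⟨x, hx⟩ := (bd! : ∀ w : Hh, w ^ 3 = 1 → w = 1 ∨ ∃ x : Hh, x * w * x⁻¹ = e 1) (π y)
    (by rw [← h.pow yz, h'.ex yQ, h.ph.map_one]) |>.resolve_left (mt (h.ker yz).1 yn)
  obtain ⟨g, gz, rfl⟩ := h.ph.surj x
  replace gz := mem_cent.1 gz
  refine ⟨g * v * g⁻¹, g * y * g⁻¹, g * a * g⁻¹, h.cj gz hv, fun k => v1 ?_, c.trans (isConj_iff.2 ⟨g, rfl⟩),
    (gz.mul_left yz).mul_left gz.inv_left, ?_, Commute.cj (h'.cz yQ) g, h.cj gz aQ, Commute.cj av g,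
    by rw [← conjugate_commutatorElement, ya]⟩
  · simpa [mul_assoc] using h.nZ gz.inv_left k
  · rw [h.mul (gz.mul_left yz) gz.inv_left, h.mul gz yz, h.inv gz, hx]

theorem Ex.ch_gens (h : Ex z Q π) (hv : v ∈ Q) (v1 : v ∉ zpowers z) (c : IsConj z v) {κ : Hh →* G}
    (hκ : ∀ x, Commute (κ x) z ∧ π (κ x) = x) : ∃ ι : Hs →* G, ι (e 81) ≠ 1 ∧ ι (e 81) ∈ zpowers z ∧
      (∀ q, ι q ∈ Q) ∧ IsConj z (ι (e 1)) ∧ IsConj z z⁻¹ ∧ ∀ g ∈ (es [1, 12] : List Hh),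
        ∀ q ∈ (es [1, 3, 9, 27] : List Hs), κ g * ι q * (κ g)⁻¹ = ι (aH g q) := by
  obtain ⟨v, y, a, hv, v1, c, yz, yp, yv, aQ, av, ya⟩ := h.ch_pre hv v1 c
  obtain ⟨ω, o1, o2, o3⟩ := h.exists_om
  let ρ : Hh →* Module.End ℤ (Sec h.sh) :=
    (Sec.rep h.sh).comp (κ.codRestrict _ fun x => mem_cent.2 (hκ x).1)
  have ρp : ∀ x {q}, q ∈ Q → ρ x (Sec.pr _ q) = Sec.pr _ (κ x * q * (κ x)⁻¹) := fun x q a =>
    Sec.rep_pr' _ (mem_cent.2 (hκ x).1) a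
  have tz := (hκ (e 3)).1
  have ti : ∀ {q}, q ∈ Q → q * (κ (e 3) * q * (κ (e 3))⁻¹) ∈ zpowers z := h.inv_of tz (hκ _).2
  have ρt : ρ (e 3) = -1 := LinearMap.ext fun x => by
    obtain ⟨x, a, rfl⟩ := Sec.exists_pr_eq _ x
    rw [ρp _ a, LinearMap.neg_apply, Module.End.one_apply, eq_neg_iff_add_eq_zero, add_comm,
      ← Sec.pr_mul _ a (h.cj tz a), Sec.pr_eq_zero _ (mul_mem a (h.cj tz a))]
    exact ti a
  have ρy : ∀ {q}, q ∈ Q → ρ (e 1) (Sec.pr _ q) = Sec.pr _ (y * q * y⁻¹) := fun {q} a => by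
    have m := h.eq_of yz (hκ (e 1)).1 (yp.trans (hκ _).2.symm)
    rw [ρp _ a, Sec.pr_eq_pr _ (h.cj (hκ _).1 a) (h.cj yz a)]
    convert h.nZ yz (h.cm m (inv_mem a)) using 1
    simp only [commutatorElement_def]
    group
  obtain ⟨r1, r2, r3, r4, r5, r6⟩ : (e 1 : Hh) ^ 3 = 1 ∧ (e 12 : Hh) ^ 3 = 1 ∧ (e 6 : Hh) * e 6 = e 3 ∧
    (e 1 : Hh) * e 6 * e 1 = e 6 ∧ (e 12 : Hh) * e 6 * e 12 = e 6 ∧ ((e 1 : Hh) * e 12) ^ 5 = e 3 := bd!
  obtain ⟨e1, f1, e2, f2, l0, l1, l2, l3, l4, l5, l6, s1, s2, s3, s4, t1, t2, t3, t4⟩ :=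
    lin (W := Sec h.sh) (ω := ω) (σ := ρ (e 1)) (τ := ρ (e 12)) (γ := ρ (e 6)) (v := Sec.pr _ v) (a := Sec.pr _ a)
      (by have := Sec.card_mul h.sh; rw [h.cZ, h.cQ] at this; omega)
      (fun w => by
        obtain ⟨x, a, rfl⟩ := Sec.exists_pr_eq _ w
        rw [← Sec.pr_pow _ a, h.ex a, Sec.pr_one])
      (fun x => by obtain ⟨x, a, rfl⟩ := Sec.exists_pr_eq _ x; exact (o1 a a).2 (Commute.refl x))
      (fun x k => by
        obtain ⟨x, a, rfl⟩ := Sec.exists_pr_eq _ x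
        exact (Sec.pr_eq_zero _ a).2 (h.cen x fun q b => (o1 a b).1 (k _)))
      (o3 _) (o3 _) (o3 _) (by rw [← map_pow, r1, map_one]) (by rw [← map_pow, r2, map_one])
      (by rw [← map_mul, r3, ρt]) (by rw [← map_mul, ← map_mul, r4]) (by rw [← map_mul, ← map_mul, r5])
      (by rw [← map_mul, ← map_pow, r6, ρt]) (mt (Sec.pr_eq_zero _ hv).1 v1)
      (by rw [ρy hv, conj_of_comm yv])
      (by rw [ρy aQ, add_comm, ← Sec.pr_mul _ hv aQ, ← ya, commutatorElement_def, inv_mul_cancel_right])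
      ((o1 aQ hv).2 av)
  have tk : ∀ x, Commute (κ (e 3)) (κ x) := fun x => ((bd! : ∀ x : Hh, Commute (e 3) x) x).map κ
  generalize κ (e 3) = t at tz ti tk
  have lift : ∀ w, ∃ q ∈ Q, Sec.pr h.sh q = w ∧ t * q * t⁻¹ = q⁻¹ := fun w => by
    obtain ⟨x, a, rfl⟩ := Sec.exists_pr_eq _ w
    have b := mul_mem a (h.ZQ (ti a))
    exact ⟨_, b, ((Sec.pr_eq_pr _ a b).2 (by simpa using ti a)).symm, h.invI tz (ti a) a⟩
  obtain ⟨A, hA, rfl, iA⟩ := lift e1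
  obtain ⟨B, hB, rfl, iB⟩ := lift f1
  obtain ⟨C, hC, rfl, iC⟩ := lift e2
  obtain ⟨D, hD, rfl, iD⟩ := lift f2
  have zz := h.cm hA hB
  have AC := (o1 hA hC).1 l3
  have AD := (o1 hA hD).1 l4
  have BC := (o1 hB hC).1 l5
  have BD := (o1 hB hD).1 l6
  obtain ⟨ι, i1, i2, i3, i4, i5⟩ := F4L.exists_heis (h.ex hA) (h.ex hB) (h.ex hC) (h.ex hD) (h.ex (h.ZQ zz))
    (h.cZ' (h.cz hA) zz) (h.cZ' (h.cz hB) zz) (h.cZ' (h.cz hC) zz) (h.cZ' (h.cz hD) zz) rfl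
    (o2 hC hD hA hB (l2.trans l1.symm)) AC AD BC BD
  have cv : ∀ {p q}, IsConj z p → p ∈ Q → q ∈ Q → Sec.pr h.sh p ≠ 0 → Sec.pr h.sh p = Sec.pr h.sh q →
      IsConj z q := fun c a b n k => by
    obtain ⟨u, -, f⟩ := h.exc' a (mt (Sec.pr_eq_zero _ a).2 n) ((Sec.pr_eq_pr _ a b).1 k)
    exact c.trans (isConj_iff.2 ⟨u, f.trans (mul_inv_cancel_left _ _)⟩)
  have v0 := mt (Sec.pr_eq_zero h.sh hv).1 v1
  have U : ∀ x {p q}, p ∈ Q → q ∈ Q → t * p * t⁻¹ = p⁻¹ → t * q * t⁻¹ = q⁻¹ →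
      ρ x (Sec.pr h.sh p) = Sec.pr h.sh q → κ x * p * (κ x)⁻¹ = q := fun x p q a b c d k =>
    h.uq tz (h.cj (hκ x).1 a) (by rw [← conj_mul, ← conj_mul, ← conj_inv, conj_of_comm (tk x), c, conj_inv]) d
      ((Sec.pr_eq_pr _ (h.cj (hκ x).1 a) b).1 ((ρp x a).symm.trans k))
  have w3 : ∀ {q}, q ∈ Q → Sec.pr h.sh q + Sec.pr h.sh q = -Sec.pr h.sh q := fun a => by
    rw [← Sec.pr_mul _ a a, ← inv_eq_sq (h.ex a), Sec.pr_inv _ a]
  refine ⟨ι, i5 ▸ fun k => ?_, i5 ▸ zz, fun q => ?_, i1 ▸ ?_, ?_, ?_⟩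
  · rw [(o1 hA hB).2 (commutatorElement_eq_one_iff_commute.1 k)] at l1
    exact absurd l1 (by decide)
  · obtain ⟨k, hk⟩ := F4L.Hs_dec q
    rw [hk]
    simp only [map_mul, map_pow, i1, i2, i3, i4, i5]
    exact mul_mem (mul_mem (mul_mem (pow_mem hA _) (pow_mem hB _)) (mul_mem (pow_mem hC _)
      (pow_mem hD _))) (pow_mem (h.ZQ zz) _)
  · rcases l0 with k | k
    · exact cv c hv hA v0 k.symm
    · rw [ρp _ hv] at k
      refine cv (c.trans (isConj_iff.2 ⟨_, rfl⟩)) (h.cj (hκ _).1 hv) hA (k ▸ fun n => ?_) k.symm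
      rw [n, map_zero, AddMonoidHom.zero_apply] at l1
      exact absurd l1 (by decide)
  · have m := h.cj tz hv
    have n : Sec.pr h.sh (t * v * t⁻¹) = Sec.pr h.sh v⁻¹ := ((Sec.pr_eq_pr _ (inv_mem hv) m).2 (by
      rw [inv_inv]; exact ti hv)).symm
    have := cv (c.trans (isConj_iff.2 ⟨t, rfl⟩)) m (inv_mem hv) (by
      rw [n, Sec.pr_inv _ hv]; exact neg_ne_zero.2 v0) n
    obtain ⟨g, rfl⟩ := isConj_iff.1 c
    exact this.trans (isConj_iff.2 ⟨g, conj_inv.symm⟩).symm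
  obtain ⟨a1, a2, a3, a4, b1, b2, b3, b4⟩ : aH (e 1) (e 1) = e 1 ∧ aH (e 1) (e 3) = e 3 * e 9 ∧
    aH (e 1) (e 9) = e 9 ∧ aH (e 1) (e 27) = e 27 * e 1 ∧ aH (e 12) (e 1) = (e 3)⁻¹ * e 1 * (e 3)⁻¹ ∧
    aH (e 12) (e 3) = e 3 ∧ aH (e 12) (e 9) = e 27 * e 9 * e 27 ∧ aH (e 12) (e 27) = e 27 := bd!
  simp only [es, List.map, List.forall_mem_cons, List.not_mem_nil, false_imp_iff, implies_true, and_true,
    a1, a2, a3, a4, b1, b2, b3, b4, map_mul, map_inv, i1, i2, i3, i4]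
  refine ⟨⟨U _ hA hA iA iA s1, U _ hB (mul_mem hB hC) iB ?_ ?_, U _ hC hC iC iC s2,
    U _ hD (mul_mem hD hA) iD ?_ ?_⟩, U _ hA (mul_mem (mul_mem (inv_mem hB) hA) (inv_mem hB)) iA ?_ ?_,
    U _ hB hB iB iB t1, U _ hC (mul_mem (mul_mem hD hC) hD) iC ?_ ?_, U _ hD hD iD iD t2⟩
  · rw [← conj_mul, iB, iC, ← mul_inv_rev, BC.eq]
  · rw [s3, Sec.pr_mul _ hB hC]
  · rw [← conj_mul, iD, iA, ← mul_inv_rev, AD.eq]
  · rw [s4, Sec.pr_mul _ hD hA]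
  · rw [← conj_mul, ← conj_mul, ← conj_inv, iA, iB]; group
  · rw [t3, Sec.pr_mul _ (mul_mem (inv_mem hB) hA) (inv_mem hB), Sec.pr_mul _ (inv_mem hB) hA, add_right_comm,
      w3 (inv_mem hB), Sec.pr_inv _ hB, neg_neg, add_comm]
  · rw [← conj_mul, ← conj_mul, iC, iD]; group
  · rw [t4, Sec.pr_mul _ (mul_mem hD hC) hD, Sec.pr_mul _ hD hC, add_right_comm, w3 hD, sub_eq_neg_add]

theorem Ex.chart (h : Ex z Q π) (hv : v ∈ Q) (v1 : v ∉ zpowers z) (c : IsConj z v) (S : Sylow 3 G)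
    (hS : (S : Subgroup G) ≤ centralizer {z}) : ∃ φ : K →* G, Ch φ := by
  have := Fact.mk Nat.prime_three
  obtain ⟨κ, hκ⟩ := h.exists_sec
  obtain ⟨ι, z1, zz, iQ, c1, c2, k⟩ := h.ch_gens hv v1 c hκ
  obtain ⟨φ, hφ⟩ := sd_hom ι κ k
  have eZ : φ Z = ι (e 81) := by
    rw [hφ, (bd! : hp Z = 1), map_one, mul_one]; rfl
  have eE : φ E1 = ι (e 1) := by
    rw [hφ, (bd! : hp E1 = 1), map_one, mul_one]; rfl
  have cz : ∀ x, Commute (φ x) z := fun x => hφ x ▸ (h.cz (iQ _)).mul_left (hκ _).1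
  have inj : Function.Injective φ := (injective_iff_map_eq_one φ).2 fun x a => by
    have b : hp x = 1 := by
      have := h.mul (h.cz (iQ (qp x))) (hκ (hp x)).1
      rwa [← hφ, a, h.ph.map_one, (h.ker (h.cz (iQ _))).2 (iQ _), (hκ _).2, one_mul, eq_comm] at this
    rw [hφ, b, map_one, mul_one] at a
    have d := congrArg X32.TG.v (F4L.inj_heis z1 (a.trans (map_one ι).symm))
    have b' : x.v < 243 := hp_ker.1 b
    change x.v % 243 % 243 = 0 at d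
    exact X32.TG.ext (by change x.v = 0; omega)
  have r : φ.range = centralizer {z} := eq_of_le_of_card_ge (by rintro _ ⟨x, rfl⟩; exact mem_cent.2 (cz x)) (by
    rw [← Nat.card_congr (MonoidHom.ofInjective inj).toEquiv, X32.TG.card, h.cC]; rfl)
  have cS : Nat.card (sS.map φ) = 3 ^ 6 := by rw [Subgroup.card_map_of_injective inj, card_seg (by decide)]; rfl
  refine ⟨φ, inj, fun g a => r.ge (mem_cent.2 ?_), ?_, (isSyl_top S).of_card_ge (.of_card cS) le_top ?_⟩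
  · obtain ⟨i, f⟩ := (L43.zp h.z3 zz z1).ge (mem_zpowers z)
    exact f ▸ eZ ▸ a.zpow_right i
  · rw [eZ, eE]
    refine IsConj.trans ?_ c1
    rcases (mem_zpowers_three h.z3).1 zz with p | p | p
    exacts [absurd p z1, p ▸ IsConj.refl _, p ▸ c2.symm]
  · obtain ⟨n, f⟩ := S.isPGroup'.exists_card_eq
    have := card_dvd_of_le hS
    rw [h.cC, f] at this
    rw [cS, f]
    refine Nat.pow_le_pow_right (by norm_num) (not_lt.1 fun l => ?_)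
    exact absurd ((pow_dvd_pow 3 l).trans this) (by decide)

end Cfsg.Agent.HNL
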