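import Cfsg.Agent.HNL.Wr
import Cfsg.Agent.LES.Setting

/-! Coordinates in an extraspecial group of order `2 ^ 9` acted on by `A₅ ≀ 2`. -/

set_option autoImplicit false
set_option maxRecDepth 100000
set_option synthInstance.maxHeartbeats 400000
set_option synthInstance.maxSize 4000

namespace Cfsg.Agent.HNL

open Subgroup Cfsg.Agent.TT Cfsg.Agent.LES Cfsg.Agent.X32 Cfsg.Agent.X32.TG Cfsg.Agent.Loc3.Pr
open Cfsg.Agent.Mon.HN (comb comb_lt xor_lt)

variable {G : Type*} [Group G]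

/-- `h` centralizes `t` and acts on the coordinates as `f` -/
def Af (t : G) (ψ : ℕ → G) (h : G) (f : ℕ → ℕ) : Prop :=
  Commute h t ∧ ∀ i < 256, Eqv t (ψ (f i)) (h * ψ i * h⁻¹)

/-- `h` centralizes `t` and acts on the coordinates as `x` -/
abbrev Ac (t : G) (ψ : ℕ → G) (h : G) (x : Wr) : Prop := Af t ψ h (ac x)

/-- the extraspecial group with its coordinates -/
structure RD0 (t : G) (R : Subgroup G) (ψ : ℕ → G) : Prop where
  xs : XS R t
  mem : ∀ i, ψ i ∈ R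
  add : ∀ i < 256, ∀ j < 256, Eqv t (ψ (i ^^^ j)) (ψ i * ψ j)
  onto : ∀ r ∈ R, ∃ i < 256, Eqv t r (ψ i)
  inj : ∀ i < 256, ∀ j < 256, Eqv t (ψ i) (ψ j) → i = j
  sq : ∀ i < 256, (ψ i * ψ i = 1 ↔ qf.testBit i = false)
  cent : ∀ h, (∀ r ∈ R, Commute h r) → h = 1 ∨ h = t

/-- the stabiliser of the points 16 and 32 -/
noncomputable abbrev six : List Wr := [1, xY, xY * xY, xS, xS * xY, xS * xY * xY]

structure RD (t : G) (R : Subgroup G) (ψ : ℕ → G) : Prop extends RD0 t R ψ where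
  st : ∀ h, Commute h t → Eqv t (ψ 16) (h * ψ 16 * h⁻¹) → Eqv t (ψ 32) (h * ψ 32 * h⁻¹) →
    ∃ x ∈ six, Ac t ψ h x

structure RE (t : G) (R : Subgroup G) (ψ : ℕ → G) : Prop extends RD t R ψ where
  lift : ∀ x, ∃ h, Ac t ψ h x
  nrt : ¬ IsConj (ψ 16) t
  cB : IsConj t (ψ 17)
  cS : ∃ s, Ac t ψ s xS ∧ s * s = 1 ∧ IsConj (ψ 16) s ∧ IsConj t (s * t)
  cE : ∃ s, Ac t ψ s xE ∧ s * s = 1 ∧ IsConj t s ∧ IsConj t (s * t)
  cG : ∃ s, Ac t ψ s xG ∧ s * s = t ∧ ¬ IsConj (ψ 6) s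

variable {t : G} {R : Subgroup G} {ψ : ℕ → G} {h k r s : G} {f f' : ℕ → ℕ} {x y : Wr} {i j : ℕ}

theorem Af.congr (a : Af t ψ h f) (e : ∀ i < 256, f' i = f i) : Af t ψ h f' :=
  ⟨a.1, fun i b => e i b ▸ a.2 i b⟩

namespace RD0

variable (d : RD0 t R ψ)
include d

theorem tt : t * t = 1 := d.xs.z_sq

theorem ct (a : r ∈ R) : Commute r t := d.xs.z_comm r a

theorem mem' (e : Eqv t r (ψ i)) : r ∈ R := e.mem d.xs.z_mem (d.mem i)

theorem zero : Eqv t (ψ 0) 1 := by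
  have := (d.add 0 (by norm_num) 0 (by norm_num)).mul_left (ψ 0)⁻¹
  simp only [Nat.xor_self, inv_mul_cancel, inv_mul_cancel_left] at this
  exact this.symm d.tt

theorem add' (hi : i < 256) (hj : j < 256) (e : Eqv t r (ψ i)) (e' : Eqv t s (ψ j)) :
    Eqv t (r * s) (ψ (i ^^^ j)) :=
  (eqv_mul d.xs (d.mem j) e e').trans d.tt ((d.add i hi j hj).symm d.tt)

theorem inj' (hi : i < 256) (hj : j < 256) (e : Eqv t r (ψ i)) (e' : Eqv t r (ψ j)) : i = j :=
  d.inj i hi j hj ((e.symm d.tt).trans d.tt e')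

theorem ne (hi : i < 256) (h0 : i ≠ 0) (e : Eqv t r (ψ i)) : r ≠ 1 ∧ r ≠ t := by
  rw [← not_or, ← eqv_one_iff]
  exact fun a => h0 (d.inj' hi (by norm_num) e (a.trans d.tt (d.zero.symm d.tt)))

theorem sq' (hi : i < 256) (e : Eqv t r (ψ i)) : r * r = 1 ↔ qf.testBit i = false :=
  eqv_sq d.xs (d.mem i) e ▸ d.sq i hi

theorem sq_t (hi : i < 256) (e : Eqv t r (ψ i)) (a : qf.testBit i = true) : r * r = t :=
  (d.xs.sq (d.mem' e)).resolve_left fun b => by simpa [a] using (d.sq' hi e).1 b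

theorem comm_iff (hi : i < 256) (hj : j < 256) : ψ i * ψ j = ψ j * ψ i ↔ bq i j = false := by
  have s : ∀ k < 256, sqv (ψ k) = if qf.testBit k then 1 else 0 := fun k hk => by
    split_ifs with a
    · rw [sqv_eq_one, Ne, d.sq k hk, a]; simp
    · rw [sqv_eq_zero, d.sq k hk]; simpa using a
  have e := sqv_mul d.xs (d.mem i) (d.mem j)
  rw [← sqv_eqv d.xs (mul_mem (d.mem i) (d.mem j)) (d.add i hi j hj), s _ (xor_lt hi hj), s i hi,
    s j hj] at e
  rw [← cmv_eq_zero, bq]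
  revert e
  generalize cmv (ψ i) (ψ j) = c
  generalize qf.testBit (i ^^^ j) = b1
  generalize qf.testBit i = b2
  generalize qf.testBit j = b3
  revert c b1 b2 b3
  decide

theorem comm_iff' (hi : i < 256) (hj : j < 256) (e : Eqv t r (ψ i)) (e' : Eqv t s (ψ j)) :
    r * s = s * r ↔ bq i j = false := by
  rw [eqv_comm_iff d.xs (d.mem' e') e, eq_comm, eqv_comm_iff d.xs (d.mem i) e', eq_comm]
  exact d.comm_iff hi hj

/-- the two lifts of a non-zero point are conjugate in `R` -/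
theorem conj (hi : i < 256) (h0 : i ≠ 0) (e : Eqv t r (ψ i)) : ∃ q ∈ R, q * ψ i * q⁻¹ = r :=
  exists_conj_of_eqv d.xs (d.mem i) (d.ne hi h0 (.refl _ _)).1 (d.ne hi h0 (.refl _ _)).2 e

theorem af_mul (a : Af t ψ h f) (b : Af t ψ k f') (c : ∀ i < 256, f' i < 256) :
    Af t ψ (h * k) fun i => f (f' i) :=
  ⟨a.1.mul_left b.1, fun i e => (a.2 _ (c i e)).trans d.tt (by
    simpa only [mul_inv_rev, mul_assoc] using (b.2 i e).conj a.1.eq)⟩

theorem ac_mul (a : Ac t ψ h x) (b : Ac t ψ k y) : Ac t ψ (h * k) (x * y) :=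
  (d.af_mul a b fun _ => ac_lt y).congr fun _ => HNL.ac_mul x y

theorem ac_mem (a : r ∈ R) : Ac t ψ r 1 :=
  ⟨d.ct a, fun i b => by
    rw [ac_one i b]
    exact Eqv.symm d.tt (d.xs.conj a (d.mem i))⟩

theorem ac_one : Ac t ψ 1 1 := d.ac_mem R.one_mem

theorem ac_inv (a : Ac t ψ h x) : Ac t ψ h⁻¹ x⁻¹ :=
  ⟨a.1.inv_left, fun i b => by
    have := (a.2 _ (ac_lt x⁻¹ b)).conj a.1.inv_left.eq
    rw [ac_inv' x b] at this
    simpa [mul_assoc] using this.symm d.tt⟩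

theorem ac_pow (a : Ac t ψ h x) (n : ℕ) : Ac t ψ (h ^ n) (x ^ n) := by
  induction n with
  | zero => simpa using d.ac_one
  | succ n ih => simpa only [pow_succ] using d.ac_mul ih a

theorem ac_conj (a : Ac t ψ h x) (b : Ac t ψ k y) : Ac t ψ (h * k * h⁻¹) (x * y * x⁻¹) :=
  d.ac_mul (d.ac_mul a b) (d.ac_inv a)

/-- the code of a conjugate -/
theorem af_code (a : Af t ψ h f) (hi : i < 256) (e : Eqv t r (ψ i)) :
    Eqv t (h * r * h⁻¹) (ψ (f i)) := (e.conj a.1.eq).trans d.tt ((a.2 i hi).symm d.tt)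

theorem af_norm (a : Af t ψ h f) (b : r ∈ R) : h * r * h⁻¹ ∈ R := by
  obtain ⟨i, hi, e⟩ := d.onto r b
  exact d.mem' (d.af_code a hi e)

theorem af_uniq (a : Af t ψ h f) (b : Af t ψ h f') (hi : i < 256) (c : f i < 256)
    (c' : f' i < 256) : f i = f' i :=
  d.inj _ c _ c' ((a.2 i hi).trans d.tt ((b.2 i hi).symm d.tt))

theorem ac_uniq (a : Ac t ψ h x) (b : Ac t ψ h y) : x = y := by
  have := d.ac_mul (d.ac_inv a) b
  rw [inv_mul_cancel] at this
  exact inv_mul_eq_one.1 (eq_one _ fun v c => by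
    have e : v < 256 := (by decide : ∀ v ∈ bs, v < 256) v c
    rw [d.af_uniq this d.ac_one e (ac_lt _ e) (ac_lt _ e), HNL.ac_one v e])

theorem af_qf (a : Af t ψ h f) (hi : i < 256) (c : f i < 256) : qf.testBit (f i) = qf.testBit i := by
  have e := d.sq' c ((a.2 i hi).symm d.tt)
  rw [conj_mul, mul_inv_eq_one, mul_eq_left, d.sq i hi] at e
  revert e
  cases qf.testBit (f i) <;> cases qf.testBit i <;> simp

theorem add_of (a : Commute h t) {i j u v : ℕ} (hi : i < 256) (hj : j < 256) (hu : u < 256)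
    (hv : v < 256) (e : Eqv t (ψ u) (h * ψ i * h⁻¹)) (e' : Eqv t (ψ v) (h * ψ j * h⁻¹)) :
    Eqv t (ψ (u ^^^ v)) (h * ψ (i ^^^ j) * h⁻¹) := by
  refine ((d.add' hu hv (e.symm d.tt) (e'.symm d.tt)).symm d.tt).trans d.tt ?_
  rw [conj_mul]
  exact ((d.add i hi j hj).conj a.eq).symm d.tt

theorem comb_of (a : Commute h t) {l : List ℕ} (b : ∀ i ∈ l, i < 256 ∧ f i < 256)
    (e : ∀ i ∈ l, Eqv t (ψ (f i)) (h * ψ i * h⁻¹)) (u : ℕ) :
    Eqv t (ψ (comb (l.map f) u)) (h * ψ (comb l u) * h⁻¹) := by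
  have z : Eqv t (ψ 0) (h * ψ 0 * h⁻¹) := d.zero.trans d.tt (by
    simpa using (d.zero.conj a.eq).symm d.tt)
  induction l generalizing u with
  | nil => exact z
  | cons i l ih =>
    have c := b i (by simp)
    have c' := fun j m => b j (List.mem_cons_of_mem i m)
    rw [List.map_cons, comb, comb]
    refine d.add_of a (by split_ifs <;> omega) (comb_lt (fun j m => (c' j m).1) _)
      (by split_ifs <;> omega) (comb_lt (by simpa using fun j m => (c' j m).2) _) ?_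
      (ih c' (fun j m => e j (List.mem_cons_of_mem i m)) _)
    split_ifs
    exacts [e i (by simp), z]

/-- it suffices to check the action on the basis -/
theorem af_of_bs (a : Commute h t) (b : Ad f) (e : ∀ i ∈ bs, Eqv t (ψ (f i)) (h * ψ i * h⁻¹)) :
    Af t ψ h f := ⟨a, fun i hi => by
  have c : ∀ v ∈ bs, v < 256 := by decide
  have := d.comb_of a (fun i m => ⟨c i m, b.lt i (c i m)⟩) e i
  rwa [← b.map c, comb_bs i hi] at this⟩

theorem ac_of_bs (a : Commute h t) (e : ∀ i ∈ bs, Eqv t (ψ (ac x i)) (h * ψ i * h⁻¹)) :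
    Ac t ψ h x := d.af_of_bs a (ad_ac x) e

theorem exists_af (a : Commute h t) (b : ∀ r ∈ R, h * r * h⁻¹ ∈ R) : ∃ f, Ad f ∧ Af t ψ h f := by
  choose f h1 h2 using fun i => d.onto _ (b _ (d.mem i))
  exact ⟨f, ⟨fun u _ => h1 u, fun u hu v hv => d.inj' (h1 _) (xor_lt (h1 u) (h1 v)) (h2 _)
    ((d.add_of a hu hv (h1 u) (h1 v) ((h2 u).symm d.tt) ((h2 v).symm d.tt)).symm d.tt)⟩, a,
    fun i _ => (h2 i).symm d.tt⟩

/-- the kernel of the action -/
theorem ker [Finite G] (a : Ac t ψ h 1) : h ∈ R := by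
  have e : ∀ r ∈ R, h * r * h⁻¹ = r ∨ h * r * h⁻¹ = r * t := fun r b => by
    obtain ⟨i, hi, c⟩ := d.onto r b
    have := d.af_code a hi c
    rw [HNL.ac_one i hi] at this
    exact this.trans d.tt (c.symm d.tt)
  have f : ∀ {h}, (∀ r ∈ R, Commute h r) → h ∈ R := fun b => by
    rcases d.cent _ b with rfl | rfl
    exacts [R.one_mem, d.xs.z_mem]
  have m : ∀ r, r ∈ R ⊓ centralizer {h} ↔ r ∈ R ∧ h * r * h⁻¹ = r := fun r => by
    rw [mem_inf, mem_centralizer_singleton_iff, mul_inv_eq_iff_eq_mul, eq_comm]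
  by_cases c : ∀ r ∈ R, h * r * h⁻¹ = r
  · exact f fun r b => mul_inv_eq_iff_eq_mul.1 (c r b)
  push Not at c
  obtain ⟨x, hx, c⟩ := c
  obtain ⟨q, hq, c1, c2⟩ := d.xs.exists_comm_not_comm (A := R ⊓ centralizer {h}) inf_le_left
    ((m t).2 ⟨d.xs.z_mem, mul_inv_eq_iff_eq_mul.2 a.1.eq⟩) hx fun b => c ((m x).1 b).2
  have c3 := (e x hx).resolve_left c
  have c4 : ∀ r ∈ R, h * r * h⁻¹ = r → Commute (q⁻¹ * h) r := fun r b b' =>
    (Commute.symm (c1 r ((m r).2 ⟨b, b'⟩))).inv_left.mul_left (mul_inv_eq_iff_eq_mul.1 b')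
  have c5 : Commute (q⁻¹ * h) x := by
    rw [Commute, SemiconjBy, ← mul_inv_eq_iff_eq_mul, show q⁻¹ * h * x * (q⁻¹ * h)⁻¹ =
      q⁻¹ * (h * x * h⁻¹) * q by group, c3, ← d.xs.conj_of_ne hq hx c2]; group
  have := mul_mem hq (f (h := q⁻¹ * h) fun r b => (e r b).elim (c4 r b) fun b' => by
    have := (c4 _ (mul_mem b hx) (by rw [← conj_mul, b', c3, mul_assoc, ← mul_assoc t,
      ← (d.ct hx).eq, mul_assoc x, d.tt, mul_one])).mul_right c5.inv_right
    rwa [mul_inv_cancel_right] at this)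
  rwa [mul_inv_cancel_left] at this

theorem coset [Finite G] (a : Ac t ψ h x) (b : Ac t ψ k x) : h * k⁻¹ ∈ R :=
  d.ker (mul_inv_cancel x ▸ d.ac_mul a (d.ac_inv b))

end RD0

namespace RE

variable (d : RE t R ψ)
include d

theorem orb (hi : i < 256) (h0 : i ≠ 0) (e : Eqv t r (ψ (ac x i))) :
    ∃ c y, Ac t ψ c y ∧ c * ψ i * c⁻¹ = r := by
  obtain ⟨h, a⟩ := d.lift x
  obtain ⟨q, b, c⟩ := d.conj hi h0 (r := h⁻¹ * r * h⁻¹⁻¹) (by
    simpa only [ac_inv x hi] using d.af_code (d.ac_inv a) (ac_lt x hi) e)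
  exact ⟨h * q, _, d.ac_mul a (d.ac_mem b), by
    rw [show h * q * ψ i * (h * q)⁻¹ = h * (q * ψ i * q⁻¹) * h⁻¹ by group, c]; group⟩

theorem tyA (hi : i < 256) (e : Eqv t r (ψ i)) (a : dA.testBit i = true) :
    ∃ c y, Ac t ψ c y ∧ c * ψ 16 * c⁻¹ = r := by
  obtain ⟨b1, b2, b3⟩ := (excl i hi).1 a
  rcases orbs i hi with b | ⟨-, x, rfl⟩ | ⟨b, -⟩ | ⟨b, -⟩
  exacts [absurd b b1, d.orb (by norm_num) (by norm_num) e, by simp [b] at b3, by simp [b] at b2]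

theorem tyB (hi : i < 256) (e : Eqv t r (ψ i)) (a : dB.testBit i = true) :
    ∃ c y, Ac t ψ c y ∧ c * ψ 17 * c⁻¹ = r := by
  obtain ⟨b1, b2⟩ := (excl i hi).2 a
  rcases orbs i hi with b | ⟨b, -⟩ | ⟨-, x, rfl⟩ | ⟨b, -⟩
  exacts [absurd b b1, by simpa [a] using ((excl i hi).1 b).2.2,
    d.orb (by norm_num) (by norm_num) e, by simp [b] at b2]

theorem tyQ (hi : i < 256) (e : Eqv t r (ψ i)) (a : qf.testBit i = true) :
    ∃ c y, Ac t ψ c y ∧ c * ψ 6 * c⁻¹ = r := by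
  rcases orbs i hi with rfl | ⟨b, -⟩ | ⟨b, -⟩ | ⟨-, x, rfl⟩
  exacts [absurd a (by decide), by simpa [a] using ((excl i hi).1 b).2.1,
    by simpa [a] using ((excl i hi).2 b).2, d.orb (by norm_num) (by norm_num) e]

theorem cjA (hi : i < 256) (e : Eqv t r (ψ i)) (a : dA.testBit i = true) : IsConj (ψ 16) r :=
  let ⟨c, _, _, b⟩ := d.tyA hi e a
  isConj_iff.2 ⟨c, b⟩

theorem cjB (hi : i < 256) (e : Eqv t r (ψ i)) (a : dB.testBit i = true) : IsConj t r :=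
  let ⟨c, _, _, b⟩ := d.tyB hi e a
  d.cB.trans (isConj_iff.2 ⟨c, b⟩)

theorem sq16 : ψ 16 * ψ 16 = 1 := (d.sq 16 (by norm_num)).2 (by decide)

theorem sq_of (a : IsConj s r) (b : s * s = 1) : r * r = 1 := by
  obtain ⟨c, rfl⟩ := isConj_iff.1 a
  rw [conj_mul, b, mul_one, mul_inv_cancel]

/-- the codes of the conjugates of `ψ 16` -/
theorem of_cjA (hi : i < 256) (e : Eqv t r (ψ i)) (a : IsConj (ψ 16) r) : dA.testBit i = true := by
  rcases orbs i hi with rfl | ⟨b, -⟩ | ⟨b, -⟩ | ⟨b, -⟩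
  · rcases eqv_one_iff.1 (e.trans d.tt d.zero) with rfl | rfl
    exacts [absurd (isConj_one_left.1 a) (d.ne (i := 16) (by norm_num) (by norm_num) (.refl _ _)).1,
      absurd a d.nrt]
  · exact b
  · exact absurd (a.trans (d.cjB hi e b).symm) d.nrt
  · simpa [b] using (d.sq' hi e).1 (d.sq_of a d.sq16)

/-- the codes of the conjugates of `t` -/
theorem of_cjB (hi : i < 256) (e : Eqv t r (ψ i)) (a : IsConj t r) (h0 : i ≠ 0) :
    dB.testBit i = true := by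
  rcases orbs i hi with b | ⟨b, -⟩ | ⟨b, -⟩ | ⟨b, -⟩
  · exact absurd b h0
  · exact absurd ((d.cjA hi e b).trans a.symm) d.nrt
  · exact b
  · simpa [b] using (d.sq' hi e).1 (d.sq_of a d.tt)

end RE

end Cfsg.Agent.HNL
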