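import Cfsg.Agent.HNL.K
import Cfsg.Agent.L43.Gens

/-! Centralisers of shape `3^{1+4} . SL₂(5)`. -/

set_option autoImplicit false
set_option maxRecDepth 100000
set_option synthInstance.maxHeartbeats 400000
set_option synthInstance.maxSize 4000

namespace Cfsg.Agent.HNL

open Subgroup Cfsg Cfsg.Agent.PLocal Cfsg.Agent.PLocal.Amb Cfsg.Agent.Loc3 Cfsg.Agent.Comp
open Cfsg.Agent.G23.Am (one_of_sq mem_of_sq cjk card_seg)
open Cfsg.Agent.L43 (zp)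
open Cfsg.Agent.X32.TG Cfsg.Agent.Loc3.Pr
open scoped commutatorElement

variable {G : Type*} [Group G]

/-- the hypotheses on the centraliser of `z` -/
structure Ex (z : G) (Q : Subgroup G) (π : G → Hh) : Prop where
  z3 : z ^ 3 = 1
  z1 : z ≠ 1
  zQ : z ∈ Q
  cQ : Nat.card Q = 243
  ex : ∀ {q}, q ∈ Q → q ^ 3 = 1
  cm : ∀ {p q}, p ∈ Q → q ∈ Q → ⁅p, q⁆ ∈ zpowers z
  cen : ∀ g, (∀ q ∈ Q, Commute g q) → g ∈ zpowers z
  ph : PH (centralizer {z}) Q π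

theorem exists_ex [Finite G] (S : Sylow 3 G) {Z C Q : Subgroup G}
    (hZ : Z = (S : Subgroup G) ⊓ 𝐂[(S : Subgroup G)]) (hC : C = 𝐂[Z]) (hQ : Q = pCoreOf 3 C)
    (ex : IsExtraspecial 3 Q) (cQ : Nat.card Q = 3 ^ 5)
    (e3 : ∀ a ∈ Q, a ^ 3 = 1) (CQ : 𝐂[Q] ≤ Q) {x : G} (x1 : cj(x, Z) ≤ Q) (x2 : cj(x, Z) ≠ Z)
    (e : C ⧸ pCore 3 C ≃* SL25) :
    ∃ z π, Ex z Q π ∧ (S : Subgroup G) ≤ centralizer {z} ∧ x * z * x⁻¹ ∈ Q ∧
      x * z * x⁻¹ ∉ zpowers z := by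
  have := Fact.mk Nat.prime_three
  have SC : (S : Subgroup G) ≤ C := hC ▸ le_centralizer_iff.1 (hZ ▸ inf_le_right)
  have QS : Q ≤ S := hQ ▸ (isSyl_of_le S SC).pCoreOf_le
  have ZC : Z ≤ 𝐂[Q] := (hZ ▸ inf_le_right : Z ≤ _).trans (centralizer_le QS)
  have mz : ∀ g, g ∈ (center Q).map Q.subtype ↔ g ∈ 𝐂[Q] := fun g =>
    ⟨fun ⟨a, b, c⟩ y hy => c ▸ congrArg Subtype.val (mem_center_iff.1 b ⟨y, hy⟩), fun a =>
      ⟨⟨g, CQ a⟩, mem_center_iff.2 fun y => Subtype.ext (a y y.2), rfl⟩⟩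
  have c3 : Nat.card 𝐂[Q] = 3 := by
    rw [← Subgroup.ext mz, card_map_of_injective Q.subtype_injective, ex.2]
  obtain ⟨z, hz, z1⟩ := Z.bot_or_exists_ne_one.resolve_left (by rintro rfl; simp at x2)
  have z3 := e3 z (CQ (ZC hz))
  have ez : zpowers z = 𝐂[Q] := eq_of_le_of_card_ge (zpowers_le.2 (ZC hz)) (by
    rw [Nat.card_zpowers, orderOf_three z3 z1, c3])
  obtain rfl : Z = zpowers z := le_antisymm (ez ▸ ZC) (zpowers_le.2 hz)
  rw [Amb.centralizer_zpowers] at hC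
  obtain ⟨ι⟩ := exists_iso
  obtain ⟨π, p⟩ := PH.of_hom (QS.trans SC) ((e.trans ι).toMonoidHom.comp (QuotientGroup.mk' _))
    ((e.trans ι).surjective.comp (QuotientGroup.mk'_surjective _)) fun g => by
      rw [hQ, ← mem_subgroupOf, pCoreOf_subgroupOf]; simp
  subst hC
  exact ⟨z, π, ⟨z3, z1, CQ (ZC hz), cQ, e3 _, fun {p q} a b => ez.ge ((mz _).1 ⟨⁅⟨p, a⟩, ⟨q, b⟩⁆,
    ex.1.2.2.le (commutator_mem_commutator (mem_top _) (mem_top _)), rfl⟩),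
    fun g a => ez.ge fun q b => (a q b).symm, p⟩, SC, x1 ⟨z, hz, rfl⟩, fun a => x2
      (eq_of_le_of_card_ge (by rw [MonoidHom.map_zpowers]; exact zpowers_le.2 a) (card_cj _ _).ge)⟩

namespace Ex

variable {z v : G} {Q Q' : Subgroup G} {π π' : G → Hh} (h : Ex z Q π) {a b c d e g p q x y w n t : G}
include h

theorem cz (hq : q ∈ Q) : Commute q z := mem_cent.1 (h.ph.le hq)

theorem mul (a : Commute g z) (b : Commute x z) : π (g * x) = π g * π x :=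
  h.ph.mul (mem_cent.2 a) (mem_cent.2 b)

theorem ker (a : Commute g z) : π g = 1 ↔ g ∈ Q := h.ph.ker (mem_cent.2 a)

theorem pow (a : Commute g z) (k : ℕ) : π (g ^ k) = π g ^ k := h.ph.map_pow (mem_cent.2 a) k

theorem inv (a : Commute g z) : π g⁻¹ = (π g)⁻¹ := h.ph.map_inv (mem_cent.2 a)

theorem eq_of (ha : Commute a z) (hb : Commute b z) (e : π a = π b) : a⁻¹ * b ∈ Q :=
  (h.ker (ha.inv_left.mul_left hb)).1 (by rw [h.mul ha.inv_left hb, h.inv ha, e, inv_mul_cancel])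

theorem ZQ : zpowers z ≤ Q := zpowers_le.2 h.zQ

theorem cj (hg : Commute g z) (hq : q ∈ Q) : g * q * g⁻¹ ∈ Q :=
  conj_mem_of_mem_normalizer (h.ph.norm (mem_cent.2 hg)) hq

theorem cZ : Nat.card (zpowers z) = 3 := by rw [Nat.card_zpowers, orderOf_three h.z3 h.z1]

theorem cC : Nat.card (centralizer ({z} : Set G)) = 29160 := by
  rw [← h.ph.card_mul, h.cQ, X32.TG.card]; rfl

theorem pQ : IsPGroup 3 Q := isPGroup_iff.2 fun _ a => ⟨1, h.ex a⟩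

theorem cZ' (hq : Commute q z) (hx : x ∈ zpowers z) : Commute q x := by
  obtain ⟨k, rfl⟩ := hx
  exact hq.zpow_right k

theorem cml (hp : p ∈ Q) (hq : q ∈ Q) (hv : v ∈ Q) : ⁅p * q, v⁆ = ⁅p, v⁆ * ⁅q, v⁆ := by
  rw [← (h.cZ' (h.cz (h.ZQ (h.cm hp hv))) (h.cm hq hv)).symm.eq,
    ← conj_of_comm (h.cZ' (h.cz hp) (h.cm hq hv))]
  simp only [commutatorElement_def]
  group

/-- commutation with a fixed element -/
def fc (hv : v ∈ Q) : Q →* G := MonoidHom.mk' (fun q => ⁅q.1, v⁆) fun p q => h.cml p.2 q.2 hv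

theorem sh : SecHyp (centralizer {z}) Q (zpowers z) :=
  ⟨h.ZQ, commutator_le.2 fun _ a _ b => h.cm a b, h.ph.norm,
    Amb.centralizer_zpowers z ▸ centralizer_le_normalizer' _⟩

theorem conj (g : G) : Ex (g * z * g⁻¹) cj(g, Q) fun x => π (g⁻¹ * x * g) := by
  have zz : zpowers (g * z * g⁻¹) = cj(g, zpowers z) :=
    (MonoidHom.map_zpowers (MulAut.conj g).toMonoidHom z).symm
  refine ⟨by rw [conj_pow, h.z3]; simp, mt conj_eq_one_iff.1 h.z1, conj_mem_cj g h.zQ,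
    by rw [card_cj, h.cQ], ?_, ?_, fun x a => zz ▸ mem_cj.2 (h.cen _ fun q b => ?_),
    centralizer_singleton_conj g z ▸ h.ph.cj g⟩
  · rintro _ ⟨q, a, rfl⟩
    rw [← map_pow, h.ex a, map_one]
  · rintro _ _ ⟨p, a, rfl⟩ ⟨q, b, rfl⟩
    exact zz ▸ ⟨_, h.cm a b, map_commutatorElement _ _ _⟩
  · simpa [mul_assoc] using Commute.cj (a _ (conj_mem_cj g b)) g⁻¹

theorem inv' : Ex z⁻¹ Q π := by
  refine ⟨by rw [inv_pow, h.z3, inv_one], inv_ne_one.2 h.z1, inv_mem h.zQ, h.cQ, h.ex, ?_, ?_, ?_⟩ <;>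
    simp only [zpowers_inv, ← Amb.centralizer_zpowers]
  exacts [h.cm, h.cen, Amb.centralizer_zpowers z ▸ h.ph]

theorem of_mem (hx : x ∈ zpowers z) (x1 : x ≠ 1) : Ex x Q π := by
  rcases (mem_zpowers_three h.z3).1 hx with e | rfl | rfl
  exacts [absurd e x1, h, h.inv']

theorem of_conj (c : IsConj z v) : ∃ Q' π', Ex v Q' π' := by
  obtain ⟨g, rfl⟩ := isConj_iff.1 c
  exact ⟨_, _, h.conj g⟩

theorem m3' (hx : x ∈ Q') (hw : w ∈ Q') (h' : Ex v Q' π') (cx : Commute x z) (cw : Commute w z) :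
    ⁅w, x⁆ ∈ Q ∧ (x ∈ Q ∨ ∃ u ∈ zpowers x, w * u ∈ Q) := by
  have p : ∀ {g}, g ∈ Q' → Commute g z → π g ^ 3 = 1 := fun a b => by
    rw [← h.pow b, h'.ex a, h.ph.map_one]
  obtain ⟨a, b⟩ := (bd! : ∀ x : Hh, x ^ 3 = 1 → ∀ w : Hh, w ^ 3 = 1 → (w * x) ^ 3 = 1 →
    (w * x⁻¹) ^ 3 = 1 → w * x * w⁻¹ * x⁻¹ = 1 ∧ (x = 1 ∨ w = 1 ∨ w * x = 1 ∨ w * x⁻¹ = 1)) _ (p hx cx) _
    (p hw cw) (h.mul cw cx ▸ p (mul_mem hw hx) (cw.mul_left cx)) (by
      rw [← h.inv cx, ← h.mul cw cx.inv_left]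
      exact p (mul_mem hw (inv_mem hx)) (cw.mul_left cx.inv_left))
  have c := (cw.mul_left cx).mul_left cw.inv_left
  refine ⟨(h.ker (c.mul_left cx.inv_left)).1 ?_, ?_⟩
  · rw [h.mul c cx.inv_left, h.mul (cw.mul_left cx) cw.inv_left, h.mul cw cx, h.inv cx, h.inv cw, a]
  rw [← h.inv cx, ← h.mul cw cx, ← h.mul cw cx.inv_left, h.ker cx, h.ker cw,
    h.ker (cw.mul_left cx), h.ker (cw.mul_left cx.inv_left)] at b
  rcases b with b | b | b | b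
  exacts [Or.inl b, Or.inr ⟨1, one_mem _, by simpa⟩, Or.inr ⟨x, mem_zpowers x, b⟩,
    Or.inr ⟨_, inv_mem (mem_zpowers x), b⟩]

/-- the `t`-inverted lift -/
theorem invI (c : Commute t z) (f : v * (t * v * t⁻¹) ∈ zpowers z) (hv : v ∈ Q) :
    t * (v * (v * (t * v * t⁻¹))) * t⁻¹ = (v * (v * (t * v * t⁻¹)))⁻¹ := by
  obtain ⟨i, j⟩ := f
  have j' : t * v * t⁻¹ = v⁻¹ * z ^ i := by rw [eq_inv_mul_iff_mul_eq]; exact j.symm
  rw [← show z ^ i = _ from j, ← conj_mul, j', conj_of_comm (c.zpow_right i), mul_assoc,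
    ← inv_eq_sq (h.ex (zpow_mem h.zQ i)), ← mul_inv_rev, ((h.cz hv).zpow_right i).eq]

theorem uq (c : Commute t z) (hp : p ∈ Q) (tp : t * p * t⁻¹ = p⁻¹) (tq : t * q * t⁻¹ = q⁻¹)
    (e : p⁻¹ * q ∈ zpowers z) : p = q := by
  have a := conj_of_comm (h.cZ' (h.cz hp) (inv_mem e))
  refine inv_mul_eq_one.1 (one_of_sq (k := 1) (h.ex (h.ZQ e)) (mul_eq_one_iff_eq_inv.2 ?_))
  have d := conj_of_comm (h.cZ' c e)
  rw [← conj_mul, ← conj_inv, tp, tq] at d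
  rw [← a]
  exact d.symm.trans (by group)

variable [Finite G]

theorem dec (hc : c ∈ Q) (hv : v ∈ Q) (n : ¬ Commute c v) (hq : q ∈ Q) :
    ∃ u ∈ zpowers c, Commute (q * u) v := by
  obtain ⟨k, e⟩ := (zp h.z3 (h.cm hc hv) (mt commutatorElement_eq_one_iff_commute.1 n)).ge
    (inv_mem (h.cm hq hv))
  refine ⟨c ^ k, zpow_mem (mem_zpowers c) k, commutatorElement_eq_one_iff_commute.1 ?_⟩
  rw [h.cml hq (zpow_mem hc k) hv, ← mul_inv_cancel ⁅q, v⁆, ← e]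
  exact congrArg _ (map_zpow (h.fc hv) ⟨c, hc⟩ k)

theorem exc (v1 : v ∉ zpowers z) : ∃ c ∈ Q, ¬ Commute c v := by
  by_contra! a
  exact v1 (h.cen v fun q b => (a q b).symm)

theorem exc' (hv : v ∈ Q) (v1 : v ∉ zpowers z) (hx : x ∈ zpowers z) :
    ∃ c ∈ Q, c * v * c⁻¹ = v * x := by
  obtain ⟨c, a, b⟩ := h.exc v1
  obtain ⟨k, e⟩ := (zp h.z3 (h.cm a hv) (mt commutatorElement_eq_one_iff_commute.1 b)).ge hx
  refine ⟨c ^ k, zpow_mem a k, ?_⟩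
  rw [(h.cZ' (h.cz hv) hx).eq, ← e, ← mul_inv_eq_iff_eq_mul]
  exact map_zpow (h.fc hv) ⟨c, a⟩ k

theorem zz (hv : v ∈ Q) (v1 : v ∉ zpowers z) (he : e ∈ Q)
    (c : ∀ d ∈ Q, Commute d v → Commute d e) : ∃ u ∈ zpowers v, e * u ∈ zpowers z := by
  obtain ⟨x, a, b⟩ := h.exc v1
  obtain ⟨u, ⟨k, rfl⟩, d⟩ := h.dec hv a (mt Commute.symm b) he
  refine ⟨_, ⟨k, rfl⟩, h.cen _ fun q hq => ?_⟩
  obtain ⟨u, ⟨l, rfl⟩, f⟩ := h.dec a hv b hq
  simpa using ((c _ (mul_mem hq (zpow_mem a l)) f).mul_right (f.zpow_right k)).symm.mul_right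
    (d.zpow_right l).inv_right

theorem nab (hv : v ∈ Q) (v1 : v ∉ zpowers z) :
    ∃ p ∈ Q, ∃ q ∈ Q, Commute p v ∧ Commute q v ∧ ¬ Commute p q := by
  by_contra! f
  obtain ⟨x, a, b⟩ := h.exc v1
  have m : ∀ {g k : G}, k ∈ Q → g ∈ zpowers k → ∃ i : Fin 3, g = k ^ i.1 := fun a b => by
    rcases (mem_zpowers_three (h.ex a)).1 b with rfl | rfl | rfl
    exacts [⟨0, by simp⟩, ⟨1, by simp⟩, ⟨2, by simp [inv_eq_sq (h.ex a), pow_two]⟩]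
  have := Nat.card_le_card_of_surjective (fun i : Fin 3 × Fin 3 × Fin 3 => (⟨z ^ i.1.1 * (v ^ i.2.1.1)⁻¹
    * (x ^ i.2.2.1)⁻¹, mul_mem (mul_mem (pow_mem h.zQ _) (inv_mem (pow_mem hv _)))
      (inv_mem (pow_mem a _))⟩ : Q)) fun ⟨q, hq⟩ => by
    obtain ⟨u, c, d⟩ := h.dec a hv b hq
    have e := mul_mem hq (zpowers_le.2 a c)
    obtain ⟨w, i, j⟩ := h.zz hv v1 e fun p k l => f p k _ e l d
    obtain ⟨i1, rfl⟩ := m a c
    obtain ⟨i2, rfl⟩ := m hv i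
    obtain ⟨i3, k⟩ := m h.zQ j
    exact ⟨(i3, i2, i1), Subtype.ext (by simp only; rw [← k]; group)⟩
  simp [h.cQ] at this

theorem exists_om : ∃ ω : Sec h.sh →+ Sec h.sh →+ ZMod 3,
    (∀ {p q}, p ∈ Q → q ∈ Q → (ω (Sec.pr h.sh p) (Sec.pr h.sh q) = 0 ↔ Commute p q)) ∧
    (∀ {p q p' q'}, p ∈ Q → q ∈ Q → p' ∈ Q → q' ∈ Q → ω (Sec.pr h.sh p) (Sec.pr h.sh q) =
      ω (Sec.pr h.sh p') (Sec.pr h.sh q') → ⁅p, q⁆ = ⁅p', q'⁆) ∧
    ∀ g x y, ω (Sec.rep h.sh g x) (Sec.rep h.sh g y) = ω x y := by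
  have := Fact.mk Nat.prime_three
  let e : zpowers z ≃* Multiplicative (ZMod 3) := mulEquivOfPrimeCardEq h.cZ (by simp)
  let f : Q → Q → ZMod 3 := fun p q => (e ⟨_, h.cm p.2 q.2⟩).toAdd
  have f0 : ∀ p q, f p q = 0 ↔ Commute p.1 q.1 := fun p q => by
    simp [f, Subtype.ext_iff, commutatorElement_eq_one_iff_commute]
  have f1 : ∀ p q w, f (p * q) w = f p w + f q w := fun p q w => by
    simp only [f, ← toAdd_mul, ← map_mul]
    exact congrArg (fun x => (e x).toAdd) (Subtype.ext (h.cml p.2 q.2 w.2))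
  have f2 : ∀ p q, f q p = -f p q := fun p q => by
    simp only [f, ← toAdd_inv, ← map_inv]
    exact congrArg (fun x => (e x).toAdd) (Subtype.ext (commutatorElement_inv _ _).symm)
  have f3 : ∀ p q w, Sec.mk h.sh p = Sec.mk h.sh q → f p w = f q w := fun p q w a => by
    have := f1 p (p⁻¹ * q) w
    rwa [mul_inv_cancel_left, (f0 (p⁻¹ * q) w).2 (h.cZ' (h.cz w.2) ((Sec.mk_eq_mk _).1 a)).symm,
      add_zero, eq_comm] at this
  choose o ho using Sec.mk_surjective h.sh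
  have f4 : ∀ x y w, f (o (x + y)) w = f (o x) w + f (o y) w := fun x y w => by
    rw [← f1, f3 _ (o x * o y) w (by rw [Sec.mk_mul, ho, ho, ho])]
  let ω : Sec h.sh →+ Sec h.sh →+ ZMod 3 := AddMonoidHom.mk' (fun x => AddMonoidHom.mk'
    (fun y => f (o x) (o y)) fun y w => by rw [f2, f4, f2 _ (o x), f2 _ (o x), neg_add])
    fun x y => AddMonoidHom.ext fun w => f4 x y _
  have f5 : ∀ p q, ω (Sec.mk h.sh p) (Sec.mk h.sh q) = f p q := fun p q => by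
    change f _ _ = _
    rw [f3 _ p _ (ho _), f2, f3 _ q _ (ho _), ← f2]
  refine ⟨ω, fun a b => by rw [Sec.pr_of_mem _ a, Sec.pr_of_mem _ b, f5, f0], fun a b c d k => ?_,
    fun g x y => ?_⟩
  · rw [Sec.pr_of_mem _ a, Sec.pr_of_mem _ b, Sec.pr_of_mem _ c, Sec.pr_of_mem _ d, f5, f5] at k
    exact congrArg Subtype.val (e.injective (Multiplicative.toAdd.injective k))
  obtain ⟨p, rfl⟩ := Sec.mk_surjective _ x
  obtain ⟨q, rfl⟩ := Sec.mk_surjective _ y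
  exact (f5 (Sec.conjU _ g p) (Sec.conjU _ g q)).trans ((congrArg (fun x => (e x).toAdd) (Subtype.ext
    ((conjugate_commutatorElement _ _ _).symm.trans (conj_of_comm (h.cZ' (mem_cent.1 g.2)
      (h.cm p.2 q.2)))))).trans (f5 p q).symm)

variable (h' : Ex v Q' π') (hv : v ∈ Q) (v1 : v ∉ zpowers z)
include h' hv v1

theorem zmem : z ∈ Q' ∧ z ∉ zpowers v := by
  obtain ⟨p, a, q, b, c, d, e⟩ := h.nab hv v1
  refine ⟨zpowers_le.2 (h'.m3' b a h d c).1 ((zp h.z3 (h.cm a b)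
    (mt commutatorElement_eq_one_iff_commute.1 e)).ge (mem_zpowers z)), fun f => v1 ?_⟩
  exact (zp h'.z3 f h.z1).ge (mem_zpowers v)

theorem zv (a : x ∈ zpowers z) (b : x ∈ zpowers v) : x = 1 := by_contra fun c =>
  v1 ((zp h.z3 a c).le ((zp h'.z3 b c).ge (mem_zpowers v)))

theorem exy : ∃ y ∈ Q', Commute y z ∧ y ∉ Q ∧ ∃ a ∈ Q, a ∈ Q' ∧ ¬ Commute y a := by
  obtain ⟨zQ, z1⟩ := h.zmem h' hv v1
  obtain ⟨p, a, q, b, c, d, f⟩ := h'.nab zQ z1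
  obtain ⟨y, yQ, yz, yn⟩ : ∃ x ∈ Q', Commute x z ∧ x ∉ Q := by
    by_contra! g
    exact f (commutatorElement_eq_one_iff_commute.1 (h.zv h' hv v1 (h.cm (g p a c) (g q b d)) (h'.cm a b)))
  by_contra! g
  replace g := g y yQ yz yn
  obtain ⟨_, ⟨i, rfl⟩, k⟩ := (h.m3' yQ a h' yz c).2.resolve_left yn
  obtain ⟨_, ⟨j, rfl⟩, l⟩ := (h.m3' yQ b h' yz d).2.resolve_left yn
  have k' := mul_mem a (zpow_mem yQ i)
  have l' := mul_mem b (zpow_mem yQ j)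
  have n := commutatorElement_eq_one_iff_commute.1 (h.zv h' hv v1 (h.cm k l) (h'.cm k' l'))
  simpa [f] using (n.mul_left ((g _ l l').zpow_left i).inv_left).mul_right
    (((g _ k k').symm.zpow_right j).mul_left ((Commute.refl y).zpow_zpow i j).inv_left).inv_right

end Ex

/-- a chart gives the hypotheses -/
theorem Ch.ex {φ : K →* G} (h : Ch φ) : ∃ π, Ex (φ Z) (sQ.map φ) π ∧ ∀ k, π (φ k) = hp k := by
  have c : ∀ k, Commute k Z := bd!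
  have r : centralizer {φ Z} = φ.range := le_antisymm (fun g a => h.cz' g (mem_cent.1 a))
    (by rintro _ ⟨k, rfl⟩; exact mem_cent.2 ((c k).map φ))
  have f : ∀ k, (MonoidHom.ofInjective h.inj).symm ⟨φ k, k, rfl⟩ = k := fun k =>
    (MonoidHom.ofInjective h.inj).symm_apply_apply k
  obtain ⟨π, w, u⟩ := WH.of_hom (map_le_range φ sQ) (hp.comp (MonoidHom.ofInjective h.inj).symm.toMonoidHom)
    (by rintro ⟨_, k, rfl⟩; rw [h.mem, ← hp_ker]; exact Eq.congr_left (congrArg hp (f k)))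
  have e' : ∀ k, π (φ k) = hp k := fun k => (u ⟨_, k, rfl⟩).trans (congrArg hp (f k))
  refine ⟨π, ⟨h.z3, h.ne1 bd!, h.mem.2 bd!, by rw [h.cd, card_seg (by decide)], ?_, ?_, fun g a => ?_,
    r ▸ ⟨w, fun x => ⟨_, ⟨e (243 * x.v), rfl⟩, (e' _).trans (X32.TG.ext (by
      have := x.lt
      change 243 * x.v % 29160 / 243 = x.v
      change x.v < 120 at this
      omega))⟩⟩⟩, e'⟩
  · rintro _ ⟨q, a, rfl⟩
    rw [← map_pow, (bd! : ∀ q ∈ sQ, q ^ 3 = 1) q a, map_one]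
  · rintro _ _ ⟨p, a, rfl⟩ ⟨q, b, rfl⟩
    rw [← map_commutatorElement, mem_zpowers_three h.z3]
    simpa only [← map_inv, h.inj.eq_iff, map_eq_one_iff _ h.inj] using
      (bd! : ∀ p ∈ sQ, ∀ q ∈ sQ, ⁅p, q⁆ = 1 ∨ ⁅p, q⁆ = Z ∨ ⁅p, q⁆ = Z⁻¹) p a q b
  · obtain ⟨k, rfl⟩ := h.cz (a _ (h.mem.2 bd!))
    rw [mem_zpowers_three h.z3]
    simpa [← map_inv, h.inj.eq_iff, map_eq_one_iff _ h.inj] using
      (bd! : ∀ k : K, Commute k E1 → Commute k F1 → Commute k E2 → Commute k F2 → k = 1 ∨ k = Z ∨ k = Z⁻¹) k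
        (h.cm (a _ (h.mem.2 bd!))) (h.cm (a _ (h.mem.2 bd!))) (h.cm (a _ (h.mem.2 bd!)))
        (h.cm (a _ (h.mem.2 bd!)))

end Cfsg.Agent.HNL
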