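import Cfsg.Agent.HNL.SCa
import Cfsg.Agent.Mon.HNd

/-! The identification with the Harada–Norton group. -/

set_option autoImplicit false
set_option maxRecDepth 100000
set_option synthInstance.maxHeartbeats 400000
set_option synthInstance.maxSize 4000

namespace Cfsg.Agent.HNL

open Subgroup Cfsg.Agent.TT Cfsg.Agent.LES Cfsg.Agent.X32 Cfsg.Agent.X32.TG Cfsg.Agent.Loc3.Pr
open Cfsg.Agent.Mon.HN (comb comb_lt xor_lt)

variable {G : Type*} [Group G] [Finite G] {t : G} {R : Subgroup G} {ψ : ℕ → G}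

namespace FinA

open Cfsg.Agent.Comp Cfsg.Agent.Mont
open Cfsg.Agent.Mon.HN (Γ lt256 Qf)

/-- change of coordinates -/
def L : ℕ → ℕ := comb [16, 4, 162, 183, 160, 191, 230, 136]

def L' : ℕ → ℕ := comb [15, 20, 2, 40, 1, 184, 70, 168]

theorem adL : Ad L := Ad.comb' (by decide)

theorem fq : ∀ i < 256, L' i < 256 ∧ L (L' i) = i ∧ L' (L i) = i ∧ qf.testBit (L i) = Qf.testBit i ∧
    (C5.D4.testBit i = true → dB.testBit (L i) = true) := by decide +kernel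

/-- the permutation `p` corresponds to `x` -/
def Rl (p : Equiv.Perm ℕ) (x : Wr) : Prop := p ∈ Γ ∧ ∀ i < 256, L (p i) = ac x (L i)

theorem Rl.one : Rl 1 1 := ⟨one_mem _, fun i hi => (ac_one _ (adL.lt i hi)).symm⟩

theorem Rl.mul {p q : Equiv.Perm ℕ} {x y : Wr} (a : Rl p x) (b : Rl q y) : Rl (p * q) (x * y) :=
  ⟨mul_mem a.1 b.1, fun i hi => by
    rw [Equiv.Perm.mul_apply, a.2 _ (lt256 b.1 hi), b.2 i hi, ac_mul _ _ (adL.lt i hi)]⟩

theorem Rl.inv {p : Equiv.Perm ℕ} {x : Wr} (a : Rl p x) : Rl p⁻¹ x⁻¹ :=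
  ⟨inv_mem a.1, fun i hi => by
    have := lt256 (inv_mem a.1) hi
    rw [← ac_inv x (adL.lt _ this), ← a.2 _ this, ← Equiv.Perm.mul_apply, mul_inv_cancel, Equiv.Perm.one_apply]⟩

noncomputable def lk (x : ℕ) (u : List ℕ) : Bool :=
  withRL 256 8 fun R T => force (appW R C5.ns u T) fun T =>
    allLT 256 fun i => Nat.beq (L (val 256 R T i)) (acN x (L i))

theorem gens : ∀ u ∈ C5.G_ss0, Rl (wp C5.ns u) (e (if u = [0] then 5998 else 170)) := fun u hu =>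
  ⟨wp_mem_gen _ hu, fun i hi => by
    have h := (by decide +kernel : ∀ u ∈ C5.G_ss0,
      lk (e (if u = [0] then 5998 else 170) : Wr).v u = true) u hu
    simp only [lk, withRL_eq C5.ctx.pos, force_eq, allLT_iff, beq_iff] at h
    have := h i hi
    rwa [((tab_idP C5.ctx.le).appW C5.ctx.ok _).val (by norm_num) C5.ctx.le hi, one_mul] at this⟩

theorem of_wr (k : Wr) : ∃ p, Rl p k := by
  let H : Subgroup Wr := ⟨⟨⟨{k | ∃ p, Rl p k}, fun ⟨_, a⟩ ⟨_, b⟩ => ⟨_, a.mul b⟩⟩, ⟨_, .one⟩⟩, fun ⟨_, a⟩ => ⟨_, a.inv⟩⟩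
  have w (u : List ℕ) : (u.map fun i => ([e 5998, e 170, (e 5998)⁻¹, (e 170)⁻¹] : List Wr).getD i 1).prod ∈ H := by
    have x : e 5998 ∈ H := ⟨_, gens [0] (by decide)⟩
    have z : e 170 ∈ H := ⟨_, gens [2] (by decide)⟩
    refine list_prod_mem (List.forall_mem_map.2 fun i _ => ?_)
    match i with
    | 0 => exact x
    | 1 => exact z
    | 2 => exact inv_mem x
    | 3 => exact inv_mem z
    | _ + 4 => exact one_mem H
  refine top4 (H := H) ?_ ?_ ?_ ?_ k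
  · convert w [1, 0, 1, 0, 1, 2, 1, 0, 1, 2, 1, 2] using 1; exact bd!
  · convert w [0, 1, 0, 1, 0, 0, 3, 0, 1, 2, 1] using 1; exact bd!
  · convert w [0, 0, 3, 2, 3, 2, 3, 0] using 1; exact bd!
  · convert w [1, 0, 3, 0, 0, 1, 2, 3] using 1; exact bd!

theorem of_perm {p : Equiv.Perm ℕ} (hp : p ∈ Γ) : ∃ k, Rl p k := by
  induction hp using closure_induction with
  | mem p hp =>
    obtain ⟨u, hu, rfl⟩ := hp
    exact ⟨_, gens u hu⟩
  | one => exact ⟨_, .one⟩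
  | mul p q _ _ a b => exact ⟨_, a.choose_spec.mul b.choose_spec⟩
  | inv p _ a => exact ⟨_, a.choose_spec.inv⟩

end FinA

open FinA in
/-- Apply `Mon.HN.HD.isoHN` to `HD t R (fun i => ψ (L i)) {a | IsConj (ψ 16) a}`,
`L = comb [16,4,162,183,160,191,230,136]` (`Ad.comb'`; inverse `comb [15,20,2,40,1,184,70,168]`; `L 1 = 16`; for `i < 256`: `Qf i = qf (L i)`,
`C5.D4 i = dB (L i)`; `decide +kernel`).  With `γ₀ = wp C5.ns [0]`, `γ₂ = wp C5.ns [2]` (`C5.G_ss0 = [[0],[2]]`): `L (γ₀ i) = ac (e 5998) (L i)`,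
`L (γ₂ i) = ac (e 170) (L i)` for `i < 256` (evaluate as in `Mon.HN.of_chk` / X9/HN).  The relation `p ∈ Γ ∧ ∀ i < 256, L (p i) = ac x (L i)` is closed under
products and inverses (`lt256`, `ac_mul`).  `lift`: closure induction, `d.lift`.  `act`: `all` and `top4`, where with `x = e 5998`, `z = e 170`, `X, Z` the
inverses: `xY = z x z x z X z x z X z X`, `xG = x z x z x x Z x z X z`, `xS = x x Z X Z X Z x`, `xX = z x Z x x z X Z` (`bd!`).  `lx`: `xs`, `cent`,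
`all` + `af_norm`.  `d4`: `cjB`.  `l1`: `u u = 1 = (u t)(u t)`, so `u` commutes with `t`; `all`, `cosets`, `nrt`. -/
theorem RE.isoHN (d : RE t R ψ) (all : ∀ h, Commute h t → ∃ x, Ac t ψ h x) :
    Cfsg.Spor.IsoHN G := by
  have ac : ∀ {g x p}, Ac t ψ g x → Rl p x → Mon.HN.Ac t (fun i => ψ (L i)) g p := fun a b i hi => by
    beta_reduce
    rw [b.2 i hi]
    exact a.2 _ (adL.lt i hi)
  refine Mon.HN.HD.isoHN (z := t) (R := R) (ψ := fun i => ψ (L i)) (A := {a | IsConj (ψ 16) a})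
    ⟨⟨d.xs, fun c hc => ?_, fun c hc x hx => d.af_norm (all c hc).choose_spec hx⟩, fun i => d.mem _,
    fun i hi j hj => ?_, fun r hr => ?_, fun i hi j hj e => ?_,
    fun i hi => (fq i hi).2.2.2.1 ▸ d.sq _ (adL.lt i hi), fun g hg => ?_, fun p hp => ?_,
    fun a ha g => ha.trans (isConj_iff.2 ⟨g, rfl⟩), fun a ha => d.sq_of ha d.sq16,
    fun e => (d.ne (i := 16) (by norm_num) (by norm_num) (.refl _ _)).1 (isConj_one_left.1 e), d.nrt,
    fun i hi e => d.cjB (adL.lt i hi) (.refl _ _) ((fq i hi).2.2.2.2 e), IsConj.refl _, fun u a b => ?_⟩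
  · rcases d.cent c fun r hr => (hc r hr).symm with rfl | rfl
    exacts [one_mem _, d.xs.z_mem]
  · rw [adL.add i hi j hj]
    exact d.add _ (adL.lt i hi) _ (adL.lt j hj)
  · obtain ⟨v, hv, e⟩ := d.onto r hr
    exact ⟨_, (fq v hv).1, by rwa [(fq v hv).2.1]⟩
  · rw [← (fq i hi).2.2.1, d.inj _ (adL.lt i hi) _ (adL.lt j hj) e, (fq j hj).2.2.1]
  · obtain ⟨x, a⟩ := all g hg
    obtain ⟨p, b⟩ := of_wr x
    exact ⟨p, b.1, ac a b⟩
  · obtain ⟨x, b⟩ := of_perm hp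
    obtain ⟨g, a⟩ := d.lift x
    exact ⟨g, a.1, ac a b⟩
  have u2 := d.sq_of a d.sq16
  obtain ⟨x, c⟩ := all u (by
    rw [Commute, SemiconjBy, ← inv_eq_of_mul_eq_one_right (d.sq_of b d.sq16), mul_inv_rev,
      inv_eq_of_mul_eq_one_right u2, inv_eq_of_mul_eq_one_right d.tt])
  rcases d.cosets c (Or.inl u2) with r | ⟨-, ⟨-, r⟩ | ⟨r, -⟩⟩ | ⟨-, r, -⟩ | ⟨r, -⟩
  exacts [r, absurd (b.trans r.symm) d.nrt, absurd (a.trans r.symm) d.nrt, absurd (a.trans r.symm) d.nrt,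
    absurd (r.symm.trans u2) d.xs.z_ne]

end Cfsg.Agent.HNL
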