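import Cfsg.Agent.HNL.R1

/-! The action of some elements on the extraspecial group. -/

set_option autoImplicit false
set_option synthInstance.maxSize 100000
set_option synthInstance.maxHeartbeats 400000

namespace Cfsg.Agent.HNL

open Subgroup Equiv Cfsg.Agent.Comp Cfsg.Agent.Loc3 Cfsg.Agent.TT

variable {G : Type*} [Group G] {α : A12 →* G} {g : G} {R : Subgroup G}

theorem tabA : ∀ u : A12, Commute u v1 ∧ Commute u v2 ∧ Commute u tt →
    ∃ σ ∈ [1, yy, yy * yy, s3, s3 * yy, s3 * yy * yy],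
      (u * σ⁻¹ * a1 = a1 * (u * σ⁻¹) ∨ u * σ⁻¹ * a1 = a1 * tt * (u * σ⁻¹)) ∧
      (u * σ⁻¹ * a2 = a2 * (u * σ⁻¹) ∨ u * σ⁻¹ * a2 = a2 * tt * (u * σ⁻¹)) := pd!

theorem tabB : ∀ u : A12, Commute u v1 ∧ Commute u v2 ∧ Commute u tt →
    (u * a1 = a1 * u ∨ u * a1 = a1 * tt * u) ∧ (u * a2 = a2 * u ∨ u * a2 = a2 * tt * u) →
    ∃ i < 16, ∃ l < 4, u = rho i * vv l ∨ u = rho i * vv l * tt := pd!

theorem AE.eqv (h : AE α g) {x y : A12} (e : x = y ∨ x = y * tt) : Eqv (α tt) (α x) (α y) := by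
  simpa only [Eqv, ← map_mul, h.inj.eq_iff] using e

theorem AE.ac_of (h : AE α g) (d : RD0 (α tt) R (psi α g)) {k k' : A12} {x : Wr} (a : Th α g k' k)
    (e : Commute k tt ∧ ∀ i ∈ bs, (rho (ac x i) = k * rho i * k⁻¹ ∨ rho (ac x i) = k * rho i * k⁻¹ * tt) ∧
      (rho (ac x i / 16) = k' * rho (i / 16) * k'⁻¹ ∨
        rho (ac x i / 16) = k' * rho (i / 16) * k'⁻¹ * tt)) : Ac (α tt) (psi α g) (α k) x :=
  d.ac_of_bs (e.1.map α) fun i m => by
    have e1 := h.eqv (e.2 i m).1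
    have e2 := (h.eqv (e.2 i m).2).conj h.gt.eq
    have := (e1.mul_right (h.cq h.gtt (rho_t _)).eq).trans d.tt (e2.mul_left _)
    rw [psi, psi, ← conj_mul]
    convert this using 2
    · simp
    · rw [← a]; simp [mul_assoc]

/-- General lemma: if `Th α g k' k`, `k` commutes with `tt`, then `α k ψ i (α k)⁻¹ = α (k rho i k⁻¹) · g α (k' rho (i/16) k'⁻¹) g⁻¹`;
use `RD0.ac_of_bs` and `pd!`: for `i ∈ bs`, `k rho i k⁻¹ = rho (ac x i)` or times `tt`, `k' rho (i/16) k'⁻¹ = rho (ac x i / 16)` or times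
`tt` (the kernel evaluates `ac x i`).  For `yy`: `k' = w4` (`g4`).  For `s3`: `k' = pm 0xab9867543210 = (6 7)(10 11)`, word
`[0,2,0,0,2,0,2]` for `h.th'`.  For `e0`: `k' = pm 0xab9867345012`, word `[0,2,0,0,2,0,2,3,4,5,3,3,5,3,5]`. -/
theorem AE.acY (h : AE α g) (d : RD0 (α tt) R (psi α g)) : Ac (α tt) (psi α g) (α yy) xY :=
  h.ac_of d h.g4 pd!

/-- see `acY`. -/
theorem AE.acS (h : AE α g) (d : RD0 (α tt) R (psi α g)) : Ac (α tt) (psi α g) (α s3) xS :=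
  h.ac_of d (k' := pm 0xab9867543210) (h.th' [0, 2, 0, 0, 2, 0, 2] pd!) pd!

/-- see `acY`. -/
theorem AE.acE (h : AE α g) (d : RD0 (α tt) R (psi α g)) : Ac (α tt) (psi α g) (α e0) xE :=
  h.ac_of d (k' := pm 0xab9867345012) (h.th' [0, 2, 0, 0, 2, 0, 2, 3, 4, 5, 3, 3, 5, 3, 5] pd!) pd!

/-- `ac xG` maps the basis `1,2,4,…,128` to `16,32,64,128,1,2,4,8`; `rho 0 = 1`, `g * g = α tt` commutes with `rho i`. -/
theorem AE.acG (h : AE α g) (d : RD0 (α tt) R (psi α g)) : Ac (α tt) (psi α g) g xG :=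
  d.ac_of_bs h.gt fun i m => .inl <| by
    have := (pd! : ∀ i ∈ bs, rho (ac xG i) = rho (i / 16) ∧ rho (ac xG i / 16) = rho i ∧
      (rho i = 1 ∨ rho (i / 16) = 1)) i m
    rw [psi, psi, this.1, this.2.1, ← conj_mul, show g * (g * α (rho (i / 16)) * g⁻¹) * g⁻¹ =
      g * g * α (rho (i / 16)) * (g * g)⁻¹ by group, h.g2, ((rho_t _).map α).symm.mul_inv_cancel]
    rcases this.2.2 with e | e <;> simp [e]

/-- Let `k` commute with `t` and fix `ψ 16 = α v1`, `ψ 32 = α v2` mod `t` (`psi16, psi32`).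
For a suitable `j ∈ [0,64,128,192]` (`(bq j 16, bq j 32) = (0,0),(0,1),(1,0),(1,1)`, `comm_iff`, `XS.conj_of_ne`) `ψ j * k` commutes with
`α v1, α v2`, so is `α u` with `u ∈ C_{A12}(v1,v2,tt)` (768 elements).  `pd!` twice: there is `σ ∈ [1,yy,yy*yy,s3,s3*yy,s3*yy*yy]` such that
`u * σ⁻¹` fixes `a1, a2` mod `tt`; and an element of `C(v1,v2,tt)` fixing `a1,a2` mod `tt` is `rho i * v` or times `tt`, `i < 16`,
`v ∈ [1,v1,v2,v1*v2]`, whose image under `α` is in `R` (`psi α g i = α (rho i)` for `i < 16`).  Finish with `ac_mem, ac_mul, acY, acS`. -/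
theorem AE.rd (h : AE α g) (cV : ∀ k, Commute k (α v1) → Commute k (α v2) → k ∈ α.range)
    (d : RD0 (α tt) R (psi α g)) : RD (α tt) R (psi α g) := ⟨d, fun k c e1 e2 => by
  have fx : ∀ {i j}, i < 256 → j < 256 → Eqv (α tt) (psi α g i) (k * psi α g i * k⁻¹) →
      (bq j i = false ↔ k * psi α g i * k⁻¹ = psi α g i) → Commute (psi α g j * k) (psi α g i) :=
    fun {i j} a b e f => by
      rw [Commute, SemiconjBy, ← mul_inv_eq_iff_eq_mul, show psi α g j * k * psi α g i *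
        (psi α g j * k)⁻¹ = psi α g j * (k * psi α g i * k⁻¹) * (psi α g j)⁻¹ by group]
      rw [← d.comm_iff b a] at f
      by_cases n : k * psi α g i * k⁻¹ = psi α g i
      · rw [n, f.2 n, mul_inv_cancel_right]
      · rw [(e.symm d.tt).resolve_left n, ← conj_mul, d.xs.conj_of_ne (d.mem j) (d.mem i) (mt f.1 n),
          (d.ct (d.mem j)).mul_inv_cancel, mul_assoc, d.tt, mul_one]
  obtain ⟨j, a, b1, b2⟩ : ∃ j < 256, (bq j 16 = false ↔ k * psi α g 16 * k⁻¹ = psi α g 16) ∧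
      (bq j 32 = false ↔ k * psi α g 32 * k⁻¹ = psi α g 32) := by
    by_cases n1 : k * psi α g 16 * k⁻¹ = psi α g 16 <;> by_cases n2 : k * psi α g 32 * k⁻¹ = psi α g 32 <;>
      simp only [n1, n2, iff_true, iff_false]
    exacts [⟨0, by decide⟩, ⟨64, by decide⟩, ⟨128, by decide⟩, ⟨192, by decide⟩]
  have c1 := fx (by norm_num) a e1 b1
  have c2 := fx (by norm_num) a e2 b2
  have c3 := (d.ct (d.mem j)).mul_left c
  rw [h.psi16] at c1
  rw [h.psi32] at c2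
  obtain ⟨u, hu⟩ := cV _ c1 c2
  rw [← hu, h.comm] at c1 c2 c3
  obtain ⟨σ, m, a1⟩ := tabA u ⟨c1, c2, c3⟩
  have c4 := (pd! : ∀ σ ∈ [1, yy, yy * yy, s3, s3 * yy, s3 * yy * yy],
    Commute σ v1 ∧ Commute σ v2 ∧ Commute σ tt) σ m
  obtain ⟨i, hi, l, hl, a2⟩ := tabB _ ⟨c1.mul_left c4.1.inv_left,
      c2.mul_left c4.2.1.inv_left, c3.mul_left c4.2.2.inv_left⟩ a1
  have r : α (u * σ⁻¹) ∈ R := d.mem' (i := i + 16 * l) (by
    rw [psi, ← rho_mod, show (i + 16 * l) % 16 = i by omega, show (i + 16 * l) / 16 = l by omega,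
      h.thv l hl, ← map_mul]
    exact h.eqv a2)
  obtain ⟨x, mx, ax⟩ : ∃ x ∈ six, Ac (α tt) (psi α g) (α σ) x := by
    have y := h.acY d
    have s := h.acS d
    simp only [List.mem_cons, List.not_mem_nil, or_false] at m
    rcases m with rfl | rfl | rfl | rfl | rfl | rfl <;> try simp only [map_mul, map_one]
    exacts [⟨_, by simp, d.ac_one⟩, ⟨_, by simp, y⟩, ⟨_, by simp, d.ac_mul y y⟩, ⟨_, by simp, s⟩,
      ⟨_, by simp, d.ac_mul s y⟩, ⟨_, by simp, d.ac_mul (d.ac_mul s y) y⟩]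
  have := d.ac_mul (d.ac_mem (mul_mem (inv_mem (d.mem j)) r)) ax
  rw [one_mul, map_mul, map_inv, hu] at this
  exact ⟨x, mx, by simpa [mul_assoc] using this⟩⟩

end Cfsg.Agent.HNL
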