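import Cfsg.Agent.HNL.A12
import Cfsg.Agent.HNL.Defs

/-! The last generator of the wreath product. -/

set_option autoImplicit false
set_option synthInstance.maxSize 100000
set_option synthInstance.maxHeartbeats 400000

namespace Cfsg.Agent.HNL

open Subgroup Equiv Cfsg.Agent.Comp Cfsg.Agent.Loc3 Cfsg.Agent.TT

variable {G : Type*} [Group G] [Finite G] {α : A12 →* G} {g : G} {R : Subgroup G}

section
open Cfsg.Agent.X32 Cfsg.Agent.X32.TG Cfsg.Agent.Loc3.Pr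
open Cfsg.Agent.Mon.HN (comb comb_lt xor_lt)

/-- the letters -/
noncomputable def r3sel (F : ℕ → ℕ) (k : ℕ) : ℕ → ℕ :=
  getL F [ac xY, ac xG, ac xS] k

/-- words in the letters -/
noncomputable def r3ev (F : ℕ → ℕ) (w : List ℕ) (v : ℕ) : ℕ :=
  List.rec (motive := fun _ => ℕ) v (fun k _ ih => force ih fun ih => r3sel F k ih) w

set_option maxRecDepth 100000 in
theorem r3_chk : ∀ a < 256, (∀ u < 64, qf.testBit (comb [1, 21, 19, a, 16, 47 ^^^ a] u) = qf.testBit u) →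
    ∀ b < 256, (∀ u < 128, qf.testBit (comb [1, 21, 19, a, 16, 47 ^^^ a, b] u) = qf.testBit u) →
    ∀ c < 256, (∀ u < 256, qf.testBit (comb [1, 21, 19, a, 16, 47 ^^^ a, b, c] u) = qf.testBit u) →
      (∀ v ∈ bs, comb [1, 21, 19, a, 16, 47 ^^^ a, b, c] v = ac xX v) ∨
      ∃ w ∈ [[3], [3, 0, 3], [3, 2, 3], [1, 3, 0, 1, 3, 0, 3, 1, 0, 1, 3, 0, 1, 3]],
        r3ev (comb [1, 21, 19, a, 16, 47 ^^^ a, b, c]) w 16 = 16 ∧
        r3ev (comb [1, 21, 19, a, 16, 47 ^^^ a, b, c]) w 32 = 32 ∧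
        ∀ x ∈ six, ∃ v ∈ bs, r3ev (comb [1, 21, 19, a, 16, 47 ^^^ a, b, c]) w v ≠ ac x v := bd!

theorem r3_six : ∀ x ∈ six, ac x 1 = 1 → ac x 64 = 64 → x = 1 := bd!

theorem r3_G : ac xG 16 = 1 ∧ ac xG 32 = 2 ∧ ac xG 1 = 16 ∧ ac xG 64 = 4 := bd!

theorem r3_b6 : ∀ u < 64, comb [1, 2, 4, 8, 16, 32] u = u := by decide +kernel
theorem r3_b7 : ∀ u < 128, comb [1, 2, 4, 8, 16, 32, 64] u = u := by decide +kernel

variable {t : G} {ψ : ℕ → G}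

omit [Finite G] in
theorem r3_ev (d : RD0 t R ψ) {F : ℕ → ℕ} (hF : Ad F) (aF : ∃ k, Af t ψ k F) (hY : ∃ k, Ac t ψ k xY)
    (hG : ∃ k, Ac t ψ k xG) (hS : ∃ k, Ac t ψ k xS) (w : List ℕ) :
    (∀ i < 256, r3ev F w i < 256) ∧ ∃ k, Af t ψ k (r3ev F w) := by
  induction w with
  | nil => exact ⟨fun _ => id, 1, d.ac_one.congr fun i hi => (ac_one i hi).symm⟩
  | cons k w ih =>
    obtain ⟨a, c, b⟩ := ih
    obtain ⟨a', c', b'⟩ : (∀ i < 256, r3sel F k i < 256) ∧ ∃ c, Af t ψ c (r3sel F k) := by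
      rcases k with _ | _ | _ | k
      exacts [⟨fun _ => ac_lt xY, hY⟩, ⟨fun _ => ac_lt xG, hG⟩, ⟨fun _ => ac_lt xS, hS⟩, ⟨hF.lt, aF⟩]
    have e : ∀ i, r3ev F (k :: w) i = r3sel F k (r3ev F w i) := fun i => force_eq _ _
    exact ⟨fun i hi => e i ▸ a' _ (a i hi), _, (d.af_mul b' b a).congr fun i _ => e i⟩

theorem r3_main (d : RD t R ψ) {c : G} (ct : Commute c t) (e1 : Eqv t (ψ 1) (c * ψ 1 * c⁻¹))
    (e16 : Eqv t (ψ 16) (c * ψ 16 * c⁻¹)) (e2 : Eqv t (ψ 21) (c * ψ 2 * c⁻¹))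
    (e4 : Eqv t (ψ 19) (c * ψ 4 * c⁻¹)) (e40 : Eqv t (ψ 47) (c * ψ 40 * c⁻¹))
    (hY : ∃ k, Ac t ψ k xY) (hG : ∃ k, Ac t ψ k xG) (hS : ∃ k, Ac t ψ k xS) : ∃ k, Ac t ψ k xX := by
  have n : ∀ r ∈ R, c * r * c⁻¹ ∈ R := fun r hr => by
    obtain ⟨m, aG⟩ := hG
    have kt : Commute (c * r * c⁻¹) t := (ct.mul_left (d.ct hr)).mul_left ct.inv_left
    have fx : ∀ {i j}, Eqv t (ψ j) (c * ψ i * c⁻¹) →
        Eqv t (ψ j) (c * r * c⁻¹ * ψ j * (c * r * c⁻¹)⁻¹) := fun {i j} e => by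
      refine e.trans d.tt (Eqv.trans d.tt ?_ ((e.conj kt.eq).symm d.tt))
      have := (Eqv.symm d.tt (d.xs.conj hr (d.mem i))).conj ct.eq
      convert this using 1
      group
    generalize c * r * c⁻¹ = k at kt fx
    have f1 := fx e1
    have f16 := fx e16
    have f17 : Eqv t (ψ 17) (k * ψ 17 * k⁻¹) :=
      d.add_of kt (by norm_num) (by norm_num) (by norm_num) (by norm_num) f1 f16
    have f4 : Eqv t (ψ 4) (k * ψ 4 * k⁻¹) :=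
      d.add_of kt (by norm_num) (by norm_num) (by norm_num) (by norm_num) f17 (fx e2)
    have f2 : Eqv t (ψ 2) (k * ψ 2 * k⁻¹) :=
      d.add_of kt (by norm_num) (by norm_num) (by norm_num) (by norm_num) f17 (fx e4)
    have tr : ∀ {i j}, i < 256 → ac xG i = j → Eqv t (ψ j) (k * ψ j * k⁻¹) →
        Eqv t (ψ i) (m⁻¹ * k * m * ψ i * (m⁻¹ * k * m)⁻¹) := fun {i j} hi e f => by
      have a := aG.2 i hi
      rw [e] at a
      have := ((a.symm d.tt).trans d.tt (f.trans d.tt (a.conj kt.eq))).conj aG.1.inv_left.eq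
      convert this using 1 <;> group
    obtain ⟨x, hx, a⟩ := d.st _ ((aG.1.inv_left.mul_left kt).mul_left aG.1)
      (tr (by norm_num) r3_G.1 f1) (tr (by norm_num) r3_G.2.1 f2)
    have u : ∀ {i}, i < 256 → Eqv t (ψ i) (m⁻¹ * k * m * ψ i * (m⁻¹ * k * m)⁻¹) → ac x i = i :=
      fun hi e => d.inj _ (ac_lt x hi) _ hi ((a.2 _ hi).trans d.tt (e.symm d.tt))
    obtain rfl := r3_six x hx (u (by norm_num) (tr (by norm_num) r3_G.2.2.1 f16))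
      (u (by norm_num) (tr (by norm_num) r3_G.2.2.2 f4))
    simpa [mul_assoc] using d.af_norm aG (d.ker a)
  obtain ⟨f, hf, af⟩ := d.exists_af ct n
  have u : ∀ {i j}, i < 256 → j < 256 → Eqv t (ψ j) (c * ψ i * c⁻¹) → f i = j := fun hi hj e =>
    d.inj _ (hf.lt _ hi) _ hj ((af.2 _ hi).trans d.tt (e.symm d.tt))
  have u1 := u (by norm_num) (by norm_num) e1
  have u16 := u (by norm_num) (by norm_num) e16
  have u2 := u (by norm_num) (by norm_num) e2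
  have u4 := u (by norm_num) (by norm_num) e4
  have u32 : f 32 = 47 ^^^ f 8 :=
    u (by norm_num) (by norm_num) e40 ▸ hf.add 40 (by norm_num) 8 (by norm_num)
  have q : ∀ {l : List ℕ} {n}, (∀ i ∈ l, i < 256) → n ≤ 256 → (∀ u < n, comb l u = u) →
      ∀ u < n, qf.testBit (comb (l.map f) u) = qf.testBit u := fun a b e u hu => by
    rw [← hf.map a, e u hu]
    exact d.af_qf af (by omega) (hf.lt _ (by omega))
  have q6 := q (by decide) (by norm_num) r3_b6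
  have q7 := q (by decide) (by norm_num) r3_b7
  have q8 := q (by decide) le_rfl comb_bs
  have e : ∀ u < 256, comb (bs.map f) u = f u := fun u hu => by
    rw [← hf.map (by decide), comb_bs u hu]
  simp only [List.map_cons, List.map_nil, u1, u2, u4, u16, u32] at q6 q7 q8 e
  have aF := af.congr e
  have hF := hf.congr e
  rcases r3_chk _ (hf.lt 8 (by norm_num)) q6 _ (hf.lt 64 (by norm_num)) q7 _
    (hf.lt 128 (by norm_num)) q8 with a | ⟨w, -, a, b, e⟩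
  · exact ⟨c, aF.congr fun i hi => (hF.ext (ad_ac xX) a i hi).symm⟩
  · obtain ⟨l, k, ak⟩ := r3_ev d.toRD0 hF ⟨c, aF⟩ hY hG hS w
    obtain ⟨x, hx, ax⟩ := d.st k ak.1 (a ▸ ak.2 16 (by norm_num) :) (b ▸ ak.2 32 (by norm_num) :)
    obtain ⟨v, hv, e⟩ := e x hx
    have hv' : v < 256 := (by decide : ∀ v ∈ bs, v < 256) v hv
    exact absurd (d.af_uniq ak ax hv' (l v hv') (ac_lt x hv')) e

end

omit [Finite G] in
theorem r3_psi {i : ℕ} {x y u : A12} (a : Th α g x y) (e : rho (i / 16) = x ∧ u = rho i * y) :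
    psi α g i = α u := by
  rw [psi, e.1, a, e.2, map_mul]

omit [Finite G] in
theorem AE.r3_cj (h : AE α g) (h0 k0 : A12) (l : List ℕ) {u u' : A12}
    (e : k0 * (h0⁻¹ * u * h0) * k0⁻¹ = wd lA l ∧ h0⁻¹ * u' * h0 = wd lB l) :
    α h0 * g * α k0 * (α h0)⁻¹ * α u * (α h0 * g * α k0 * (α h0)⁻¹)⁻¹ = α u' := by
  have := h.th' l e
  simp only [Th, map_mul, map_inv] at this
  rw [← mul_right_inj (α h0)⁻¹, ← mul_left_inj (α h0), ← this]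
  group

omit [Finite G] in
theorem AE.r3_eqv (h : AE α g) (h0 k0 : A12) (l : List ℕ) {i j : ℕ} {u u' : A12} (ei : psi α g i = α u)
    (ej : psi α g j = α u') (e : k0 * (h0⁻¹ * u * h0) * k0⁻¹ = wd lA l ∧
      (u' = h0 * wd lB l * h0⁻¹ ∨ u' = h0 * wd lB l * h0⁻¹ * tt)) :
    Eqv (α tt) (psi α g j)
      (α h0 * g * α k0 * (α h0)⁻¹ * psi α g i * (α h0 * g * α k0 * (α h0)⁻¹)⁻¹) := by
  rw [ei, ej, h.r3_cj h0 k0 l (u' := h0 * wd lB l * h0⁻¹) ⟨e.1, by group⟩]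
  exact e.2.imp (congrArg α) fun e => by rw [e, map_mul]

/-- `h0 = pm 0xba7652894130`, `k0 = pm 0x6ba897523140`, `c = α h0 * g * α k0 * (α h0)⁻¹`.  If
`k0 * (h0⁻¹ * u * h0) * k0⁻¹ = wd lA l` then `c α u c⁻¹ = α (h0 * wd lB l * h0⁻¹)` (`h.th l`).  For `i < 64`, `ψ i = α (rho i * v)`,
`v = 1,v1,v2,v1*v2` for `i / 16 = 0,1,2,3` (`ga1, ga2`; `rho 1 = a1, rho 2 = a2, rho 3 = a1 * a2`).  Words: `u = tt ↦ tt`:
`[0,0,2,0,2,1,2,3,5,3,3,5,3]`; `ψ 1 ↦ ψ 1` (mod `t`): `[3,5,3,3,5,3]`; `16 ↦ 16`: `[1,1,2,0,2,1,3,4,5,3,4,4,5,3,4,6]`;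
`2 ↦ 21`: `[2,0,0,2,4,5,3,4,4,5,3,6]`; `4 ↦ 19`: `[1,2,0,0,2,0,2,3,5,3,3,5,3,5]`; `40 ↦ 47`: `[0,3,3,4,4,6,7]`.
(1) `c` normalises `R`: for `r ∈ R`, `k = c r c⁻¹` commutes with `t` and fixes `ψ 1, ψ 16, ψ 21, ψ 19` mod `t`, hence (`add_of`)
`ψ 4, ψ 2`; so `G⁻¹ k G` (`G` from `hG`, `ac xG` swaps the two halves of the basis) fixes `16, 32, 1, 64`; `st` gives `x ∈ six` with
`ac x 1 = 1`, `ac x 64 = 64` (`af_uniq`-like use of `inj`), so `x = 1` (`bd!`), `ker`, `af_norm`.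
(2) `exists_af` gives `f` with `Ad f`, `Af c f`, `f 1 = 1, f 2 = 21, f 4 = 19, f 16 = 16, f 40 = 47`; with `a = f 8, b = f 64, c' = f 128`,
`f = comb [1,21,19,a,16,47 ^^^ a,b,c']` (`Ad.map`, `comb_bs`) preserves `qf` (`af_qf`).  Staged check (`bd!`, about 10⁵ steps):
`∀ a < 256, (∀ u < 64, qf (comb [1,21,19,a,16,47^^^a] u) = qf u) → ∀ b < 256, (∀ u < 128, …) → ∀ c' < 256, (∀ u < 256, …) →
(a,b,c') = (126,49,231) ∨ ∃ w ∈ [[3],[3,0,3],[3,2,3],[1,3,0,1,3,0,3,1,0,1,3,0,1,3]], ev w 16 = 16 ∧ ev w 32 = 32 ∧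
∀ x ∈ six, ∃ v ∈ bs, ev w v ≠ ac x v`, where `ev (k :: w) v = F k (ev w v)`, `F = ac xY, ac xG, ac xS, comb […]` (8 candidates; python
checked).  Every `ev w` is induced by an element (`af_mul`), so `st` and `af_uniq` exclude the second case; in the first `f = ac xX`
on the basis (`[1,21,19,126,16,81,49,231]`, `Ad.ext`). -/
theorem AE.acX (h : AE α g) (d : RD (α tt) R (psi α g)) (hY : ∃ k, Ac (α tt) (psi α g) k xY)
    (hG : ∃ k, Ac (α tt) (psi α g) k xG) (hS : ∃ k, Ac (α tt) (psi α g) k xS) :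
    ∃ k, Ac (α tt) (psi α g) k xX := by
  have o : Th α g 1 1 := .one
  refine r3_main d (c := α (pm 0xba7652894130) * g * α (pm 0x6ba897523140) * (α (pm 0xba7652894130))⁻¹)
    (mul_inv_eq_iff_eq_mul.1 (h.r3_cj _ _ [0, 0, 2, 0, 2, 1, 2, 3, 5, 3, 3, 5, 3] pd!))
    (h.r3_eqv _ _ [3, 5, 3, 3, 5, 3] (r3_psi o ⟨pd!, rfl⟩) (r3_psi o ⟨pd!, rfl⟩) pd!)
    (h.r3_eqv _ _ [1, 1, 2, 0, 2, 1, 3, 4, 5, 3, 4, 4, 5, 3, 4, 6] h.psi16 h.psi16 pd!)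
    (h.r3_eqv _ _ [2, 0, 0, 2, 4, 5, 3, 4, 4, 5, 3, 6] (r3_psi o ⟨pd!, rfl⟩) (r3_psi h.ga1 ⟨pd!, rfl⟩) pd!)
    (h.r3_eqv _ _ [1, 2, 0, 0, 2, 0, 2, 3, 5, 3, 3, 5, 3, 5] (r3_psi o ⟨pd!, rfl⟩)
      (r3_psi h.ga1 ⟨pd!, rfl⟩) pd!)
    (h.r3_eqv _ _ [0, 3, 3, 4, 4, 6, 7] (r3_psi h.ga2 ⟨pd!, rfl⟩) (r3_psi h.ga2 ⟨pd!, rfl⟩) pd!)
    hY hG hS

end Cfsg.Agent.HNL
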