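import Cfsg.Agent.HNL.A12
import Cfsg.Agent.Loc3.Tools2

/-! Two non-fusion statements, from Sylow 3-subgroups of centralizers. -/

set_option autoImplicit false
set_option synthInstance.maxSize 100000
set_option synthInstance.maxHeartbeats 400000

namespace Cfsg.Agent.HNL

open Subgroup Equiv Cfsg.Agent.Comp Cfsg.Agent.Loc3

variable {G : Type*} [Group G] [Finite G] {α : A12 →* G} {g : G}

namespace V2H

open Cfsg.Agent.PLocal.Amb

/-- the image of `⟨a, b⟩` -/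
def PP (α : A12 →* G) (a b : A12) : Subgroup G := closure {α a, α b}

/-- two commuting elements of order dividing three -/
abbrev Tw (a b : A12) : Prop := a ^ 3 = 1 ∧ b ^ 3 = 1 ∧ Commute a b

variable {a b c d v : A12} {s x : G}

omit [Finite G]

theorem cube (e : a ^ 3 = 1) : α a ^ 3 = 1 := by rw [← map_pow, e, map_one]

theorem mem_PP (e : Tw a b) : x ∈ PP α a b ↔ ∃ y ∈ [1, a, a⁻¹], ∃ z ∈ [1, b, b⁻¹], x = α (y * z) := by
  rw [PP, mem_pair (cube e.1) (cube e.2.1) (e.2.2.map α)]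
  simp

theorem pg (e : Tw a b) : IsPGroup 3 (PP α a b) := isPGroup_pair (cube e.1) (cube e.2.1) (e.2.2.map α)

theorem left_mem : α a ∈ PP α a b := subset_closure (by simp)

theorem right_mem : α b ∈ PP α a b := subset_closure (by simp)

theorem PP_le {C : Subgroup G} (h1 : α a ∈ C) (h2 : α b ∈ C) : PP α a b ≤ C :=
  (closure_le _).2 (by rintro _ (rfl | rfl) <;> assumption)

theorem PP_comm : PP α a b = PP α b a := by rw [PP, Set.pair_comm]; rfl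

theorem PP_cj (h1 : Th α g a c) (h2 : Th α g b d) : cj(g, PP α a b) = PP α c d := by
  rw [PP, PP, MonoidHom.map_closure, Set.image_pair, ← h1, ← h2]; rfl

theorem PP_le' (e : Tw a b) (h : ∀ u ∈ [c, d], ∃ y ∈ [1, a, a⁻¹], ∃ z ∈ [1, b, b⁻¹], u = y * z) :
    PP α c d ≤ PP α a b := by
  have k : ∀ u ∈ [c, d], α u ∈ PP α a b := fun u hu => by
    obtain ⟨y, hy, z, hz, r⟩ := h u hu
    exact (mem_PP e).2 ⟨y, hy, z, hz, congrArg α r⟩
  exact PP_le (k c (by simp)) (k d (by simp))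

theorem card_PP (e : Tw a b) : Nat.card (PP α a b) ≤ 9 := by
  let f : Fin 3 × Fin 3 → G := fun p => α ([1, a, a⁻¹].get p.1 * [1, b, b⁻¹].get p.2)
  have : (PP α a b : Set G) ⊆ Set.range f := fun x hx => by
    obtain ⟨y, hy, z, hz, rfl⟩ := (mem_PP e).1 hx
    obtain ⟨i, rfl⟩ := List.get_of_mem hy
    obtain ⟨j, rfl⟩ := List.get_of_mem hz
    exact ⟨(i, j), rfl⟩
  exact (Set.ncard_le_ncard this (Set.finite_range f)).trans ((Finite.card_range_le f).trans (by simp))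

theorem isConj_of (k : A12) (e : k * a * k⁻¹ = b) : IsConj (α a) (α b) :=
  isConj_iff.2 ⟨α k, by rw [← e]; simp⟩

theorem of_four {K : Subgroup G} {n : ℕ} (h : s ^ 3 ^ n = 1) (e : s ^ 4 ∈ K) : s ∈ K :=
  mem_of_pow_mem_of_coprime e
    (Nat.Coprime.coprime_dvd_left (orderOf_dvd_of_pow_eq_one h) (Nat.Coprime.pow_left n (by norm_num)))

theorem Th.comp {s' : G} (h1 : Th α s a b) (h2 : Th α s' b c) : Th α (s' * s) a c := by
  rw [Th, ← h2, ← h1]; group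

variable (h : AD α g)
include h

theorem ne_one (e : a ≠ 1) : α a ≠ 1 := fun r => e (h.inj (r.trans α.map_one.symm))

theorem cw' (k : A12) (e : k * a * k⁻¹ = w4) (c : Commute s (α a)) : ∃ u, α u = s := by
  obtain ⟨u, hu⟩ := h.cw _ (by simpa only [← map_inv, ← map_mul, e] using Loc3.Commute.cj c (α k))
  exact ⟨k⁻¹ * u * k, by rw [map_mul, map_mul, hu, map_inv]; group⟩

theorem key (k : A12) (e : k * a * k⁻¹ = w4 ∧ Tw a b) (f : ∀ u : A12, Commute u a ∧ Commute u v →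
      (∃ y ∈ [1, a, a⁻¹], ∃ z ∈ [1, b, b⁻¹], u * b * u⁻¹ = y * z) →
      ∃ y ∈ [1, a, a⁻¹], ∃ z ∈ [1, b, b⁻¹], u ^ 4 = y * z)
    (c1 : Commute s (α a)) (c2 : Commute s (α v)) (hn : s ∈ 𝐍[PP α a b]) {n : ℕ} (h3 : s ^ 3 ^ n = 1) :
    s ∈ PP α a b := by
  obtain ⟨u, rfl⟩ := cw' h k e.1 c1
  obtain ⟨y, hy, z, hz, r⟩ := (mem_PP e.2).1 (conj_mem_of_mem_normalizer hn right_mem)
  obtain ⟨y, hy, z, hz, r⟩ := f u ⟨h.comm.1 c1, h.comm.1 c2⟩ ⟨y, hy, z, hz, h.inj (by simpa using r)⟩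
  exact of_four h3 ((mem_PP e.2).2 ⟨y, hy, z, hz, by rw [← r, map_pow]⟩)

omit h in
theorem key' {v' : A12} (h1 : Th α g a c) (h2 : Th α g b d) (h3 : Th α g v v') {n : ℕ}
    (f : ∀ s, Commute s (α a) → Commute s (α v) → s ∈ 𝐍[PP α a b] → s ^ 3 ^ n = 1 → s ∈ PP α a b)
    (c1 : Commute s (α c)) (c2 : Commute s (α v')) (hn : s ∈ 𝐍[PP α c d]) (h4 : s ^ 3 ^ n = 1) :
    s ∈ PP α c d := by
  rw [← PP_cj h1 h2] at hn ⊢
  rw [normalizer_cj, mem_cj] at hn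
  refine mem_cj.2 (f _ ?_ ?_ hn ?_)
  · simpa only [inv_inv, h1.symm'] using Loc3.Commute.cj c1 g⁻¹
  · simpa only [inv_inv, h3.symm'] using Loc3.Commute.cj c2 g⁻¹
  · simpa only [inv_inv, h4, mul_one, inv_mul_cancel] using conj_pow (a := g⁻¹) (b := s) (i := 3 ^ n)

theorem cyy : IsConj (α w4) (α yy) := isConj_iff.2 ⟨g, h.g4⟩

theorem conj12 (hx : x ∈ PP α w1 w2) (h1 : x ≠ 1) : IsConj (α w4) x := by
  obtain ⟨y, hy, z, hz, rfl⟩ := (mem_PP pd!).1 hx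
  rcases (pd! : ∀ y ∈ [1, w1, w1⁻¹], ∀ z ∈ [1, w2, w2⁻¹], y * z = 1 ∨ (∃ k ∈ [pm 0x876543201ba9,
    pm 0x876543210ab9, pm 0x876543ba9210, pm 0x876543ab9201], k * (y * z) * k⁻¹ = w4) ∨
    ∃ k ∈ [1, pm 0xba9876453120, pm 0xba9867453210, pm 0xba9867543120], k * yy * k⁻¹ = y * z) y hy z hz
    with r | ⟨k, -, r⟩ | ⟨k, -, r⟩
  · exact absurd (r ▸ α.map_one) h1
  · exact (isConj_of k r).symm
  · exact (cyy h).trans (isConj_of k r)

theorem four (hx : x ∈ PP α w4 yy) (h1 : IsConj (α w4) x) : ∃ m ∈ [w4, w4⁻¹, yy, yy⁻¹], x = α m := by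
  obtain ⟨y, hy, z, hz, rfl⟩ := (mem_PP pd!).1 hx
  rcases (pd! : ∀ y ∈ [1, w4, w4⁻¹], ∀ z ∈ [1, yy, yy⁻¹], y * z = 1 ∨ y * z ∈ [w4, w4⁻¹, yy, yy⁻¹] ∨
    ∃ k ∈ [1, pm 0xba9876453120, pm 0xab9867543210, pm 0xab9867453120], k * (y * z) * k⁻¹ = w4 * yy)
    y hy z hz with r | r | ⟨k, -, r⟩
  · rw [r, map_one, isConj_one_left] at h1
    exact absurd h1 (ne_one h pd!)
  · exact ⟨_, r, rfl⟩
  · exact absurd (h1.trans (isConj_of k r)) h.nz

theorem comm4 (hn : s ∈ 𝐍[PP α w4 yy]) : Commute (s ^ 4) (α w4) := by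
  have sq : ∀ {s}, Th α s w4 w4 ∨ Th α s w4 w4⁻¹ → Th α (s * s) w4 w4 := fun r =>
    r.elim (fun r => Th.comp r r) fun r => Th.comp r (inv_inv w4 ▸ r.inv)
  suffices Th α (s * s) w4 w4 ∨ Th α (s * s) w4 w4⁻¹ by
    rw [show 4 = 2 + 2 from rfl, pow_add, pow_two]
    exact comm_of_conj (sq this)
  obtain ⟨m, hm, e⟩ := four h (conj_mem_of_mem_normalizer hn left_mem) (isConj_iff.2 ⟨s, rfl⟩)
  obtain ⟨m', hm', e'⟩ := four h (conj_mem_of_mem_normalizer hn right_mem)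
    ((cyy h).trans (isConj_iff.2 ⟨s, rfl⟩))
  replace e : Th α s w4 m := e
  replace e' : Th α s yy m' := e'
  have no : ∀ {u}, Th α s u m → u = w4 := fun r => h.inj (r.symm'.symm.trans e.symm')
  simp only [List.mem_cons, List.not_mem_nil, or_false] at hm hm'
  rcases hm with rfl | rfl | rfl | rfl
  · exact .inl (sq (.inl e))
  · exact .inl (sq (.inr e))
  · rcases hm' with rfl | rfl | rfl | rfl
    · exact .inl (Th.comp e e')
    · exact .inr (Th.comp e e')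
    · exact absurd (no e') pd!
    · exact absurd (no (inv_inv yy ▸ e'.inv)) pd!
  · rcases hm' with rfl | rfl | rfl | rfl
    · exact .inr (Th.comp e e'.inv)
    · exact .inl (Th.comp e (inv_inv w4 ▸ e'.inv))
    · exact absurd (no e'.inv) pd!
    · exact absurd (no e') pd!

end V2H

open V2H Cfsg.Agent.PLocal.Amb

theorem V2H.syl1 (h : AE α g) : IsSyl 3 (PP α w1 w2) (centralizer {α v1}) := by
  have := Fact.mk Nat.prime_three
  have le : PP α w1 w2 ≤ centralizer {α v1} :=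
    PP_le (mem_cent.2 (Commute.map pd! α)) (mem_cent.2 (Commute.map pd! α))
  refine isSyl_of_isSyl_normalizer ⟨le_inf le le_normalizer, pg pd!, fun R hR _ h2 s hs => ?_⟩
  obtain ⟨⟨x, hx, hc⟩, x1⟩ := ne_bot_iff_exists_ne_one.1 (inf_centralizer_ne_bot hR (pg pd!)
    (h2.trans inf_le_right) (ne_bot_iff_exists_ne_one.2
      ⟨⟨_, left_mem⟩, fun e => ne_one h.toAD (a := w1) pd! (congrArg Subtype.val e)⟩))
  obtain ⟨n, hn⟩ := hR ⟨s, hs⟩
  replace hn : s ^ 3 ^ n = 1 := congrArg Subtype.val hn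
  have c : Commute s x := hc s hs
  have c2 : Commute s (α v1) := mem_cent.1 (h2 hs).1
  have nm := (h2 hs).2
  obtain ⟨y, hy, z, hz, rfl⟩ := (mem_PP pd!).1 hx
  obtain ⟨a, ha, c1⟩ : ∃ a ∈ [w1, w2, yy, y2], Commute s (α a) := by
    rcases (pd! : ∀ y ∈ [1, w1, w1⁻¹], ∀ z ∈ [1, w2, w2⁻¹], y * z = 1 ∨
      ∃ a ∈ [w1, w2, yy, y2], y * z = a ∨ (y * z)⁻¹ = a) y hy z hz with r | ⟨a, ha, r | r⟩
    · exact absurd (Subtype.ext (show α (y * z) = 1 by rw [r, map_one])) x1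
    · exact ⟨a, ha, r ▸ c⟩
    · exact ⟨a, ha, by rw [← r, map_inv]; exact c.inv_right⟩
  have e : PP α w1 w2 = PP α yy y2 := le_antisymm (PP_le' pd! pd!) (PP_le' pd! pd!)
  simp only [List.mem_cons, List.not_mem_nil, or_false] at ha
  rcases ha with rfl | rfl | rfl | rfl
  · exact key h.toAD (pm 0x876543201ba9) pd! pd! c1 c2 nm hn
  · rw [PP_comm] at nm ⊢
    exact key h.toAD (pm 0x876543ba9210) pd! pd! c1 c2 nm hn
  · rw [e] at nm ⊢
    exact key' h.g4 h.g3 h.ga1 (fun _ a b c d => key h.toAD 1 pd! pd! a b c d) c1 c2 nm hn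
  · rw [e, PP_comm] at nm ⊢
    exact key' h.g3 h.g4 h.ga1 (fun _ a b c d => key h.toAD (pm 0x876ba9453210) pd! pd! a b c d) c1 c2 nm hn

theorem V2H.syl2 (h : AD α g) : IsSyl 3 (PP α w4 yy) (centralizer {α tt}) := by
  have := Fact.mk Nat.prime_three
  have le : PP α w4 yy ≤ centralizer {α tt} :=
    PP_le (mem_cent.2 (Commute.map pd! α)) (mem_cent.2 (Commute.map pd! α))
  refine isSyl_of_isSyl_normalizer ⟨le_inf le le_normalizer, pg pd!, fun R hR _ h2 s hs => ?_⟩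
  obtain ⟨n, hn⟩ := hR ⟨s, hs⟩
  replace hn : s ^ 3 ^ n = 1 := congrArg Subtype.val hn
  exact key h 1 pd! pd! (mem_cent.1 (of_four hn (mem_cent.2 (comm4 h (h2 hs).2))))
    (mem_cent.1 (h2 hs).1) (h2 hs).2 hn

theorem AE.nrt (h : AE α g) : ¬ IsConj (α v1) (α tt) := fun r => by
  have := Fact.mk Nat.prime_three
  obtain ⟨c, hc⟩ := isConj_iff.1 r.symm
  have z3 : (c * α (w4 * yy) * c⁻¹) ^ 3 = 1 := by rw [conj_pow, cube pd!, mul_one, mul_inv_cancel]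
  have z1 : c * α (w4 * yy) * c⁻¹ ≠ 1 := fun e => ne_one h.toAD pd! (conj_eq_one_iff.1 e)
  obtain ⟨k, -, hk⟩ := (syl1 h).exists_cj_le (R := zpowers (c * α (w4 * yy) * c⁻¹))
    (IsPGroup.of_card (n := 1) (by rw [Nat.card_zpowers, orderOf_three z3 z1, pow_one]))
    (zpowers_le.2 (mem_cent.2 (hc ▸ Loc3.Commute.cj (Commute.map pd! α) c)))
  refine h.nz ((conj12 h.toAD (hk ⟨_, mem_zpowers _, rfl⟩) fun e => z1 (conj_eq_one_iff.1 e)).trans
    (IsConj.symm (isConj_iff.2 ⟨k * c, ?_⟩)))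
  simp [mul_assoc]

theorem AE.ng (h : AE α g) : ¬ IsConj (α (rho 6)) g := fun r => by
  have := Fact.mk Nat.prime_three
  obtain ⟨c, hc⟩ := isConj_iff.1 r
  by_cases h9 : 9 ∣ Nat.card (centralizer ({g} : Set G))
  · obtain ⟨T, hT⟩ := exists_isSyl 3 (centralizer ({g} : Set G))
    have h1 : 9 ≤ Nat.card T := by
      rw [hT.card_eq_pow]
      exact Nat.pow_le_pow_right (n := 3) (i := 2) (by norm_num)
        ((Nat.prime_three.pow_dvd_iff_le_factorization Nat.card_pos.ne').1 (show 3 ^ 2 ∣ _ from h9))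
    obtain ⟨k, kt, hk⟩ := (syl2 h.toAD).exists_cj_le hT.pgrp fun x hx => mem_cent.2
      (h.g2 ▸ (mem_cent.1 (hT.le hx)).mul_right (mem_cent.1 (hT.le hx)))
    have e := eq_of_le_of_card_ge hk (by rw [card_cj]; exact (card_PP pd!).trans h1)
    have cm : ∀ x ∈ PP α w4 yy, Commute (k * g * k⁻¹) x := fun x hx => by
      obtain ⟨y, hy, rfl⟩ := e.ge hx
      exact Loc3.Commute.cj (mem_cent.1 (hT.le hy)).symm k
    have kt' := conj_of_comm (mem_cent.1 kt)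
    obtain ⟨u, hu⟩ := h.cw _ (cm _ left_mem)
    refine (pd! : ∀ u : A12, Commute u w4 ∧ Commute u yy ∧ Commute u tt → u * u ≠ tt) u
      ⟨h.comm.1 (hu ▸ cm _ left_mem), h.comm.1 (hu ▸ cm _ right_mem),
        h.comm.1 (hu ▸ kt' ▸ Loc3.Commute.cj h.gt k)⟩ (h.inj ?_)
    rw [map_mul, hu, ← kt', ← h.g2]; group
  · have cz : Th α g (w4 * yy) (w4 * yy) := (Th.mul h.g4 h.gyy).congr pd!
    obtain ⟨k, -, hk⟩ := conj_of_not_nine h9 (a := c * α w4 * c⁻¹) (b := α (w4 * yy))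
      (mem_cent.2 (hc ▸ Loc3.Commute.cj (Commute.map pd! α) c)) (mem_cent.2 (comm_of_conj cz).symm)
      (by rw [conj_pow, cube pd!, mul_one, mul_inv_cancel])
      (fun e => ne_one h.toAD pd! (conj_eq_one_iff.1 e)) (cube pd!) (ne_one h.toAD pd!)
    have k1 : IsConj (α w4) (k * (c * α w4 * c⁻¹) * k⁻¹) := isConj_iff.2 ⟨k * c, by group⟩
    rcases hk with e | e
    · exact h.nz (e ▸ k1)
    · rw [e, ← map_inv] at k1
      exact h.nz (k1.trans (isConj_of (pm 0xab9867453120) pd!))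

end Cfsg.Agent.HNL
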