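import Cfsg.Agent.HNL.KT

/-! Elements and subgroups of `3^{1+4} : SL₂(5)`, and charts of the centralizer of a 3-central element. -/

set_option autoImplicit false
set_option maxRecDepth 100000
set_option synthInstance.maxHeartbeats 400000
set_option synthInstance.maxSize 4000

namespace Cfsg.Agent.HNL

open Subgroup Cfsg.Agent.Comp Cfsg.Agent.X32 Cfsg.Agent.X32.TG Cfsg.Agent.PS4 Cfsg.Agent.Loc3.Pr
  Cfsg.Agent.PLocal.Amb
open Cfsg.Agent.G23.Am (r8 ivS Seg seg seg_ind seg_le card_seg cjk)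
open Cfsg.Agent.F4L (Hs)

noncomputable def Z : K := e (nat_lit 81)

noncomputable def E1 : K := e (nat_lit 1)

noncomputable def F1 : K := e (nat_lit 3)

noncomputable def E2 : K := e (nat_lit 9)

noncomputable def F2 : K := e (nat_lit 27)

/-- order three; fixes `E1, E2`, maps `F1 ↦ F1 E2`, `F2 ↦ F2 E1` mod `Z` -/
noncomputable def Y : K := e (nat_lit 243)

/-- the involution inverting `Q / Z` -/
noncomputable def T : K := e (nat_lit 729)

/-- order four, square `T`; `E1 ↦ E2 ↦ E1⁻¹`, `F1 ↦ F2 ↦ F1⁻¹`, inverts `Y` -/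
noncomputable def N : K := e (nat_lit 1458)

/-- order three; fixes `F1, F2` -/
noncomputable def X : K := e (nat_lit 2916)

/-- the frame `W1, …, W4` of `J`: `Z = W1 W2 W4`, `Y = W4 (W1 W2)⁻¹`, `W3 = E1 E2⁻¹` -/
noncomputable def W1 : K := e (nat_lit 587)

noncomputable def W2 : K := e (nat_lit 577)

noncomputable def W3 : K := e (nat_lit 19)

noncomputable def W4 : K := e (nat_lit 648)

/-- `W1 ↦ W2 ↦ W4 ↦ W1`, fixes `W3` -/
noncomputable def P : K := e (nat_lit 60)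

noncomputable abbrev gQ : List K := es [162, 2, 164, 83, 18, 180, 99, 6, 54]

theorem hsQ : Seg 243 gQ := bd!

noncomputable abbrev sQ : Subgroup K := seg 243 hsQ

theorem hsS : Seg 729 (Y :: Y⁻¹ :: gQ) := bd!

/-- the Sylow 3-subgroup -/
noncomputable abbrev sS : Subgroup K := seg 729 hsS

theorem hsB : Seg 2916 (T :: N⁻¹ :: Y :: Y⁻¹ :: gQ) := bd!

/-- its normalizer -/
noncomputable abbrev sB : Subgroup K := seg 2916 hsB

instance bdCent (k x : K) {b : Bool} [h : BD (Commute k x) b] :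
    BD (k ∈ centralizer ({x} : Set K)) b := ⟨h.h.trans mem_cent.symm⟩

instance bdInf (k : K) (U W : Subgroup K) {b c : Bool} [BD (k ∈ U) b] [BD (k ∈ W) c] :
    BD (k ∈ U ⊓ W) (and' b c) := BD.instAnd

/-- the Thompson subgroup `⟨Z, E1, E2, Y⟩` -/
noncomputable def sJ : Subgroup K := sS ⊓ centralizer {Y}

noncomputable def inJ (m : ℕ) : Bool := force m fun m => and' (Nat.blt m 729)
  (and' (Nat.beq (Nat.mod (Nat.div m 3) 3) 0) (Nat.beq (Nat.mod (Nat.div m 27) 3) 0))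

theorem mem_sJ (k : K) : inJ k.v = true ↔ k ∈ sJ :=
  ⟨fun a => have b : k ∈ sS := (blt_iff _ _).1 ((and'_eq_true ..).1 ((force_eq _ _).symm.trans a)).1
    ⟨b, ((bd! : ∀ k ∈ sS, inJ k.v = true ↔ k ∈ centralizer {Y}) k b).1 a⟩,
    fun a => ((bd! : ∀ k ∈ sS, inJ k.v = true ↔ k ∈ centralizer {Y}) k a.1).2 a.2⟩

instance bdJ (k : K) {m : ℕ} [h : EV k m] : BD (k ∈ sJ) (inJ m) := ⟨h.h ▸ mem_sJ k⟩

/-- the number of `E1 ^ i₀ E2 ^ i₁ Z ^ i₂ Y ^ i₃` for the ternary digits of `i` -/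
noncomputable def jn (i : ℕ) : ℕ := force i fun i => Nat.add (Nat.add (Nat.mod i 3)
  (Nat.mul 9 (Nat.mod (Nat.div i 3) 3))) (Nat.mul 81 (Nat.div i 9))

theorem forall_sJ {p : K → Prop} : (∀ k ∈ sJ, p k) ↔ ∀ i < 81, p (e (jn i)) :=
  ⟨fun h i a => h _ ((mem_sJ _).1 ((by decide +kernel :
    ∀ i < 81, inJ (e (jn i) : K).v = true) i a)), fun h k a => by
    obtain ⟨i, b, c⟩ := (by decide +kernel : ∀ m < 729, inJ m = true → ∃ i < 81, jn i = m) k.v a.1
      ((mem_sJ k).2 a)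
    exact e_v k ▸ c ▸ h i b⟩

set_option synthInstance.checkSynthOrder false in
instance (priority := high) bdAllJ {p : K → Prop} {f : K → Bool} [∀ k, BD (p k) (f k)] :
    BD (∀ k ∈ sJ, p k) (allB 81 fun i => f (e (jn i))) := ⟨by
  simp only [forall_sJ, allB_iff, BD.h (p := p _)]⟩

theorem sJ_le : sJ ≤ sS := inf_le_left

theorem card_sJ : Nat.card sJ = 81 := (X32.card_sub (· ∈ sJ) fun _ => Iff.rfl).trans (by decide +kernel)

theorem Jcomm : ∀ a ∈ sJ, ∀ b ∈ sJ, Commute a b := bd!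

theorem Jcube : ∀ a ∈ sJ, a ^ 3 = 1 := bd!

theorem J_dec : ∀ k ∈ sJ, k = E1 ^ Nat.mod k.v 3 * E2 ^ Nat.mod (Nat.div k.v 9) 3 *
    (Z ^ Nat.mod (Nat.div k.v 81) 3 * Y ^ Nat.div k.v 243) := bd!

theorem J_le {U : Subgroup K} (a : E1 ∈ U) (b : E2 ∈ U) (c : Z ∈ U) (d : Y ∈ U) : sJ ≤ U :=
  fun k m => J_dec k m ▸ mul_mem (mul_mem (pow_mem a _) (pow_mem b _)) (mul_mem (pow_mem c _) (pow_mem d _))

theorem Q_le {U : Subgroup K} (a : E1 ∈ U) (b : F1 ∈ U) (c : E2 ∈ U) (d : F2 ∈ U) : sQ ≤ U := by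
  have z : Z ∈ U := (bd! : E1 * F1 * E1⁻¹ * F1⁻¹ = Z) ▸
    mul_mem (mul_mem (mul_mem a b) (inv_mem a)) (inv_mem b)
  refine seg_le fun g m => ?_
  obtain ⟨u, hu, i, -, rfl⟩ := (bd! : ∀ g ∈ gQ, ∃ u ∈ [1, E1, F1, E2, F2], ∃ i ∈ [0, 1, 2],
    g = u⁻¹ * Z ^ i) g m
  refine mul_mem (inv_mem ?_) (pow_mem z i)
  simp only [List.mem_cons, List.not_mem_nil, or_false] at hu
  rcases hu with rfl | rfl | rfl | rfl | rfl
  exacts [one_mem _, a, b, c, d]

/-- the component in the Heisenberg group -/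
noncomputable def qp (x : K) : Hs := e (Nat.mod x.v 243)

/-- the action of `SL₂(5)` on the Heisenberg group -/
noncomputable def aH (h : Hh) (q : Hs) : Hs := e (aQ h.v q.v)

instance evAH (h : Hh) (q : Hs) {a b : ℕ} [EV h a] [EV q b] :
    EV (aH h q) (Nat.mod (aQ a b) F4L.TQ.n) := ⟨by rw [← EV.h (a := h), ← EV.h (a := q)]; rfl⟩

theorem aQ_lt : ∀ h < 120, ∀ q < 243, aQ h q < 243 := by decide +kernel

theorem div_lt (x : K) : x.v / 243 < 120 := Nat.div_lt_of_lt_mul x.lt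

theorem mul_v (x y : K) : (x * y).v = F4L.TQ.mu (x.v % 243) (aQ (x.v / 243) (y.v % 243)) +
    243 * TH.mu (x.v / 243) (y.v / 243) := by
  have := chkQ
  simp only [allB_iff, and'_eq_true, beq_iff] at this
  rw [← (this (x.v % 243) (Nat.mod_lt _ (by decide))).2 _ (aQ_lt _ (div_lt x) _ (Nat.mod_lt _ (by decide)))]
  change TK.mu x.v y.v = _
  simp only [TK, sd, force_eq]
  rfl

theorem mu_lt (x y : K) : F4L.TQ.mu (x.v % 243) (aQ (x.v / 243) (y.v % 243)) < 243 :=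
  F4L.factTQ.out.lt _ (Nat.mod_lt _ (by decide)) _ (aQ_lt _ (div_lt x) _ (Nat.mod_lt _ (by decide)))

/-- the projection to `SL₂(5)` -/
noncomputable def hp : K →* Hh := MonoidHom.mk' (fun x => ⟨Nat.div x.v 243, div_lt x⟩) fun x y =>
  TG.ext (by
    change (x * y).v / 243 = TH.mu (x.v / 243) (y.v / 243)
    have := mu_lt x y
    rw [mul_v]; omega)

instance evHp (x : K) {a : ℕ} [h : EV x a] : EV (hp x) (Nat.div a 243) := ⟨h.h ▸ rfl⟩

theorem hp_ker {x : K} : hp x = 1 ↔ x ∈ sQ :=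
  ⟨fun a => (Nat.div_eq_zero_iff_lt (by decide)).1 (congrArg TG.v a),
    fun a => TG.ext (Nat.div_eq_of_lt a)⟩

theorem qp_mul (x y : K) : qp (x * y) = qp x * aH (hp x) (qp y) := TG.ext (by
  have a := mu_lt x y
  have b := aQ_lt _ (div_lt x) _ (Nat.mod_lt y.v (by decide : 0 < 243))
  change (x * y).v % 243 % 243 =
    F4L.TQ.mu (x.v % 243 % 243) (aQ (x.v / 243) (y.v % 243 % 243) % 243)
  rw [Nat.mod_mod, Nat.mod_mod, Nat.mod_mod, Nat.mod_eq_of_lt b, mul_v]; omega)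

variable {G : Type*} [Group G]

/-- homomorphisms from the semidirect product -/
theorem sd_hom (ι : Hs →* G) (κ : Hh →* G) (h : ∀ g ∈ (es [1, 12] : List Hh),
    ∀ q ∈ (es [1, 3, 9, 27] : List Hs), κ g * ι q * (κ g)⁻¹ = ι (aH g q)) :
    ∃ φ : K →* G, ∀ x, φ x = ι (qp x) * κ (hp x) := by
  have a : ∀ g ∈ (es [1, 12] : List Hh), ∀ q, κ g * ι q * (κ g)⁻¹ = ι (aH g q) := fun g m q => by
    have b := (bd! : ∀ g ∈ (es [1, 12] : List Hh), aH g 1 = 1 ∧ aH g (e 81) = aH g (e 1) * aH g (e 3) *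
      (aH g (e 1))⁻¹ * (aH g (e 3))⁻¹ ∧ ∀ u ∈ (es [1, 3, 9, 27, 81] : List Hs), ∀ q,
        aH g (u * q) = aH g u * aH g q) g m
    have c : ∀ u ∈ (es [1, 3, 9, 27, 81] : List Hs), ∀ q, κ g * ι q * (κ g)⁻¹ = ι (aH g q) →
        κ g * ι (u * q) * (κ g)⁻¹ = ι (aH g (u * q)) := fun u l q d => by
      rw [b.2.2 u l, map_mul, map_mul, ← d, ← conj_mul]
      congr 1
      rcases (bd! : ∀ u ∈ (es [1, 3, 9, 27, 81] : List Hs), u ∈ (es [1, 3, 9, 27] : List Hs) ∨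
        u = e 81) u l with f | rfl
      · exact h g m u f
      · rw [b.2.1, (bd! : (e 81 : Hs) = e 1 * e 3 * (e 1)⁻¹ * (e 3)⁻¹)]
        simp only [map_mul, map_inv, ← h g m (e 1) bd!, ← h g m (e 3) bd!]
        group
    have p : ∀ u ∈ (es [1, 3, 9, 27, 81] : List Hs), ∀ n q, κ g * ι q * (κ g)⁻¹ = ι (aH g q) →
        κ g * ι (u ^ n * q) * (κ g)⁻¹ = ι (aH g (u ^ n * q)) := fun u l n q d => by
      induction n with
      | zero => simpa using d
      | succ n ih => rw [pow_succ', mul_assoc u]; exact c u l _ ih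
    obtain ⟨k, f⟩ := F4L.Hs_dec q
    rw [f, ← mul_one (e 81 ^ k)]
    simp only [mul_assoc (_ ^ _ : Hs), mul_assoc (_ ^ _ * _ : Hs)]
    exact p _ bd! _ _ (p _ bd! _ _ (p _ bd! _ _ (p _ bd! _ _ (p _ bd! _ _ (by simp [b.1])))))
  have b : ∀ g q, κ g * ι q * (κ g)⁻¹ = ι (aH g q) := fun g => by
    induction g using indH with
    | h1 => simp [(bd! : ∀ q, aH 1 q = q)]
    | h2 g m k ih =>
      intro q
      rw [(bd! : ∀ g ∈ (es [1, 12] : List Hh), ∀ k q, aH (g * k) q = aH g (aH k q)) g m, ← a g m,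
        ← ih, map_mul]
      group
  exact ⟨MonoidHom.mk' (fun x => ι (qp x) * κ (hp x)) fun x y => by
    rw [qp_mul, map_mul, map_mul, map_mul, ← b]; group, fun _ => rfl⟩

/-- a chart of the centralizer of a 3-central element -/
structure Ch (φ : K →* G) : Prop where
  inj : Function.Injective φ
  cz' : ∀ g, Commute g (φ Z) → g ∈ φ.range
  cv : IsConj (φ Z) (φ E1)
  syl : IsSyl 3 (sS.map φ) ⊤

/-- conjugation in terms of the chart -/
def Cj (φ : K →* G) (g : G) (a b : K) : Prop := g * φ a * g⁻¹ = φ b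

variable {φ : K →* G}

namespace Cj

variable {g g' : G} {a b c d : K}

theorem one : Cj φ g 1 1 := by simp [Cj]

theorem mul (h : Cj φ g a b) (h' : Cj φ g c d) : Cj φ g (a * c) (b * d) := by
  rw [Cj, map_mul, map_mul, ← conj_mul, h, h']

theorem inv (h : Cj φ g a b) : Cj φ g a⁻¹ b⁻¹ := by rw [Cj, map_inv, map_inv, ← conj_inv, h]

theorem pow (h : Cj φ g a b) (n : ℕ) : Cj φ g (a ^ n) (b ^ n) := by
  rw [Cj, map_pow, map_pow, ← conj_pow, h]

theorem comp (h : Cj φ g a b) (h' : Cj φ g' b c) : Cj φ (g' * g) a c := by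
  rw [Cj, ← h', ← h]; group

theorem symm (h : Cj φ g a b) : Cj φ g⁻¹ b a := by rw [Cj, ← h]; group

theorem of {k : K} (e : k * a * k⁻¹ = b) : Cj φ (φ k) a b := cjk e

theorem cong (h : Cj φ g a b) (e : a = c ∧ b = d) : Cj φ g c d := e.1 ▸ e.2 ▸ h

theorem comm (h : Cj φ g a a) : Commute g (φ a) := comm_of_conj h

theorem of_comm (h : Commute g (φ a)) : Cj φ g a a := conj_of_comm h

theorem isConj (h : Cj φ g a b) : IsConj (φ a) (φ b) := isConj_iff.2 ⟨g, h⟩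

theorem cj (h : Cj φ g a b) (h' : Cj φ g c d) {k : K} (e : k * a * k⁻¹ = c) :
    Cj φ (g * φ k * g⁻¹) b d := (h.symm.comp (of e)).comp h' |> fun x => by
  simpa only [mul_assoc] using x

theorem cc (h : Cj φ g a b) {k : K} (e : Commute k a) : Commute (g * φ k * g⁻¹) (φ b) :=
  (h.cj h (conj_of_comm e)).comm

end Cj

/-- the linear map on `J` with given values on `E1, E2, Z, Y` -/
noncomputable def lin4 (a b c d k : K) : K := a ^ Nat.mod k.v 3 * b ^ Nat.mod (Nat.div k.v 9) 3 *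
    (c ^ Nat.mod (Nat.div k.v 81) 3 * d ^ Nat.div k.v 243)

instance evLin4 (a b c d k : K) {x y z w m : ℕ} [EV a x] [EV b y] [EV c z] [EV d w] [EV k m] :
    EV (lin4 a b c d k) (force m fun m => TK.mu (TK.mu (pwN TK x (Nat.mod m 3))
      (pwN TK y (Nat.mod (Nat.div m 9) 3))) (TK.mu (pwN TK z (Nat.mod (Nat.div m 81) 3))
        (pwN TK w (Nat.div m 243)))) :=
  ⟨by rw [force_eq, ← EV.h (a := k)]; exact EV.h (a := a ^ _ * b ^ _ * (c ^ _ * d ^ _))⟩

theorem Cj.lin {g : G} {a b c d k : K} (h1 : Cj φ g E1 a) (h2 : Cj φ g E2 b) (h3 : Cj φ g Z c)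
    (h4 : Cj φ g Y d) (m : k ∈ sJ) : Cj φ g k (lin4 a b c d k) :=
  (((h1.pow _).mul (h2.pow _)).mul ((h3.pow _).mul (h4.pow _))).cong ⟨(J_dec k m).symm, rfl⟩

namespace Ch

variable (h : Ch φ) {g : G} {a b k : K}
include h

theorem ne1 (e : k ≠ 1) : φ k ≠ 1 := fun a => e (h.inj (a.trans (map_one φ).symm))

theorem cm (c : Commute (φ a) (φ b)) : Commute a b := h.inj (by simpa using c.eq)

theorem eq (c : Cj φ (φ k) a b) : k * a * k⁻¹ = b := h.inj ((cjk rfl).symm.trans c)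

theorem uniq (c : Cj φ g a b) (d : Cj φ g a k) : b = k := h.inj (Eq.trans (Eq.symm c) d)

theorem cd (U : Subgroup K) : Nat.card (U.map φ) = Nat.card U := Subgroup.card_map_of_injective h.inj

theorem mem {U : Subgroup K} : φ k ∈ U.map φ ↔ k ∈ U := mem_map_iff_mem h.inj

theorem z3 : φ Z ^ 3 = 1 := by rw [← map_pow, (bd! : Z ^ 3 = 1), map_one]

theorem pw {n : ℕ} (c : Cj φ g a b) (e : a ^ n = 1) : b ^ n = 1 :=
  h.uniq (c.pow n) (Cj.one.cong ⟨e.symm, rfl⟩)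

theorem cz (e : Commute g (φ Z)) : ∃ k, φ k = g := h.cz' g e

theorem pg {U : Subgroup K} (a : U ≤ sS) : IsPGroup 3 (U.map φ) := h.syl.pgrp.to_le (map_mono a)

end Ch

end Cfsg.Agent.HNL
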