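import Cfsg.Agent.HNL.Ex
import Cfsg.Agent.Loc3.PrT

/-! The Thompson subgroup `J`: self-centralising, weakly closed; basic fusion.

(Captain helper8, S3340.)  Table facts in `K` by `bd!` (HNL/K; `∀ k : K` ranges over 29160 elements, fine once per fact; `∀ k ∈ sS`,
`∀ k ∈ sJ`, `∀ k ∈ sQ` are cheap).  `Ch.ex` (HNL/Ex) gives `Ex (φ Z) (sQ.map φ) π`.  Model: L43/Weyl (`nzp`, `nW`, `sig`).

`cJ`: `g = φ k` by `h.cz`; `∀ k, Commute k E1 → k ∈ sS` (`bd!`), so `k ∈ sS ⊓ C(Y) = sJ`.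
`uJ`: pull back: `A = comap φ (cj(g, J)) ≤ sS` is abelian of order 81.  If `a ∈ A`, `a ∉ sJ` then `A ⊓ sJ ≤ C_J(a)`, which has order 9
(python-checked, all `a ∈ sS ∖ sJ`), while `|A ⊓ sJ| ≥ 81·81/729 = 9`; so `|A J| = 729`, `A ⊓ sJ` is central in `sS`, whose centre
`{1, Z, Z⁻¹}` has order 3.  (Alternative: `|C_S(a)| = 27` if `a ∉ sQ`, and `C_S(a)` is non-abelian of order 81 if `a ∈ sQ`.)
`pJ`: a 3-subgroup `P` is conjugate into the Sylow subgroup `sS.map φ` (`h.syl`, IsSyl API in PLocal/Amb*), then `uJ` twice.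
`wc`: `J ⊔ cj(g, J)` is a 3-group (`cj(g,J)` normalises `J`); `pJ` with `g' = 1`.
`fus`: `g φa g⁻¹ = φ b`; `J` and `cj(g, J)` lie in `C(φ b)`; conjugate `cj(g,J)` by `c ∈ C(φ b)` into a Sylow 3-subgroup of `C(φ b)`
containing `J`; `pJ` gives `c g ∈ N(J)`.
`nW`: as L43/Weyl `nW` with `Ex.exy`: `∀ y, Commute y W3 → y ∈ sS` and
`∀ y ∈ sS, Commute y W3 → ∀ a ∈ sQ, Commute a W3 → ⁅y, a⁆ ≠ W3 ∧ ⁅y, a⁆ ≠ W3⁻¹`.
`sig`: as L43/Weyl `sig` with `E1` for `V`: `e 6 * E1 * (e 6)⁻¹ = Z * E1`, `e 732 * E1 * (e 732)⁻¹ = Z * E1⁻¹`. -/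

set_option autoImplicit false
set_option maxRecDepth 100000
set_option synthInstance.maxHeartbeats 400000
set_option synthInstance.maxSize 4000

namespace Cfsg.Agent.HNL

open Subgroup Cfsg Cfsg.Agent.PLocal Cfsg.Agent.PLocal.Amb Cfsg.Agent.Loc3 Cfsg.Agent.Comp
open Cfsg.Agent.G23.Am (one_of_sq mem_of_sq cjk card_seg)
open Cfsg.Agent.X32.TG Cfsg.Agent.Loc3.Pr
open scoped commutatorElement

namespace NJ1

theorem card9 {r : K} (hr : r ∈ [F1, F2, F1 * F2, F1 * F2⁻¹]) :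
    Nat.card (sJ ⊓ centralizer {r} : Subgroup K) = 9 := by
  simp only [List.mem_cons, List.not_mem_nil, or_false] at hr
  rcases hr with rfl | rfl | rfl | rfl <;>
    exact (X32.card_sub (· ∈ sJ ⊓ centralizer {_}) fun _ => Iff.rfl).trans (by decide +kernel)

/-- `J` is the only abelian subgroup of order `81` of `S` -/
theorem ab81 {A : Subgroup K} (le : A ≤ sS) (c : ∀ a ∈ A, ∀ b ∈ A, Commute a b)
    (cd : Nat.card A = 81) : A = sJ := by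
  refine eq_of_le_of_card_ge (fun a ha => by_contra fun na => ?_) (by rw [cd, card_sJ])
  have m : Nat.card (sJ ⊓ A : Subgroup K) * sJ.relIndex A = 81 := by
    have := card_mul_index ((sJ ⊓ A).subgroupOf A)
    rwa [Nat.card_congr (subgroupOfEquivOfLe inf_le_right).toEquiv, ← relIndex, inf_relIndex_right,
      cd] at this
  have r9 : sJ.relIndex sS = 9 :=
    X32.relIndex_of_card sJ_le card_sJ (by rw [card_seg (by decide)])
  have b1 : sJ.relIndex A ≤ 9 := r9 ▸ relIndex_le_of_le_right le (by rw [r9]; decide)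
  have z3 : Z ^ 3 = 1 := bd!
  obtain ⟨d, hd, d1⟩ : ∃ d ∈ sJ ⊓ A, d ∉ zpowers Z := by
    by_contra! f
    have := card_le_of_le (show sJ ⊓ A ≤ zpowers Z from f)
    rw [Nat.card_zpowers, orderOf_three z3 bd!] at this
    have := Nat.mul_le_mul this b1
    omega
  have JU : sJ ≤ sS ⊓ centralizer {d} := fun j hj => ⟨sJ_le hj, mem_cent.2 (Jcomm j hj d hd.1)⟩
  have AU : A ≤ sS ⊓ centralizer {d} := fun x hx => ⟨le hx, mem_cent.2 (c x hx d hd.2)⟩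
  have e := relIndex_mul_relIndex sJ _ sS JU inf_le_left
  rw [r9] at e
  have n1 : (sS ⊓ centralizer {d}).relIndex sS ≠ 1 := fun f => d1 ((mem_zpowers_three z3).2
    ((bd! : ∀ d ∈ sJ, Commute F1 d → Commute F2 d → d = 1 ∨ d = Z ∨ d = Z⁻¹) d hd.1
      (mem_cent.1 (relIndex_eq_one.1 f (bd! : F1 ∈ sS)).2)
      (mem_cent.1 (relIndex_eq_one.1 f (bd! : F2 ∈ sS)).2)))
  have b2 := relIndex_le_of_le_right (H := sJ) AU (by intro f; rw [f] at e; omega)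
  have b3 : sJ.relIndex (sS ⊓ centralizer {d}) ≤ 4 := by
    have : 2 ≤ (sS ⊓ centralizer {d}).relIndex sS := by
      rcases hx : (sS ⊓ centralizer {d}).relIndex sS with _ | _ | x
      · rw [hx] at e; omega
      · exact absurd hx n1
      · omega
    have := Nat.mul_le_mul_left (sJ.relIndex (sS ⊓ centralizer {d})) this
    omega
  obtain ⟨r, hr, f⟩ := ((bd! : ∀ a ∈ sS, a ∈ sJ ∨ ∃ r ∈ [F1, F2, F1 * F2, F1 * F2⁻¹],
    r⁻¹ * a ∈ sJ ∨ r * a ∈ sJ) a (le ha)).resolve_left na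
  have b4 : sJ ⊓ A ≤ sJ ⊓ centralizer {r} := fun x hx => ⟨hx.1, mem_cent.2 (by
    have u := c x hx.2 a ha
    rcases f with f | f
    · simpa using u.mul_right (Jcomm x hx.1 _ f).inv_right
    · simpa using (Jcomm x hx.1 _ f).mul_right u.inv_right)⟩
  have b5 := card_le_of_le b4
  rw [card9 hr] at b5
  have := Nat.mul_le_mul b5 (b2.trans b3)
  omega

end NJ1

variable {G : Type*} [Group G] [Finite G] {φ : K →* G}

namespace Ch

variable (h : Ch φ) {g g' : G} {a b k : K}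
include h

theorem nzp (e : k ∉ [1, Z, Z⁻¹]) : φ k ∉ zpowers (φ Z) := fun a => e (by
  rcases (mem_zpowers_three h.z3).1 a with a | a | a
  exacts [by simp [h.inj (a.trans (map_one φ).symm)], by simp [h.inj a],
    by simp [h.inj (a.trans (map_inv φ Z).symm)]])

theorem cZE (c1 : Commute g (φ Z)) (c2 : Commute g (φ E1)) : ∃ k ∈ sS, φ k = g := by
  obtain ⟨k, rfl⟩ := h.cz c1
  exact ⟨k, (bd! : ∀ k : K, Commute k E1 → k ∈ sS) k (h.cm c2), rfl⟩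

theorem cJ (c1 : Commute g (φ E1)) (c2 : Commute g (φ Z)) (c3 : Commute g (φ Y)) :
    ∃ j ∈ sJ, φ j = g := by
  obtain ⟨k, a, rfl⟩ := h.cZE c2 c1
  exact ⟨k, ⟨a, mem_cent.2 (h.cm c3)⟩, rfl⟩

theorem uJ (a : cj(g, sJ.map φ) ≤ sS.map φ) : cj(g, sJ.map φ) = sJ.map φ := by
  have e : (cj(g, sJ.map φ).comap φ).map φ = cj(g, sJ.map φ) :=
    map_comap_eq_self (a.trans (map_le_range φ _))
  rw [← e, NJ1.ab81 (A := cj(g, sJ.map φ).comap φ) (fun k m => h.mem.1 (a m)) (fun x m y l => h.cm ?_)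
    (by rw [← h.cd, e, card_cj, h.cd, card_sJ])]
  obtain ⟨_, ⟨u, b, rfl⟩, c⟩ := mem_cj_iff_exists.1 (mem_comap.1 m)
  obtain ⟨_, ⟨w, d, rfl⟩, f⟩ := mem_cj_iff_exists.1 (mem_comap.1 l)
  rw [← c, ← f]
  exact Commute.cj ((Jcomm u b w d).map φ) g

theorem pJ {P : Subgroup G} (p : IsPGroup 3 P) (a : cj(g, sJ.map φ) ≤ P) (b : cj(g', sJ.map φ) ≤ P) :
    cj(g, sJ.map φ) = cj(g', sJ.map φ) := by
  have := Fact.mk Nat.prime_three
  obtain ⟨x, -, e⟩ := h.syl.exists_cj_le p le_top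
  refine (cj_inj (g := x)).1 ?_
  rw [← cj_mul, ← cj_mul, h.uJ (cj_mul x g _ ▸ (cj_mono x a).trans e),
    h.uJ (cj_mul x g' _ ▸ (cj_mono x b).trans e)]

theorem wc (a : cj(g, sJ.map φ) ≤ 𝐍[sJ.map φ]) : g ∈ 𝐍[sJ.map φ] := by
  have := h.pJ (g' := 1) (isPGroup_sup (isPGroup_cj g (h.pg sJ_le)) (h.pg sJ_le) a) le_sup_left
    (by rw [cj_one]; exact le_sup_right)
  rwa [cj_one, cj_eq_iff] at this

theorem fus (ha : a ∈ sJ) (hb : b ∈ sJ) (c : IsConj (φ a) (φ b)) :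
    ∃ n ∈ 𝐍[sJ.map φ], Cj φ n a b := by
  have := Fact.mk Nat.prime_three
  obtain ⟨g, e⟩ := isConj_iff.1 c
  have l1 : sJ.map φ ≤ centralizer {φ b} := by
    rintro _ ⟨j, m, rfl⟩
    exact mem_cent.2 ((Jcomm j m b hb).map φ)
  have l2 : cj(g, sJ.map φ) ≤ centralizer {φ b} := cj_le_iff_forall.2 (by
    rintro _ ⟨j, m, rfl⟩
    exact mem_cent.2 (e ▸ Commute.cj ((Jcomm j m a ha).map φ) g))
  obtain ⟨P, hP, l3⟩ := exists_isSyl_ge (h.pg sJ_le) l1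
  obtain ⟨x, m, l4⟩ := hP.exists_cj_le (isPGroup_cj g (h.pg sJ_le)) l2
  have f := h.pJ (g' := 1) hP.pgrp (cj_mul x g _ ▸ l4) (by rw [cj_one]; exact l3)
  rw [cj_one, cj_eq_iff] at f
  exact ⟨_, f, Cj.comp (show Cj φ g a b from e) (Cj.of_comm (mem_cent.1 m))⟩

theorem nW : ¬ IsConj (φ Z) (φ W3) := fun c => by
  obtain ⟨π, x, -⟩ := h.ex
  obtain ⟨Q', π', x'⟩ := x.of_conj c
  obtain ⟨y, yQ, yz, -, _, ⟨a, aQ, rfl⟩, aQ', ya⟩ :=
    x.exy x' (mem_map_of_mem φ (bd! : W3 ∈ sQ)) (h.nzp bd!)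
  obtain ⟨y, rfl⟩ := h.cz yz
  have yk := h.cm (x'.cz yQ)
  obtain ⟨b1, b2⟩ := (bd! : ∀ y ∈ sS, Commute y W3 → ∀ a ∈ sQ, Commute a W3 →
    ⁅y, a⁆ ≠ W3 ∧ ⁅y, a⁆ ≠ W3⁻¹) y ((bd! : ∀ y : K, Commute y W3 → y ∈ sS) y yk) yk a aQ
      (h.cm (x'.cz aQ'))
  rcases (mem_zpowers_three x'.z3).1 (x'.cm yQ aQ') with e | e | e
  exacts [ya (commutatorElement_eq_one_iff_commute.1 e), b1 (h.inj (by simpa using e)),
    b2 (h.inj (by simpa using e))]

theorem sig : Sig (closure {φ Z, φ E1}) := fun U c n => by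
  obtain ⟨π, x, -⟩ := h.ex
  have f : ∀ {z Q π v u}, Ex z Q π → v ∈ Q → v ∈ 𝐍[U] → u ∈ U → Commute u z → Commute u v :=
    fun {z Q π v u} x a b d e => (commutatorElement_eq_one_iff_commute.1
      (eq_one_of_isPGroup_of_coprime x.pQ (x := ⁅v, u⁆) (by
        simpa only [commutatorElement_def, mul_assoc] using mul_mem a (x.cj e (inv_mem a)))
        (c.coprime_dvd_left (U.orderOf_dvd_natCard (mul_mem
          (conj_mem_of_mem_normalizer b d) (inv_mem d)))))).symm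
  have f1 : ∀ u ∈ U, Commute u (φ Z) → u = 1 := fun u a b => by
    obtain ⟨k, m, rfl⟩ := h.cZE b (f x (mem_map_of_mem φ (bd! : E1 ∈ sQ)) (n mem_r) a b)
    exact eq_one_of_isPGroup_of_coprime (h.pg le_rfl) (mem_map_of_mem φ m)
      (c.coprime_dvd_left (U.orderOf_dvd_natCard a))
  have f2 : ∀ w k, k * E1 * k⁻¹ = w ∧ w ∈ sQ ∧ w ∉ [1, Z, Z⁻¹] → ∀ u ∈ U, Commute u (φ w) → u = 1 :=
    fun w k a u b d => by
      obtain ⟨Q', π', x'⟩ := x.of_conj (h.cv.trans (Cj.of a.1).isConj)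
      exact f1 u b (f x' (x.zmem x' (mem_map_of_mem φ a.2.1) (h.nzp a.2.2)).1 (n mem_l) b d)
  have e3 : φ E1 ^ 3 = 1 := by rw [← map_pow, (bd! : E1 ^ 3 = 1), map_one]
  refine le_bot_iff.1 (le_of_four h.z3 e3 ((bd! : Commute Z E1).map φ) (h.ne1 bd!)
    (fun a => h.nzp (k := E1) bd! ((L43.zp e3 a (h.ne1 bd!)).ge (mem_zpowers _))) (n mem_l) (n mem_r) c ?_)
  simp only [← map_inv, ← map_mul]
  rintro u a (b | b | b | b)
  exacts [f1 u a b, f2 _ 1 bd! u a b, f2 _ (e 6) bd! u a b, f2 _ (e 732) bd! u a b]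

end Ch

end Cfsg.Agent.HNL
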