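import Cfsg.Agent.HNL.NJ1

/-! The element `m` of `N(J)` exchanging `⟨Z⟩` and `⟨E1⟩`.

(S3340.)  `exM`: `h.fus` with `h.cv` gives `n ∈ N(J)`, `Cj φ n Z E1`.  Let `Cj φ n v Z`, `v ∈ sJ` (`n⁻¹` normalises `J`).  `Ex.zmem` for
`Ex.conj n` (`Ch.ex`) gives `φ Z ∈ cj(n, Q)`, i.e. `v ∈ sQ`; `v ∉ [1, Z, Z⁻¹]` (`h.uniq`), and `v` is conjugate to `Z`, so not in
`W12 = es [10,11,19,20,91,92,100,101,172,173,181,182]`, whose members are `b W3 b⁻¹` for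
`b ∈ es [1458,729,0,2187,1464,732,6,2190,1461,735,3,2193]` (`nW`).  For the other 12 elements `v` of `sJ ⊓ sQ` some
`b ∈ es [729,0,1458,2187,735,6,1464,2193,732,3,1461,2190]` has `b v b⁻¹ = E1⁻¹`; these `b` lie in `sB`, which normalises `sJ` and
centralises `Z`.  Replace `n` by `n (φ b)⁻¹`: `Cj n Z E1`, `Cj n E1 Z⁻¹`, `n ∈ N(J)`; let `Cj n E2 c`, `Cj n Y d`, `c, d ∈ sJ`; `n` acts on
`sJ` by `L = lin4 Z⁻¹ c E1 d` (`Cj.lin`).  `n φ(F2) n⁻¹` commutes with `φ Z`, so is `φ s'`, with `s'` commuting with `E1` and `s' ∉ sJ`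
(as `F2 ∉ sJ`); `∀ k, Commute k E1 → ∃ s ∈ [1, F2, F2⁻¹], s⁻¹ * k ∈ sJ`; so for some `s ∈ [F2, F2⁻¹]`
`L (F2 E2 F2⁻¹) = s c s⁻¹` and `L (F2 Y F2⁻¹) = s d s⁻¹` (`Cj.cj`, `h.eq`, `Jcomm`).  For such `c, d, s` (162 pairs; one `bd!` over
`c ∈ sJ, d ∈ sJ, s`), with letters `0 = L`, `1, 2, 3 =` conjugation by `F1, F2, N`, words applied from left to right: either one of
`[0,3,0,0], [0,3,0,1,0,1,0], [0,3,0,1,0,3,0], [0,3,2,0,3,0], [0,3,0,3,1,0]` sends `Z` into `W12` (contradiction with `nW`; all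
intermediate values stay in `sJ`, prove once `∀ k ∈ sJ, L k ∈ sJ` from `n ∈ N(J)` and `h.uniq`, or from `mul_mem/pow_mem`), or one of
`[0], [0,2], [0,2,2], [0,0,1,0,1,0,1]` acts on `Z, E1, E2, Y` as required; take the corresponding product of `n, φ F1, φ F2`.
`exC`: `c = φ (e 6) * m * φ (e 1488) * m * φ (e 1464)`, with `Cj.lin` for `m` (`lin4 Z⁻¹ Y E1 E2⁻¹`). -/

set_option autoImplicit false
set_option maxRecDepth 100000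
set_option synthInstance.maxHeartbeats 400000
set_option synthInstance.maxSize 4000

namespace Cfsg.Agent.HNL

open Subgroup Cfsg Cfsg.Agent.PLocal Cfsg.Agent.PLocal.Amb Cfsg.Agent.Loc3 Cfsg.Agent.Comp
open Cfsg.Agent.G23.Am (one_of_sq mem_of_sq cjk card_seg)
open Cfsg.Agent.X32.TG Cfsg.Agent.Loc3.Pr
open scoped commutatorElement

variable {G : Type*} [Group G] [Finite G] {φ : K →* G}

/-- words in the linear map `0` and conjugations, the rightmost letter acting first -/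
noncomputable def wJ (c d : K) : List ℕ → K → K
  | [], k => k
  | i :: W, k => if i = 0 then lin4 Z⁻¹ c E1 d (wJ c d W k) else e i * wJ c d W k * (e i)⁻¹

noncomputable def wJN (x y : ℕ) (W : List ℕ) (m : ℕ) : ℕ :=
  List.rec (motive := fun _ => ℕ) m (fun i _ ih => force ih fun a => Bool.rec (motive := fun _ => ℕ)
    (TK.mu (TK.mu (Nat.mod i TK.n) a) (TK.iv (Nat.mod i TK.n)))
    (TK.mu (TK.mu (pwN TK 162 (Nat.mod a 3)) (pwN TK x (Nat.mod (Nat.div a 9) 3)))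
      (TK.mu (pwN TK 1 (Nat.mod (Nat.div a 81) 3)) (pwN TK y (Nat.div a 243)))) (Nat.beq i 0)) W

instance evWJ (c d : K) (W : List ℕ) (k : K) {x y m : ℕ} [EV c x] [EV d y] [EV k m] :
    EV (wJ c d W k) (wJN x y W m) := ⟨by
  rw [← EV.h (a := k)]
  induction W with
  | nil => rfl
  | cons i W ih =>
    unfold wJN at ih ⊢
    simp only [force_eq] at ih ⊢
    rw [← ih, wJ]
    cases i
    · have : EV Z⁻¹ 162 := ⟨by decide +kernel⟩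
      have : EV E1 1 := ⟨by decide +kernel⟩
      exact (evLin4 Z⁻¹ c E1 d _).h.trans (force_eq _ _)
    · rfl⟩

noncomputable abbrev W12 : List K := es [10, 11, 19, 20, 91, 92, 100, 101, 172, 173, 181, 182]

theorem nj2_tb : ∀ c ∈ sJ, ∀ d ∈ sJ, ∀ s ∈ [F2, F2⁻¹], s * c * s⁻¹ = lin4 Z⁻¹ c E1 d (F2 * E2 * F2⁻¹) →
    s * d * s⁻¹ = lin4 Z⁻¹ c E1 d (F2 * Y * F2⁻¹) →
    (∃ W ∈ [[0, 0, 1458, 0], [0, 3, 0, 3, 0, 1458, 0], [0, 1458, 0, 3, 0, 1458, 0], [0, 1458, 0, 27, 1458, 0],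
      [0, 3, 1458, 0, 1458, 0]], (∀ i ∈ W, i ∈ [0, 3, 27, 1458]) ∧ wJ c d W Z ∈ W12) ∨
    ∃ W ∈ [[0], [27, 0], [27, 27, 0], [3, 0, 3, 0, 3, 0, 0]], (∀ i ∈ W, i ∈ [0, 3, 27, 1458]) ∧
      wJ c d W Z = E1 ∧ wJ c d W E1 = Z⁻¹ ∧ wJ c d W E2 = Y ∧ wJ c d W Y = E2⁻¹ := bd!

theorem Cj.word {n : G} {c d : K} (h1 : Cj φ n E1 Z⁻¹) (h2 : Cj φ n E2 c) (h3 : Cj φ n Z E1)
    (h4 : Cj φ n Y d) (hc : c ∈ sJ) (hd : d ∈ sJ) (W : List ℕ) (hW : ∀ i ∈ W, i ∈ [0, 3, 27, 1458]) :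
    ∃ m, ∀ k ∈ sJ, wJ c d W k ∈ sJ ∧ Cj φ m k (wJ c d W k) := by
  induction W with
  | nil => exact ⟨1, fun k a => ⟨a, by simp [Cj, wJ]⟩⟩
  | cons i W ih =>
    obtain ⟨m, hm⟩ := ih fun j a => hW j (List.mem_cons_of_mem _ a)
    by_cases z : i = 0
    · refine ⟨n * m, fun k a => ?_⟩
      rw [wJ, if_pos z]
      exact ⟨mul_mem (mul_mem (pow_mem bd! _) (pow_mem hc _)) (mul_mem (pow_mem bd! _) (pow_mem hd _)),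
        (hm k a).2.comp (h1.lin h2 h3 h4 (hm k a).1)⟩
    · refine ⟨φ (e i) * m, fun k a => ?_⟩
      rw [wJ, if_neg z]
      exact ⟨(bd! : ∀ i ∈ [0, 3, 27, 1458], ∀ k ∈ sJ, (e i : K) * k * (e i)⁻¹ ∈ sJ) i
        (hW i List.mem_cons_self) _ (hm k a).1, (hm k a).2.comp (.of rfl)⟩

theorem Ch.nW12 (h : Ch φ) {g : G} {v : K} (c : Cj φ g Z v) : v ∉ W12 := fun a => by
  obtain ⟨b, -, f⟩ := (bd! : ∀ v ∈ W12, ∃ b ∈ (es [1458, 729, 0, 2187, 1464, 732, 6, 2190, 1461, 735, 3,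
    2193] : List K), b * W3 * b⁻¹ = v) v a
  exact h.nW (c.comp (Cj.of f).symm).isConj

theorem Ch.nJ (h : Ch φ) {n : G} (hn : n ∈ 𝐍[sJ.map φ]) {k : K} (a : k ∈ sJ) : ∃ v ∈ sJ, Cj φ n k v :=
  let ⟨v, b, c⟩ := conj_mem_of_mem_normalizer hn (h.mem.2 a)
  ⟨v, b, c.symm⟩

theorem Ch.exM (h : Ch φ) : ∃ m, Cj φ m Z E1 ∧ Cj φ m E1 Z⁻¹ ∧ Cj φ m E2 Y ∧ Cj φ m Y E2⁻¹ := by
  obtain ⟨n, hn, c0⟩ := h.fus bd! bd! h.cv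
  obtain ⟨v, hv, c1⟩ := h.nJ (inv_mem hn) (bd! : Z ∈ sJ)
  obtain ⟨π, x, -⟩ := h.ex
  obtain ⟨z1, z2⟩ := x.zmem (x.conj n) (by rw [show n * _ * n⁻¹ = _ from c0]; exact h.mem.2 bd!)
    (by rw [show n * _ * n⁻¹ = _ from c0]; exact h.nzp bd!)
  have vQ : v ∈ sQ := h.mem.1 (by
    rw [← show n⁻¹ * _ * n⁻¹⁻¹ = _ from c1, inv_inv]
    exact mem_cj.1 z1)
  have v1 : v ∉ [1, Z, Z⁻¹] := fun a => by
    have c2 : Cj φ n v Z := by simpa using c1.symm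
    simp only [List.mem_cons, List.not_mem_nil, or_false] at a
    rcases a with rfl | rfl | rfl
    exacts [absurd (h.uniq c2 .one) bd!, absurd (h.uniq c2 c0) bd!, absurd (h.uniq c2 c0.inv) bd!]
  obtain ⟨b, -, f, b1, b2, b3⟩ := ((bd! : ∀ v ∈ sJ, v ∈ sQ → v ∉ [1, Z, Z⁻¹] → v ∈ W12 ∨ ∃ b ∈ (es [729, 0,
    1458, 2187, 735, 6, 1464, 2193, 732, 3, 1461, 2190] : List K), b * v * b⁻¹ = E1⁻¹ ∧ b * Z * b⁻¹ = Z ∧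
      b⁻¹ * E2 * b⁻¹⁻¹ ∈ sJ ∧ b⁻¹ * Y * b⁻¹⁻¹ ∈ sJ) v hv vQ v1).resolve_left (h.nW12 c1)
  obtain ⟨c, hc, c2⟩ := h.nJ hn b2
  obtain ⟨d, hd, c3⟩ := h.nJ hn b3
  have h1 : Cj φ (n * φ b⁻¹) E1 Z⁻¹ := by
    simpa using (c1.comp (.of f)).symm.inv
  have h2 := (Cj.of rfl).comp c2
  have h3 : Cj φ (n * φ b⁻¹) Z E1 := map_inv φ b ▸ (Cj.of b1).symm.comp c0
  have h4 := (Cj.of rfl).comp c3
  generalize n * φ b⁻¹ = m at h1 h2 h3 h4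
  obtain ⟨k, hk⟩ := h.cz (by simpa using h1.inv.cc (bd! : Commute F2 E1⁻¹))
  obtain ⟨s, hs, j⟩ := (bd! : ∀ k : K, Commute k E1 → ∃ s ∈ [1, F2, F2⁻¹], s⁻¹ * k ∈ sJ) k
    (h.cm (hk ▸ h3.cc (bd! : Commute F2 Z)))
  have t : ∀ a u, a ∈ sJ ∧ F2 * a * F2⁻¹ ∈ sJ → u ∈ sJ → Cj φ m a u →
      s * u * s⁻¹ = lin4 Z⁻¹ c E1 d (F2 * a * F2⁻¹) := fun a u ha hu cu => by
    have q := cu.cj (h1.lin h2 h3 h4 ha.2) rfl
    rw [← hk] at q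
    rw [← h.eq q]
    conv_rhs => rw [← mul_inv_cancel_left s k, mul_assoc s, (Jcomm _ j u hu).eq]
    group
  rcases List.mem_cons.1 hs with rfl | hs
  · have e1 := t Y d bd! hd h4
    rw [one_mul, inv_one, mul_one] at e1
    exact absurd (h.uniq h4.symm
      ((h1.lin h2 h3 h4 (bd! : F2 * Y * F2⁻¹ ∈ sJ)).cong ⟨rfl, e1.symm⟩).symm) bd!
  rcases nj2_tb c hc d hd s hs (t E2 c bd! hc h2) (t Y d bd! hd h4) with ⟨W, -, a, w⟩ | ⟨W, -, a, w⟩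
  · obtain ⟨g, hg⟩ := h1.word h2 h3 h4 hc hd W a
    exact absurd w (h.nW12 (hg Z bd!).2)
  · obtain ⟨g, hg⟩ := h1.word h2 h3 h4 hc hd W a
    exact ⟨g, w.1 ▸ (hg Z bd!).2, w.2.1 ▸ (hg E1 bd!).2, w.2.2.1 ▸ (hg E2 bd!).2,
      w.2.2.2 ▸ (hg Y bd!).2⟩

theorem Ch.exC (h : Ch φ) : ∃ c, Cj φ c W1 W1 ∧ Cj φ c W2 W2 ∧ Cj φ c W3 W4 ∧ Cj φ c W4 W3⁻¹ := by
  obtain ⟨m, h3, h1, h2, h4⟩ := h.exM
  have a : ∀ k, (e 1464 * k * (e 1464)⁻¹ ∈ sJ ∧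
      e 1488 * lin4 Z⁻¹ Y E1 E2⁻¹ (e 1464 * k * (e 1464)⁻¹) * (e 1488)⁻¹ ∈ sJ) →
      Cj φ (φ (e 6) * (m * (φ (e 1488) * (m * φ (e 1464))))) k (e 6 * lin4 Z⁻¹ Y E1 E2⁻¹ (e 1488 *
        lin4 Z⁻¹ Y E1 E2⁻¹ (e 1464 * k * (e 1464)⁻¹) * (e 1488)⁻¹) * (e 6)⁻¹) := fun k a =>
    ((((Cj.of rfl).comp (h1.lin h2 h3 h4 a.1)).comp (.of rfl)).comp (h1.lin h2 h3 h4 a.2)).comp (.of rfl)
  exact ⟨_, (a W1 bd!).cong ⟨rfl, bd!⟩, (a W2 bd!).cong ⟨rfl, bd!⟩, (a W3 bd!).cong ⟨rfl, bd!⟩,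
    (a W4 bd!).cong ⟨rfl, bd!⟩⟩

end Cfsg.Agent.HNL
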