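import Cfsg.Agent.HNL.NJ2

/-! Elements of order three in the centraliser of `z`; the centraliser of `W3` does not normalise `J`.

`zinv`: `m²` (`exM`) inverts `φ Z`.
`three`: `sS` (order 729 of 29160, `card_seg`) is a Sylow 3-subgroup of `K`, so `k` is conjugate in `K` to `x ∈ sS`, `x³ = 1`.  If `x ∈ sQ`:
`∃ h < 120, e (243 h) x (e (243 h))⁻¹ ∈ sJ`.  If `x ∉ sQ`, `x ∉ sJ`: `x` is conjugate to `u0 = F2 * Y` or `u0⁻¹` by some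
`F1^i * E2^j * Y^l * a`, `i, j, l < 3`, `a ∈ [1, T, N, N * T]` (fact A).  It remains to show `φ Z ~ φ u0` (and `zinv`): with `m` from `exM`
(`m ∈ N(J)` by `J_le`/`Cj.lin`), `m φ(F2) m⁻¹` commutes with `φ Z` so is `φ k`, `k` commutes with `E1`, so `k ∈ sS`, and `k ∉ sJ` (as
`F2 ∉ sJ`, `m⁻¹ ∈ N(J)`; or: `k` does not commute with `m Y m⁻¹ = E2⁻¹` since `F2` does not commute with `Y`);
`Cj m (F2 E2) (k Y)`, `Cj m (F2 E2⁻¹) (k Y⁻¹)`, and `F2 E2 = e 6084 * E1 * (e 6084)⁻¹`, `F2 E2⁻¹ = e 7308 * E1 * (e 7308)⁻¹` are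
conjugate to `Z` (`h.cv`); one of `k Y`, `k Y⁻¹` is outside `sQ` (both are outside `sJ`, of order 3), so fact A applies to it.
`not_norm`: `P = e 26244 * E1 * (e 26244)⁻¹` is conjugate to `Z`, commutes with `W3` and is not in `sJ`.  Let `g φP g⁻¹ = φ Z`; then
`g φW3 g⁻¹ = φ k`, `k³ = 1`; by `three` and `nW`, `l k l⁻¹ ∈ sJ`; `g' = φ l * g` still maps `φ P` to `φ Z`; `J` centralises `g' φW3 g'⁻¹`,
so `cj(g'⁻¹, J)` centralises `φ W3`, hence normalises `J`; `wc` gives `g'⁻¹ ∈ N(J)`, so `φ P = g'⁻¹ φZ g' ∈ J`. -/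

set_option autoImplicit false
set_option maxRecDepth 100000
set_option synthInstance.maxHeartbeats 400000
set_option synthInstance.maxSize 4000

namespace Cfsg.Agent.HNL

open Subgroup Cfsg Cfsg.Agent.PLocal Cfsg.Agent.PLocal.Amb Cfsg.Agent.Loc3 Cfsg.Agent.Comp
open Cfsg.Agent.G23.Am (one_of_sq mem_of_sq cjk card_seg)
open Cfsg.Agent.X32.TG Cfsg.Agent.Loc3.Pr
open scoped commutatorElement

variable {G : Type*} [Group G] [Finite G] {φ : K →* G}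

theorem Ch.zinv (h : Ch φ) : IsConj (φ Z) (φ Z⁻¹) := by
  obtain ⟨m, a, b, -⟩ := h.exM
  exact (a.comp b).isConj

namespace NJ3

theorem factA : ∀ x ∈ sS, x ^ 3 = 1 → x ∉ sQ → x ∉ sJ → ∃ a ∈ [1, F1, F1⁻¹], ∃ b ∈ [1, E2, E2⁻¹],
    ∃ c ∈ [1, Y, Y⁻¹], ∃ d ∈ [1, T, N, N * T], a * b * c * d * x * (a * b * c * d)⁻¹ = F2 * Y ∨
      a * b * c * d * x⁻¹ * (a * b * c * d)⁻¹ = F2 * Y := bd!

theorem factQ : ∀ x ∈ sQ, ∃ a ∈ (es ((List.range 120).map (Nat.mul 243)) : List K),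
    a * x * a⁻¹ ∈ sJ := bd!

theorem fctK : ∀ k : K, Commute k Z ∧ (Commute k E1 → ¬ Commute k E2⁻¹ →
    (k * Y ∈ sS ∧ k * Y ∉ sQ ∧ k * Y ∉ sJ) ∨ (k * Y⁻¹ ∈ sS ∧ k * Y⁻¹ ∉ sQ ∧ k * Y⁻¹ ∉ sJ)) := bd!

theorem cinv (h : Ch φ) {x : K} (c : IsConj (φ Z) (φ x)) : IsConj (φ Z) (φ x⁻¹) := by
  obtain ⟨g, e⟩ := isConj_iff.1 c
  exact h.zinv.trans (Cj.inv e).isConj

theorem iffA (h : Ch φ) {x : K} (a : x ∈ sS) (b : x ^ 3 = 1) (c : x ∉ sQ) (d : x ∉ sJ) :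
    IsConj (φ Z) (φ x) ↔ IsConj (φ Z) (φ (F2 * Y)) := by
  obtain ⟨_, -, _, -, _, -, _, -, e | e⟩ := factA x a b c d
  · exact ⟨fun r => r.trans (Cj.of e).isConj, fun r => r.trans (Cj.of e).isConj.symm⟩
  · exact ⟨fun r => (cinv h r).trans (Cj.of e).isConj,
      fun r => by simpa using cinv h (r.trans (Cj.of e).isConj.symm)⟩

theorem u0 (h : Ch φ) : IsConj (φ Z) (φ (F2 * Y)) := by
  obtain ⟨m, z, v, a, b⟩ := h.exM
  have d := v.cc (bd! : Commute F2 E1)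
  rw [map_inv, Commute.inv_right_iff] at d
  obtain ⟨k, e1⟩ := h.cz d
  have f : Cj φ m F2 k := e1.symm
  rcases (fctK k).2 (h.cm (e1 ▸ z.cc bd!)) (fun c => absurd
    (h.cm (a := F2) (b := Y) (Eq.trans (Eq.refl _) f.symm ▸ b.symm.cc c)) bd!) with r | r
  · exact (iffA h r.1 (h.pw (f.mul a) bd!) r.2.1 r.2.2).1 ((h.cv.trans (Cj.of
      (bd! : e 6084 * E1 * (e 6084)⁻¹ = F2 * E2)).isConj).trans (f.mul a).isConj)
  · exact (iffA h r.1 (h.pw (f.mul a.inv) bd!) r.2.1 r.2.2).1 ((h.cv.trans (Cj.of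
      (bd! : e 7308 * E1 * (e 7308)⁻¹ = F2 * E2⁻¹)).isConj).trans (f.mul a.inv).isConj)

end NJ3

open NJ3

theorem Ch.three (h : Ch φ) {k : K} (k3 : k ^ 3 = 1) :
    IsConj (φ Z) (φ k) ∨ ∃ l, l * k * l⁻¹ ∈ sJ := by
  obtain ⟨_, ⟨l, rfl⟩, a⟩ := (h.syl.mono (map_le_range φ _) le_top).exists_cj_le (R := zpowers (φ k))
    (isPGroup_iff.2 fun _ ⟨n, e⟩ => ⟨1, by
      rw [← e, pow_one, ← zpow_natCast, ← zpow_mul, mul_comm, zpow_mul, zpow_natCast, ← map_pow, k3]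
      simp⟩) (zpowers_le.2 ⟨k, rfl⟩)
  have b : l * k * l⁻¹ ∈ sS := h.mem.1 (by simpa using a (conj_mem_cj _ (mem_zpowers _)))
  by_cases c : l * k * l⁻¹ ∈ sQ
  · obtain ⟨x, -, e⟩ := factQ _ c
    exact .inr ⟨x * l, by simpa only [mul_assoc, mul_inv_rev] using e⟩
  by_cases d : l * k * l⁻¹ ∈ sJ
  · exact .inr ⟨l, d⟩
  · exact .inl (((iffA h b (by rw [conj_pow, k3]; simp) c d).2 (u0 h)).trans (Cj.of rfl).isConj.symm)

theorem Ch.not_norm (h : Ch φ) : ¬ ∀ g, Commute g (φ W3) → g ∈ 𝐍[sJ.map φ] := fun r => by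
  obtain ⟨g, a⟩ := isConj_iff.1 (h.cv.trans (Cj.of (k := e 26244) (a := E1) rfl).isConj).symm
  change Cj φ g _ Z at a
  obtain ⟨k, e1⟩ := h.cz (a.cc (k := W3) bd!)
  have f : Cj φ g W3 k := e1.symm
  rcases h.three (h.pw f bd!) with c | ⟨l, c⟩
  · exact h.nW (c.trans f.isConj.symm)
  have a' := (a.comp (Cj.of (conj_of_comm (fctK l).1))).symm
  have f' := (f.comp (Cj.of (k := l) rfl)).symm
  have n := h.wc (g := (φ l * g)⁻¹) (cj_le_iff_forall.2 (by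
    rintro _ ⟨j, hj, rfl⟩
    exact r _ (f'.cc (Jcomm j hj _ c))))
  exact absurd (h.mem.1 (Eq.trans (Eq.refl _) a' ▸ (mem_normalizer_iff.1 n _).1
    (mem_map_of_mem φ (bd! : Z ∈ sJ)))) bd!

end Cfsg.Agent.HNL
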