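import Cfsg.Agent.HNL.NJ3
import Cfsg.Agent.L43.Nine

/-! The normaliser of `⟨W3⟩` has shape `(3 × A₉) : 2`. -/

set_option autoImplicit false
set_option maxRecDepth 100000
set_option synthInstance.maxHeartbeats 400000
set_option synthInstance.maxSize 4000

namespace Cfsg.Agent.HNL

open Subgroup Cfsg Cfsg.Agent.PLocal Cfsg.Agent.PLocal.Amb Cfsg.Agent.Loc3 Cfsg.Agent.Comp
open Cfsg.Agent.G23.Am (cjk)
open Cfsg.Agent.L43 (link0 inj0 exists_PH ρ0 z0 PX)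
open Cfsg.Agent.X32.TG Cfsg.Agent.LES Cfsg.Agent.Loc3.Pr Equiv
open scoped commutatorElement

variable {G : Type*} [Group G] [Finite G] {φ : K →* G}

theorem frame_le {U : Subgroup K} (a : W1 ∈ U) (b : W2 ∈ U) (c : W3 ∈ U) (d : W4 ∈ U) : sJ ≤ U :=
  J_le ((bd! : (W3 * W1 * W2⁻¹)⁻¹ = E1) ▸ inv_mem (mul_mem (mul_mem c a) (inv_mem b)))
    ((bd! : (W1 * W2⁻¹ * W3⁻¹)⁻¹ = E2) ▸ inv_mem (mul_mem (mul_mem a (inv_mem b)) (inv_mem c)))
    ((bd! : W1 * W2 * W4 = Z) ▸ mul_mem (mul_mem a b) d)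
    ((bd! : W4 * (W1 * W2)⁻¹ = Y) ▸ mul_mem d (inv_mem (mul_mem a b)))

theorem gen_le {U : Subgroup K} (p : P ∈ U) (d : W4 ∈ U) (t : T ∈ U) (c : W3 ∈ U) {k : K}
    (e : k * W3 * k⁻¹ = W3 ∨ k * W3 * k⁻¹ = W3⁻¹) : k ∈ U := by
  have a : W1 ∈ U := (bd! : P * W4 * P⁻¹ = W1) ▸ mul_mem (mul_mem p d) (inv_mem p)
  have b : W2 ∈ U := (bd! : P * W1 * P⁻¹ = W2) ▸ mul_mem (mul_mem p a) (inv_mem p)
  obtain ⟨u, hu, m⟩ := (bd! : ∀ k : K, k * W3 * k⁻¹ = W3 ∨ k * W3 * k⁻¹ = W3⁻¹ →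
    ∃ u ∈ [1, P, P⁻¹, T, T * P, T * P⁻¹], k * u ∈ sJ) k e
  refine (U.mul_mem_cancel_right (x := u) ?_).1 (frame_le a b c d m)
  simp only [List.mem_cons, List.not_mem_nil, or_false] at hu
  rcases hu with rfl | rfl | rfl | rfl | rfl | rfl
  exacts [one_mem _, p, inv_mem p, t, mul_mem t p, mul_mem t (inv_mem p)]

namespace Ch

variable (h : Ch φ)
include h

theorem nine : ∃ π : G → Perm (Fin 9), PH 𝐍[zpowers (φ W3)] (zpowers (φ W3)) π := by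
  have w3 : φ W3 ^ 3 = 1 := by rw [← map_pow, (bd! : W3 ^ 3 = 1), map_one]
  have w1 := h.ne1 (bd! : W3 ≠ 1)
  obtain ⟨X, _, _, π, q⟩ := exists_PH (zpowers (φ W3))
  have nM := fun g => mem_norm_three (g := g) w3 w1
  have mM : ∀ {k}, k * W3 * k⁻¹ = W3 ∨ k * W3 * k⁻¹ = W3⁻¹ ↔
      φ k ∈ 𝐍[zpowers (φ W3)] := by
    intro k; rw [nM, cjk rfl, ← map_inv, h.inj.eq_iff, h.inj.eq_iff]
  have mW : ∀ {k}, φ k ∈ zpowers (φ W3) → k ∈ [1, W3, W3⁻¹] := by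
    simp [mem_zpowers_three w3, ← map_inv, h.inj.eq_iff, map_eq_one_iff _ h.inj, -map_mul, -mul_inv_rev]
  have cM : ∀ {g}, Commute g (φ W3) → g ∈ 𝐍[zpowers (φ W3)] := fun c =>
    (nM _).2 (Or.inl (conj_of_comm c))
  have JM : sJ.map φ ≤ 𝐍[zpowers (φ W3)] := by
    rintro _ ⟨j, a, rfl⟩
    exact cM ((Jcomm j a W3 bd!).map φ)
  have wJ : zpowers (φ W3) ≤ sJ.map φ := zpowers_le.2 (mem_map_of_mem φ bd!)
  have zM := JM (mem_map_of_mem φ (bd! : Z ∈ sJ))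
  generalize 𝐍[zpowers (φ W3)] = M at *
  have kc : ∀ {g}, g ∈ M → Commute (π g) (π (φ Z)) → Commute g (φ Z) := fun {g} a e => by
    replace e := conj_of_comm e
    rw [← q.map_conj a zM, q.eq_iff (mul_mem (mul_mem a zM) (inv_mem a)) zM] at e
    obtain ⟨j, e1, e2⟩ : ∃ j ∈ [1, W3, W3⁻¹], g * φ Z * g⁻¹ * (φ Z)⁻¹ = φ j := by
      simpa [-map_mul, -mul_inv_rev] using (mem_zpowers_three w3).1 e
    rw [mul_inv_eq_iff_eq_mul, ← map_mul] at e2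
    obtain rfl := ((bd! : ∀ j ∈ [1, W3, W3⁻¹], j = 1 ∨ ∃ b ∈ es [6, 732], b * W3 * b⁻¹ = j * Z) j
      e1).resolve_right fun ⟨b, _, f⟩ => h.nW ((isConj_iff.2 ⟨g, e2⟩).trans (Cj.of f).isConj.symm)
    exact comm_of_conj (by rw [e2, one_mul])
  obtain ⟨f0, e0⟩ := link_hom link0 (sat_tup (l := [P, P⁻¹, W4, W4⁻¹, T]) le_rfl bd! bd!)
  have e1 := fun i => show f0 (tup _ i) = tup _ i from by simpa only [BN.ev_cons, BN.ev_nil, mul_one] using e0 [i]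
  have m0 : ∀ x, φ (f0 x) ∈ M := fun x => X32.range_le_of_gen (φ := φ.comp f0) link0.top (fun k hk => by
    rw [MonoidHom.comp_apply, e1, ← mM]
    exact (bd! : ∀ k ∈ [P, P⁻¹, W4, W4⁻¹, T], k * W3 * k⁻¹ = W3 ∨
      k * W3 * k⁻¹ = W3⁻¹) _ (by
        rw [tup, List.getD_eq_getElem _ _ (by exact hk)]; exact List.getElem_mem _)) x
  let f := q.hom.comp ((φ.comp f0).codRestrict M m0)
  have ef : ∀ x, f x = π (φ (f0 x)) := fun _ => rfl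
  have fz : f z0 = π (φ Z) := by
    rw [ef, (by simp only [tup, BN.ev_cons, BN.ev_nil, List.getD_cons_succ, List.getD_cons_zero]; exact pd! :
      z0 = BN.ev (tup [ρ0, ρ0⁻¹, L43.a0, L43.a0⁻¹, L43.s0]) [2, 0, 2, 1, 1, 2, 0]), e0]
    exact congrArg (π ∘ φ) bd!
  have z1 : π (φ Z) ≠ 1 := fun e => absurd (mW ((q.ker zM).1 e)) bd!
  have z3 : π (φ Z) ^ 3 = 1 := by rw [← q.map_pow zM, h.z3, q.map_one]
  have e := (MulEquiv.ofBijective (f.codRestrict (centralizer {π (φ Z)}) fun x => mem_cent.2 (fz ▸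
    Commute.map (Subtype.ext (mem_cent.1 x.2).eq : Commute x z0) f))
    ⟨(f.injective_codRestrict _ _).2 (inj0 (fz ▸ z1)), fun ⟨x, a⟩ => by
      obtain ⟨g, b, rfl⟩ := q.surj x
      have d := kc b (mem_cent.1 a)
      obtain ⟨k, rfl⟩ := h.cz d
      have l : ∀ i : ℕ, φ (f0 (tup [ρ0, ρ0⁻¹, L43.a0, L43.a0⁻¹, L43.s0] i)) ∈ (f.range.comap q.hom).map M.subtype :=
        fun i => ⟨⟨_, m0 _⟩, ⟨_, rfl⟩, rfl⟩
      have l' : φ W3 ∈ (f.range.comap q.hom).map M.subtype :=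
        ⟨⟨_, q.le (mem_zpowers _)⟩, ⟨1, (map_one f).trans (q.of_mem (mem_zpowers _)).symm⟩, rfl⟩
      obtain ⟨_, ⟨x, e⟩, e'⟩ : φ k ∈ (f.range.comap q.hom).map M.subtype := by
        simp only [e1] at l
        refine gen_le (U := ((f.range.comap q.hom).map M.subtype).comap φ) (l 0) (l 2) (l 4) l' (mM.2 b)
      exact ⟨x, Subtype.ext (e.trans (congrArg π e'))⟩⟩).symm
  have mJ : ∀ {x}, x ∈ (q.hom.comp (inclusion JM)).range ↔ ∃ j ∈ sJ, π (φ j) = x :=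
    ⟨fun ⟨⟨_, j, a, rfl⟩, b⟩ => ⟨j, a, b⟩, fun ⟨j, a, b⟩ => ⟨⟨_, j, a, rfl⟩, b⟩⟩
  have cL : Nat.card (zpowers (φ W3)) = 3 := by rw [Nat.card_zpowers, orderOf_three w3 w1]
  have jj : ∀ i ∈ sJ, ∀ j ∈ sJ, Commute (π (φ i)) (π (φ j)) := fun i a j b =>
    (Commute.map (Subtype.ext ((Jcomm i a j b).map φ).eq : Commute (⟨_, JM (mem_map_of_mem φ a)⟩ : M)
        ⟨_, JM (mem_map_of_mem φ b)⟩) q.hom :)
  refine (S3343.result _ (orderOf_three z3 z1) e (q.hom.comp (inclusion JM)).range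
    (fun x b => by obtain ⟨j, a, rfl⟩ := mJ.1 b; exact mem_cent.2 (jj j a Z bd!))
    ⟨⟨fun ⟨x, a⟩ ⟨y, b⟩ => Subtype.ext (by
      obtain ⟨i, d, rfl⟩ := mJ.1 a; obtain ⟨j, e, rfl⟩ := mJ.1 b; exact (jj i d j e).eq)⟩⟩
    (fun x b => by
      obtain ⟨j, a, rfl⟩ := mJ.1 b
      rw [← q.map_pow (JM (mem_map_of_mem φ a)), ← map_pow, Jcube j a, map_one,
        q.map_one])
    (by
      have := (q.hom.comp (inclusion JM)).ker.card_mul_index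
      rw [index_ker, show (q.hom.comp (inclusion JM)).ker = (zpowers _).subgroupOf _ from
        Subgroup.ext fun x => q.ker (JM x.2), Nat.card_congr (subgroupOfEquivOfLe wJ).toEquiv, cL, h.cd,
        card_sJ] at this
      omega) (fun U cU nU => ?_)).elim (fun n => (h.not_norm fun g c => ?_).elim)
      fun ⟨ι⟩ => ⟨_, q.equiv ι⟩
  rotate_left
  · refine mem_normalizer_fintype ?_
    rintro _ ⟨j, a, rfl⟩
    have b := JM (mem_map_of_mem φ a)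
    obtain ⟨i, d, e⟩ := mJ.1 (n.conj_mem _ (mJ.2 ⟨j, a, rfl⟩) (π g))
    rw [← q.map_conj (cM c) b, eq_comm, q.eq_iff (mul_mem (mul_mem (cM c) b) (inv_mem (cM c)))
      (JM (mem_map_of_mem φ d))] at e
    exact (mul_mem_cancel_right (inv_mem (mem_map_of_mem φ d))).1 (wJ e)
  have mU : ∀ {g}, g ∈ (U.comap q.hom).map M.subtype ↔ g ∈ M ∧ π g ∈ U :=
    ⟨fun ⟨k, a, b⟩ => b ▸ ⟨k.2, a⟩, fun ⟨a, b⟩ => ⟨⟨_, a⟩, b, rfl⟩⟩
  have n9 : ¬ 9 ∣ Nat.card ((U.comap q.hom).map M.subtype ⊓ centralizer {φ W3} :) := fun d => by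
    replace d := d.trans (card_dvd_of_le inf_le_left)
    rw [card_subtype, Grp.card_comap_of_surjective _ q.hom_surj, show q.hom.ker = (zpowers _).subgroupOf _ from
      Subgroup.ext fun x => q.ker x.2, Nat.card_congr (subgroupOfEquivOfLe q.le).toEquiv, cL] at d
    have := (Nat.prime_three.coprime_iff_not_dvd).1 cU.symm
    omega
  have nj : ∀ {j g}, j ∈ sJ → g ∈ M → π g ∈ U → π (φ j * g * (φ j)⁻¹) ∈ U := fun {j g} a b d => by
    rw [q.map_conj (JM (mem_map_of_mem φ a)) b]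
    exact (nU _ (mJ.2 ⟨j, a, rfl⟩)).le (mem_map_of_mem _ d)
  have jw : ∀ {j}, j ∈ sJ → Commute (φ j) (φ W3) := fun a =>
    (Jcomm _ a W3 bd!).map φ
  have k1 : ∀ {g}, g ∈ M → π g ∈ U → Commute g (φ W3) → π g = 1 := fun a b d => by
    obtain ⟨o, ho, t, ht, e⟩ := burn_three w3 w1 (mem_inf.2 ⟨mU.2 ⟨q.le (mem_zpowers _),
      q.of_mem (mem_zpowers _) ▸ one_mem U⟩, mem_cent.2 (Commute.refl _)⟩) n9 (fun g hg e => ne_inv3 w3 w1
        ((conj_of_comm (mem_cent.1 hg.2)).symm.trans e)) ⟨mU.2 ⟨a, b⟩, mem_cent.2 d⟩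
    have n : ∀ j ∈ sJ, φ j ∈ 𝐍[(U.comap q.hom).map M.subtype ⊓ centralizer {φ W3}] := fun j a =>
      mem_normalizer_fintype fun x b => ⟨mU.2 ⟨mul_mem (mul_mem (JM (mem_map_of_mem φ a)) (mU.1 b.1).1)
        (inv_mem (JM (mem_map_of_mem φ a))), nj a (mU.1 b.1).1 (mU.1 b.1).2⟩,
        mem_cent.2 (((jw a).mul_left (mem_cent.1 b.2)).mul_left (jw a).inv_left)⟩
    rw [h.sig _ (coprime_Op' 3 _) (((closure_le _).2 (Set.pair_subset (n Z bd!) (n E1 bd!))).trans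
      (norm_le_norm_Op' 3 _)), mem_bot] at ho
    rw [e, ho, one_mul, q.of_mem ht]
  refine eq_bot_iff.2 fun x hx => ?_
  obtain ⟨g, b, rfl⟩ := q.surj x
  have k2 : ∀ j ∈ sJ, π (φ j * g * (φ j)⁻¹ * g⁻¹) = 1 := fun j a => by
    have d := JM (mem_map_of_mem φ a)
    have d' := mul_mem (mul_mem d b) (inv_mem d)
    refine k1 (mul_mem d' (inv_mem b)) (by
      rw [q.mul d' (inv_mem b), q.map_inv b]; exact mul_mem (nj a b hx) (inv_mem hx)) ?_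
    have e : Commute (φ j)⁻¹ (g⁻¹ * φ W3 * g) := by
      rcases (nM _).1 (inv_mem b) with e | e <;> rw [inv_inv] at e <;> rw [e]
      exacts [(jw a).inv_left, (jw a).inv_inv]
    simpa [mul_assoc] using (jw a).mul_left (by simpa [mul_assoc] using Commute.cj e g :
      Commute (g * (φ j)⁻¹ * g⁻¹) (φ W3))
  have k3 : ∀ j ∈ sJ, Commute (π (φ j)) (π g) := fun j a => by
    have d := JM (mem_map_of_mem φ a)
    have e := k2 j a
    rwa [q.mul (mul_mem (mul_mem d b) (inv_mem d)) (inv_mem b), q.map_conj d b, q.map_inv b,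
      ← commutatorElement_def, commutatorElement_eq_one_iff_commute] at e
  have d := kc b (k3 Z bd!).symm
  obtain ⟨k, rfl⟩ := h.cz d
  have k4 : ∀ j ∈ sJ, ⁅j, k⁆ ∈ [1, W3, W3⁻¹] := fun j a => by
    have d := JM (mem_map_of_mem φ a)
    exact mW (map_commutatorElement φ j k ▸ (q.ker (mul_mem (mul_mem (mul_mem d b) (inv_mem d))
      (inv_mem b))).1 (k2 j a))
  exact k1 b hx (((bd! : ∀ k, ⁅E1, k⁆ ∈ [1, W3, W3⁻¹] → ⁅Y, k⁆ ∈ [1, W3, W3⁻¹] →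
    Commute k W3) k (k4 E1 bd!) (k4 Y bd!)).map φ)

end Ch

end Cfsg.Agent.HNL
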