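import Cfsg.Agent.HNL.A12
import Cfsg.Agent.HNL.Defs

/-! The extraspecial group of order `2 ^ 9`. -/

set_option autoImplicit false
set_option synthInstance.maxSize 100000
set_option synthInstance.maxHeartbeats 400000

namespace Cfsg.Agent.HNL

open Subgroup Equiv Cfsg.Agent.Comp Cfsg.Agent.Loc3 Cfsg.Agent.TT

variable {G : Type*} [Group G] {α : A12 →* G} {g : G}

/-- the four-group `⟨v1, v2⟩` -/
noncomputable def vv (j : ℕ) : A12 :=
  pm (getL 0 [0xba9876543210, 0xab8976543210, 0x98ba76543210, 0x89ab76543210] j)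

instance pv_vv (j : ℕ) : PV (vv j).1
    (pmc (getL 0 [0xba9876543210, 0xab8976543210, 0x98ba76543210, 0x89ab76543210] j)) := pvPm _

theorem rho_all {p : A12 → Prop} (h : ∀ i < 16, p (rho i)) (i : ℕ) : p (rho i) :=
  rho_mod i ▸ h _ (Nat.mod_lt _ (by norm_num))

theorem rho_t (i : ℕ) : Commute (rho i) tt := rho_all (p := fun x => Commute x tt) pd! i

theorem rel3 {p q y : G} (hy : Commute y q)
    (hP : Commute (p * (y * p * y⁻¹) * (y * y * p * (y * y)⁻¹)) q) :
    p * (y * p * y⁻¹ * (y * y * (p * q * p⁻¹ * q⁻¹) * (y * y)⁻¹) * (y * p * y⁻¹)⁻¹ *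
      (y * (p * q * p⁻¹ * q⁻¹) * y⁻¹)) * p⁻¹ * (p * q * p⁻¹ * q⁻¹) = 1 := by
  have e : ∀ {y}, Commute y q → y * (p * q * p⁻¹ * q⁻¹) * y⁻¹ =
      y * p * y⁻¹ * q * (y * p * y⁻¹)⁻¹ * q⁻¹ := fun {y} c => by
    conv_rhs => rw [← c.mul_inv_cancel]
    group
  rw [e hy, e (hy.mul_left hy), ← mul_inv_cancel q]
  conv_rhs => lhs; rw [← hP.mul_inv_cancel]
  group

namespace AE

variable (h : AE α g)
include h

theorem thv : ∀ j < 4, Th α g (rho j) (vv j) := by
  intro j a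
  interval_cases j
  exacts [Th.one.congr pd!, h.ga1.congr pd!, h.ga2.congr pd!, (h.ga1.mul h.ga2).congr pd!]

theorem memU (cV : ∀ k, Commute k (α v1) → Commute k (α v2) → k ∈ α.range) {k : G}
    (c1 : Commute k (α v1)) (c2 : Commute k (α v2)) (c3 : Commute k (α a1)) (c4 : Commute k (α a2))
    (c5 : Commute k (α tt)) : ∃ i < 4, ∃ j < 4, ∃ e ∈ [1, tt], k = α (rho i * vv j * e) := by
  obtain ⟨u, rfl⟩ := cV k c1 c2
  rw [h.comm] at c1 c2 c3 c4 c5
  obtain ⟨i, hi, j, hj, e, he, rfl⟩ := (pd! : ∀ u : A12, Commute u (v1 * a1) ∧ Commute u (v2 * a2) ∧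
    Commute u tt → Commute u v1 → Commute u v2 → ∃ i < 4, ∃ j < 4, ∃ e ∈ [1, tt],
      u = rho i * vv j * e) u ⟨c1.mul_right c3, c2.mul_right c4, c5⟩ c1 c2
  exact ⟨i, hi, j, hj, e, he, rfl⟩

theorem cq {x y : A12} (a : Th α g x y) {r : A12} (c : Commute r x) :
    Commute (g * α r * g⁻¹) (α y) := a ▸ (c.map α).conj g

theorem beta (cV : ∀ k, Commute k (α v1) → Commute k (α v2) → k ∈ α.range) (i j : ℕ) :
    ∃ k < 4, ∃ e ∈ [1, tt], (k = 0 → e = 1) ∧ α (rho i) * (g * α (rho j) * g⁻¹) * (α (rho i))⁻¹ *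
      (g * α (rho j) * g⁻¹)⁻¹ = α (rho k * e) := by
  have tb := rho_all (p := fun r => Commute r v1 ∧ Commute r v2 ∧ Commute r w4 ∧
    (∀ a ∈ [a1, a2], r⁻¹ * a * r = a ∨ r⁻¹ * a * r = a * tt) ∧
    (r * (yy * r * yy⁻¹) * (yy * yy * r * (yy * yy)⁻¹) = 1 ∨
      r * (yy * r * yy⁻¹) * (yy * yy * r * (yy * yy)⁻¹) = tt)) pd!
  have qt := h.cq h.gtt (rho_t j)
  have pt := (rho_t i).map α
  have ka : ∀ {v a}, Th α g v a → Commute (rho j) v → a ∈ [a1, a2] → Commute (α (rho i) *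
      (g * α (rho j) * g⁻¹) * (α (rho i))⁻¹ * (g * α (rho j) * g⁻¹)⁻¹) (α a) := fun {v a} t c m => by
    have c1 := h.cq t c
    refine Commute.mul_left ?_ c1.inv_left
    have : Commute (g * α (rho j) * g⁻¹) (α ((rho i)⁻¹ * a * rho i)) := by
      rcases (tb i).2.2.2.1 a m with e | e <;> rw [e]
      exacts [c1, map_mul α a tt ▸ c1.mul_right qt]
    simpa [mul_assoc] using this.conj (α (rho i))
  have kv : ∀ {v a}, Th α g a v → Commute (rho i) v → a ∈ [a1, a2] → Commute (α (rho i) *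
      (g * α (rho j) * g⁻¹) * (α (rho i))⁻¹ * (g * α (rho j) * g⁻¹)⁻¹) (α v) := fun {v a} t c m => by
    have c1 := c.map α
    rw [mul_assoc, mul_assoc]
    refine c1.mul_left ?_
    have : Commute (α (rho i)) (g * α ((rho j)⁻¹ * a * rho j) * g⁻¹) := by
      rcases (tb j).2.2.2.1 a m with e | e <;> rw [e]
      · rwa [t]
      · rw [t.mul h.gtt, map_mul]; exact c1.mul_right pt
    rw [← t]
    simpa [mul_assoc] using this.inv_left.conj (g * α (rho j) * g⁻¹)
  obtain ⟨k, hk, l, hl, e, he, a⟩ := h.memU cV (kv h.ga1 (tb i).1 (by simp)) (kv h.ga2 (tb i).2.1 (by simp))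
    (ka h.gv (tb j).1 (by simp)) (ka h.gv2 (tb j).2.1 (by simp))
    (((pt.mul_left qt).mul_left pt.inv_left).mul_left qt.inv_left)
  have r := rel3 (p := α (rho i)) (h.cq h.g4 (tb j).2.2.1).symm (by
    simp only [← map_mul, ← map_inv]
    rcases (tb i).2.2.2.2 with e | e <;> rw [e]
    exacts [by simp, qt.symm])
  rw [a] at r
  simp only [← map_mul, ← map_inv] at r
  have := rho_all (p := fun r => ∀ k < 4, ∀ l < 4, ∀ e ∈ [1, tt], r * (yy * r * yy⁻¹ * (yy * yy *
    (rho k * vv l * e) * (yy * yy)⁻¹) * (yy * r * yy⁻¹)⁻¹ * (yy * (rho k * vv l * e) * yy⁻¹)) * r⁻¹ *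
    (rho k * vv l * e) = 1 → vv l = 1 ∧ (k = 0 → e = 1)) pd! i k hk l hl e he
    (h.inj (r.trans (map_one α).symm))
  exact ⟨k, hk, e, he, this.2, by rw [a, this.1, mul_one]⟩

end AE

/-- `t = α tt`, `U = ⟨tt,v1,v2,a1,a2⟩` (elementary, 32 elements).  (1) An element commuting with `α` of
`v1,v2,a1,a2,tt` is `α u`, `u ∈ U` (`cV`; `pd!` pruned by the triple `v1 * a1, v2 * a2, tt`; write `u = rho i * v * tt^e`, `i < 4`,
`v ∈ [1,v1,v2,v1*v2]`).  (2) `p = α (rho i)` commutes with `v1,v2,t` and maps `a_k` to `a_k` or `a_k t`; `q = g α(rho j) g⁻¹`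
commutes with `a1,a2,t` (`gv, gv2, gtt`) and maps `v_k` to `v_k` or `v_k t` (`ga1, ga2`).  Hence `β(p,q) = p q p⁻¹ q⁻¹`
commutes with the five generators, `β ∈ α U`.  (3) `y = α yy` commutes with `q` (`w4` commutes with `rho j`, `g4`), and
`p · y p y⁻¹ · y² p y⁻² ∈ {1,t}` (`pd!`).  With `β(p p',q) = p β(p',q) p⁻¹ β(p,q)`, `β(y p y⁻¹,q) = y β y⁻¹`, `β = α u`:
`r (r' (y² u y⁻²) r'⁻¹ · y u y⁻¹) r⁻¹ · u = 1` in `A12` for `r = rho i`, `r' = yy r yy⁻¹`; by `pd!` over `i < 16`, `u ∈ U` this forces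
`u ∈ ⟨a1,a2,tt⟩`.  (4) `g β(rho i, rho j) g⁻¹ = β(rho j, rho i)⁻¹` (`g * g = t` commutes with `rho j`), so `u` also lies in
`⟨v1,v2,tt⟩` (image of `⟨a1,a2,tt⟩` under `Th`), `u ∈ {1,tt}`, and then the relation of (3) reads `u³ = 1`. -/
theorem AE.cm (h : AE α g) (cV : ∀ k, Commute k (α v1) → Commute k (α v2) → k ∈ α.range)
    (i j : ℕ) : Commute (α (rho i)) (g * α (rho j) * g⁻¹) := by
  obtain ⟨k, hk, e, he, a1, a2⟩ := h.beta cV i j
  obtain ⟨k', hk', e', he', -, a3⟩ := h.beta cV j i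
  have te : Th α g e e := by
    rcases List.mem_pair.1 he with rfl | rfl
    exacts [.one, h.gtt]
  have e1 : g * (g * α (rho j) * g⁻¹) * g⁻¹ = α (rho j) := by
    rw [show g * (g * α (rho j) * g⁻¹) * g⁻¹ = g * g * α (rho j) * (g * g)⁻¹ by group, h.g2,
      ((rho_t j).map α).symm.mul_inv_cancel]
  have e2 : α (vv k * e * (rho k' * e')) = α 1 := by
    rw [map_mul, ← (h.thv k hk).mul te, ← a2, ← a3, map_one]
    generalize g * α (rho j) * g⁻¹ = q at e1 ⊢
    rw [← e1]; group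
  obtain rfl := (pd! : ∀ k < 4, ∀ k' < 4, ∀ e ∈ [1, tt], ∀ e' ∈ [1, tt],
    vv k * e * (rho k' * e') = 1 → k = 0) k hk k' hk' e he e' he' (h.inj e2)
  rw [a1 rfl, (pd! : rho 0 * 1 = 1), map_one, mul_inv_eq_one, mul_inv_eq_iff_eq_mul] at a2
  exact a2

/-- `R = {r | ∃ i < 256, Eqv t r (ψ i)}`.  Tables by `pd!` over `i, j < 16`: `rho (i ^^^ j) = rho i * rho j` or
times `tt`, `rho i * rho i = 1 ↔ qf.testBit i = false` (else `= tt`), `rho i` commutes with `tt`, commutators in `{1,tt}`, and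
`rho i * tt^e` commuting with all `rho j` forces `i = 0`.  Use `rho_mod`, `(i ^^^ j) / 16 = i / 16 ^^^ j / 16`,
`(i ^^^ j) % 16 = ..` (`decide` over 256² or `Nat.xor_div_two_pow`), `qf i = xor (qf (i % 16)) (qf (i / 16))` for `i < 256`, and `cm`.
`inj`: reduce by `add` to `ψ k ∈ {1,t}`; then `α (rho k)` is the inverse of `g α(rho (k/16)) g⁻¹` mod `t`, so commutes with all
`α (rho j)`, `k % 16 = 0`, then `k / 16 = 0`.  `cent`: an element centralising `R ∋ ψ 16, ψ 32, ψ 1, ψ 2, t` is `α u`, `u ∈ U` by (1);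
it commutes with `rho 4, rho 8`, so `u ∈ ⟨v1,v2,tt⟩`, `u = Th u'` with `u' ∈ ⟨a1,a2,tt⟩` commuting with `rho 4, rho 8` (from
`ψ 64, ψ 128`), so `u' ∈ {1,tt}`.  `xs.cent` follows from `cent`. -/
theorem AE.rd0 (h : AE α g) (cV : ∀ k, Commute k (α v1) → Commute k (α v2) → k ∈ α.range) :
    ∃ R, RD0 (α tt) R (psi α g) := by
  have t2 : α tt * α tt = 1 := by rw [← map_mul, (pd! : tt * tt = 1), map_one]
  have t1 : α tt ≠ 1 := fun e => (pd! : tt ≠ 1) (h.inj (e.trans (map_one α).symm))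
  have pt := fun i => (rho_t i).map α
  have qt := fun i => h.cq h.gtt (rho_t i)
  have ct : ∀ i, Commute (psi α g i) (α tt) := fun i => (pt _).mul_left (qt _)
  have mul : ∀ {a a' b b'}, Commute b' (α tt) → Eqv (α tt) a a' → Eqv (α tt) b b' →
      Eqv (α tt) (a * b) (a' * b') := fun c e e' => (e'.mul_left _).trans t2 (e.mul_right c.eq)
  have f1 : ∀ i j, Eqv (α tt) (α (rho (i ^^^ j))) (α (rho i) * α (rho j)) := fun i j => by
    rw [← rho_mod, show (i ^^^ j) % 16 = i % 16 ^^^ j % 16 from Nat.xor_mod_two_pow (n := 4),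
      ← rho_mod i, ← rho_mod j]
    simpa only [Eqv, ← map_mul, h.inj.eq_iff] using (pd! : ∀ i < 16, ∀ j < 16,
      rho (i ^^^ j) = rho i * rho j ∨ rho (i ^^^ j) = rho i * rho j * tt) _
      (Nat.mod_lt _ (by norm_num)) _ (Nat.mod_lt _ (by norm_num))
  have add : ∀ i j, Eqv (α tt) (psi α g (i ^^^ j)) (psi α g i * psi α g j) := fun i j => by
    rw [psi, psi, psi, (h.cm cV j (i / 16)).symm.mul_mul_mul_comm,
      show (i ^^^ j) / 16 = i / 16 ^^^ j / 16 from Nat.xor_div_two_pow (n := 4)]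
    exact mul ((qt _).mul_left (qt _)) (f1 i j) (by rw [conj_mul]; exact (f1 _ _).conj h.gt.eq)
  have p0 : psi α g 0 = 1 := by rw [psi, (pd! : rho 0 = 1)]; simp
  have s1 : ∀ i, Eqv (α tt) (psi α g i * psi α g i) 1 := fun i => by
    have := (add i i).symm t2
    rwa [Nat.xor_self, p0] at this
  have lo : ∀ i < 16, psi α g i = α (rho i) := fun i a => by
    rw [psi, Nat.div_eq_of_lt a, (pd! : rho 0 = 1)]; simp
  have hi : ∀ i, psi α g (16 * i) = g * α (rho i) * g⁻¹ := fun i => by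
    rw [psi, ← rho_mod, Nat.mul_mod_right, (pd! : rho 0 = 1), Nat.mul_div_cancel_left _ (by norm_num)]
    simp
  let R : Subgroup G :=
    { carrier := {r | ∃ i < 256, Eqv (α tt) r (psi α g i)}
      one_mem' := ⟨0, by norm_num, .inl p0.symm⟩
      mul_mem' := fun ⟨i, a, e⟩ ⟨j, b, e'⟩ =>
        ⟨_, Mon.HN.xor_lt a b, (mul (ct j) e e').trans t2 ((add i j).symm t2)⟩
      inv_mem' := fun {x} ⟨i, a, e⟩ => ⟨i, a, by
        have c : Commute x⁻¹ (α tt) := by
          rcases e with rfl | rfl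
          exacts [(ct i).inv_left, ((ct i).mul_left (.refl _)).inv_left]
        have := ((mul (ct i) e (.refl _ _)).trans t2 (s1 i)).mul_left x⁻¹
        rw [inv_mul_cancel_left, mul_one] at this
        exact this.symm t2⟩ }
  have m : ∀ i < 256, psi α g i ∈ R := fun i a => ⟨i, a, .refl _ _⟩
  have mt : α tt ∈ R := ⟨0, by norm_num, .inr (by rw [p0, one_mul])⟩
  have cent : ∀ k, (∀ r ∈ R, Commute k r) → k = 1 ∨ k = α tt := fun k c => by
    have c1 := fun i a => lo i a ▸ c _ (m i (by omega))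
    have c2 := fun i (a : i < 16) => hi i ▸ c _ (m (16 * i) (by omega))
    obtain ⟨i, a, j, b, e, he, rfl⟩ := h.memU cV (h.psi16 ▸ c _ (m 16 (by norm_num)))
      (h.psi32 ▸ c _ (m 32 (by norm_num))) ((pd! : rho 1 = a1) ▸ c1 1 (by norm_num))
      ((pd! : rho 2 = a2) ▸ c1 2 (by norm_num)) (c _ mt)
    have tb := (pd! : ∀ i < 4, ∀ j < 4, ∀ e ∈ [1, tt], Commute (rho i * vv j * e) (rho 4) →
      Commute (rho i * vv j * e) (rho 8) → rho i = 1)
    have te : Th α g e e := by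
      rcases List.mem_pair.1 he with rfl | rfl
      exacts [.one, h.gtt]
    rw [tb i a j b e he (h.comm.1 (c1 4 (by norm_num))) (h.comm.1 (c1 8 (by norm_num))), one_mul,
      ← (h.thv j b).mul te] at c2 ⊢
    simp only [Commute.conj_iff, h.comm] at c2
    have := tb j b 0 (by norm_num) e he
    rw [(pd! : vv 0 = 1), mul_one] at this
    rw [this (c2 4 (by norm_num)) (c2 8 (by norm_num)), one_mul, te]
    rcases List.mem_pair.1 he with rfl | rfl
    exacts [.inl (map_one α), .inr rfl]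
  refine ⟨R, ⟨mt, t1, t2, ?_, ?_, fun x _ c => cent x c, _, m 1 (by norm_num), ?_⟩, fun i => ?_,
    fun i _ j _ => add i j, fun r a => a, fun i a j b e => ?_, fun i a => ?_, cent⟩
  · rintro _ ⟨i, -, rfl | rfl⟩
    exacts [ct i, (ct i).mul_left (.refl _)]
  · rintro x ⟨i, -, e⟩ y ⟨j, -, e'⟩
    exact (((mul (ct j) e e').trans t2 ((add i j).symm t2)).trans t2 (Nat.xor_comm i j ▸ add j i)).trans
      t2 ((mul (ct i) e' e).symm t2)
  · rw [lo 1 (by norm_num), ← map_one α, h.inj.ne_iff, h.inj.ne_iff]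
    exact pd!
  · refine ⟨i % 256, Nat.mod_lt _ (by norm_num), .inl ?_⟩
    rw [psi, psi, ← rho_mod i, ← rho_mod (i / 16), ← rho_mod (i % 256), ← rho_mod (i % 256 / 16),
      show i % 256 % 16 = i % 16 by omega, show i % 256 / 16 % 16 = i / 16 % 16 by omega]
  · have e1 := LES.eqv_one_iff.1 (((add i j).trans t2 (mul (ct j) e (.refl _ _))).trans t2 (s1 j))
    have := Mon.HN.xor_lt a b
    rw [← Nat.xor_eq_zero_iff]
    generalize i ^^^ j = k at e1 this
    have tb : ∀ k, (∀ j, Commute (α (rho k)) (α (rho j))) → k % 16 = 0 := fun k c =>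
      (pd! : ∀ i < 16, Commute (rho i) (rho 1) → Commute (rho i) (rho 2) → Commute (rho i) (rho 4) →
        Commute (rho i) (rho 8) → i = 0) _ (Nat.mod_lt _ (by norm_num))
        (by rw [rho_mod]; exact h.comm.1 (c _)) (by rw [rho_mod]; exact h.comm.1 (c _))
        (by rw [rho_mod]; exact h.comm.1 (c _)) (by rw [rho_mod]; exact h.comm.1 (c _))
    have c : ∀ j, Commute (psi α g k) (α (rho j)) := fun j => by
      rcases e1 with e | e <;> rw [e]
      exacts [.one_left _, (pt j).symm]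
    have k1 := tb k fun j => by
      simpa only [psi, mul_inv_cancel_right] using (c j).mul_left (h.cm cV j (k / 16)).symm.inv_left
    rw [psi, ← rho_mod, k1, (pd! : rho 0 = 1), map_one, one_mul, conj_eq_one_iff, ← h.gtt,
      mul_left_inj, mul_right_inj] at e1
    have k2 := tb (k / 16) fun j => by
      rcases e1 with e | e <;> rw [e]
      exacts [.one_left _, (pt j).symm]
    omega
  · have tb : ∀ i, rho i * rho i = if qf.testBit (i % 16) then tt else 1 := fun i => by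
      have := (pd! : ∀ i < 16, (qf.testBit i = true → rho i * rho i = tt) ∧
        (qf.testBit i = false → rho i * rho i = 1)) _ (Nat.mod_lt i (by norm_num))
      rw [rho_mod] at this
      split_ifs with c
      exacts [this.1 c, this.2 (by simpa using c)]
    rw [psi, (h.cm cV i (i / 16)).symm.mul_mul_mul_comm, conj_mul, ← map_mul, ← map_mul, tb, tb,
      (by decide +kernel : ∀ i < 256, qf.testBit i =
        xor (qf.testBit (i % 16)) (qf.testBit (i / 16 % 16))) i a]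
    have := h.gtt
    rw [Th] at this
    cases qf.testBit (i % 16) <;> cases qf.testBit (i / 16 % 16) <;> simp [this, t1, t2]

end Cfsg.Agent.HNL
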