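import Cfsg.Agent.HNL.Defs
import Cfsg.Agent.PLocal.AmbSyl

/-! Involutions outside the extraspecial group, weak closure. -/

set_option autoImplicit false
set_option maxRecDepth 100000
set_option synthInstance.maxHeartbeats 400000
set_option synthInstance.maxSize 4000

namespace Cfsg.Agent.HNL

open Subgroup Cfsg.Agent.TT Cfsg.Agent.LES Cfsg.Agent.X32 Cfsg.Agent.X32.TG Cfsg.Agent.Loc3.Pr
open Cfsg.Agent.Mon.HN (comb comb_lt xor_lt)

variable {G : Type*} [Group G] [Finite G] {t : G} {R : Subgroup G} {ψ : ℕ → G}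

theorem pair2 {a b : ℕ} (ha : a < 256) (hb : b < 256) (h1 : dA.testBit a = true)
    (h2 : dA.testBit b = true) (h3 : dA.testBit (a ^^^ b) = true) :
    ∃ x, ac x 16 = a ∧ ac x 32 = b := by
  obtain ⟨b1, b2, b3⟩ := (excl a ha).1 h1
  rcases orbs a ha with c | ⟨-, y, rfl⟩ | ⟨c, -⟩ | ⟨c, -⟩
  · exact absurd c b1
  · have l := ac_lt y⁻¹ hb
    have c1 := (ac_bits y⁻¹ hb).2.1.trans h2
    have c2 := (ac_bits y⁻¹ (xor_lt ha hb)).2.1.trans h3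
    rw [(ad_ac _).add _ ha _ hb, ac_inv y (by norm_num), Nat.xor_comm] at c2
    obtain ⟨x, e, f⟩ := pairs _ l c1 c2 (by
      rw [bq, ((excl _ l).1 c1).2.1, ((excl _ (xor_lt l (by norm_num))).1 c2).2.1]; decide)
    exact ⟨y * x, by rw [ac_mul _ _ (by norm_num), e], by rw [ac_mul _ _ (by norm_num), f, ac_inv' y hb]⟩
  · simp [c] at b3
  · simp [c] at b2

theorem RD0.free' (d : RD0 t R ψ) {u s : G} {x : Wr} (hx : x ∈ [xG, xS, xE]) (a : Ac t ψ u x)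
    (b : Ac t ψ s x) (e : u * u = 1 ∨ u * u = t) (e' : s * s = 1 ∨ s * s = t) :
    ∃ q ∈ R, Eqv t u (q * s * q⁻¹) := by
  obtain ⟨v, hv, c⟩ := d.onto _ (d.coset a b)
  have f := d.add' hv (ac_lt x hv) c (d.af_code b hv c)
  have g : Eqv t (u * s⁻¹ * (s * (u * s⁻¹) * s⁻¹)) 1 := by
    rw [show u * s⁻¹ * (s * (u * s⁻¹) * s⁻¹) = u * u * (s * s)⁻¹ by group, eqv_one_iff]
    rcases e with e | e <;> rcases e' with e' | e' <;> simp [e, e', d.xs.z_inv, d.tt]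
  obtain ⟨m, hm, k⟩ := free x hx v hv (Nat.xor_eq_zero_iff.1 (d.inj' (xor_lt hv (ac_lt x hv))
    (by norm_num) f (g.trans d.tt (d.zero.symm d.tt)))).symm
  have l := d.add' hm (ac_lt x hm) (.refl _ _) (d.af_code b hm (d.xs.inv (d.mem m)))
  rw [Nat.xor_comm, k] at l
  exact ⟨ψ m, d.mem m, by simpa [mul_assoc] using (c.trans d.tt (l.symm d.tt)).mul_right b.1.eq⟩

theorem RE.cosets (d : RE t R ψ) {u : G} {x : Wr} (a : Ac t ψ u x) (e : u * u = 1 ∨ u * u = t) :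
    u ∈ R ∨ (u * u = 1 ∧ (IsConj (ψ 16) u ∧ IsConj t (u * t) ∨ IsConj t u ∧ IsConj (ψ 16) (u * t))) ∨
      (u * u = 1 ∧ IsConj t u ∧ IsConj t (u * t) ∧ ∃ k, k * x * k⁻¹ = xE) ∨
        (u * u = t ∧ ¬ IsConj (ψ 6) u) := by
  rcases invs x (d.ac_uniq (d.ac_mul a a) (d.ac_mem (e.elim (· ▸ R.one_mem) (· ▸ d.xs.z_mem)))) with
    rfl | ⟨k, hk⟩
  · exact .inl (d.ker a)
  obtain ⟨n, b⟩ := d.lift k
  have key : ∀ {s}, Ac t ψ s (k * x * k⁻¹) → s * s = 1 ∨ s * s = t → IsConj (s * s) (u * u) ∧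
      (IsConj s u ∧ IsConj (s * t) (u * t) ∨ IsConj (s * t) u ∧ IsConj s (u * t)) := fun {s} c f => by
    obtain ⟨q, hq, g⟩ := d.free' hk (d.ac_conj b a) c (by
      rw [conj_mul]; rcases e with e | e <;> simp [e, conj_eq_of_comm b.1.eq]) f
    have m := b.1.inv_left.mul_left (d.ct hq)
    have g := g.conj b.1.inv_left.eq
    rw [show n⁻¹ * (n * u * n⁻¹) * n⁻¹⁻¹ = u by group,
      show n⁻¹ * (q * s * q⁻¹) * n⁻¹⁻¹ = n⁻¹ * q * s * (n⁻¹ * q)⁻¹ by group] at g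
    generalize n⁻¹ * q = w at *
    have o : w * (s * t) * w⁻¹ = w * s * w⁻¹ * t := by rw [← conj_mul, conj_eq_of_comm m.eq]
    rcases g with rfl | rfl
    · exact ⟨isConj_iff.2 ⟨w, (conj_mul ..).symm⟩, .inl ⟨isConj_iff.2 ⟨w, rfl⟩, isConj_iff.2 ⟨w, o⟩⟩⟩
    · refine ⟨isConj_iff.2 ⟨w, ?_⟩, .inr ⟨isConj_iff.2 ⟨w, o⟩, isConj_iff.2 ⟨w, by
        rw [mul_assoc _ t, d.tt, mul_one]⟩⟩⟩
      rw [← o, conj_mul, mul_assoc s t, ← mul_assoc t, ← c.1.eq, mul_assoc s t, d.tt, mul_one]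
  simp only [List.mem_cons, List.not_mem_nil, or_false] at hk
  rcases hk with hk | hk | hk
  · obtain ⟨s, s1, s2, s3⟩ := d.cG
    obtain ⟨f, g⟩ := key (hk ▸ s1) (.inr s2)
    refine .inr (.inr (.inr ⟨e.resolve_left fun r => d.xs.z_ne (by simpa [r, s2] using f), fun r => s3 ?_⟩))
    rcases g with g | g
    · exact r.trans g.1.symm
    · obtain ⟨q, -, l⟩ := d.conj (i := 6) (by norm_num) (by norm_num) (d.xs.inv (d.mem 6))
      obtain ⟨w, m⟩ := isConj_iff.1 (r.trans g.1.symm)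
      refine (isConj_iff.2 ⟨q, l⟩).trans (isConj_iff.2 ⟨w, ?_⟩)
      rw [← conj_inv, m, inv_eq_iff_mul_eq_one, mul_assoc, ← s1.1.eq, ← mul_assoc, s2, d.tt]
  · obtain ⟨s, s1, s2, s3, s4⟩ := d.cS
    obtain ⟨f, g⟩ := key (hk ▸ s1) (.inl s2)
    exact .inr (.inl ⟨by simpa [s2, eq_comm] using f, g.imp (fun r => ⟨s3.trans r.1, s4.trans r.2⟩)
      fun r => ⟨s4.trans r.1, s3.trans r.2⟩⟩)
  · obtain ⟨s, s1, s2, s3, s4⟩ := d.cE
    obtain ⟨f, g⟩ := key (hk ▸ s1) (.inl s2)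
    exact .inr (.inr (.inl ⟨by simpa [s2, eq_comm] using f, g.elim (fun r => s3.trans r.1) fun r => s4.trans r.1,
      g.elim (fun r => s4.trans r.2) fun r => s3.trans r.2, k, hk⟩))

theorem RE.sc1 (d : RE t R ψ) {r c : G} {i : ℕ} {x : Wr} (hi : i < 256) (e : Eqv t r (ψ i))
    (b : dA.testBit i = true ∨ qf.testBit i = true) (hc : Commute c t)
    (a : Ac t ψ (c * r * c⁻¹) x) : c * r * c⁻¹ ∈ R := by
  rcases b with b | b
  · have h1 := (d.cjA hi e b).trans (isConj_iff.2 ⟨c, rfl⟩)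
    have h2 : IsConj (ψ 16) (c * r * c⁻¹ * t) := (d.cjA hi (Eqv.trans d.tt (.inr rfl) e) b).trans
      (isConj_iff.2 ⟨c, by rw [← conj_mul, conj_eq_of_comm hc.eq]⟩)
    have h3 := d.sq_of h1 d.sq16
    rcases d.cosets a (.inl h3) with f | ⟨-, f | f⟩ | f | f
    exacts [f, absurd (h2.trans f.2.symm) d.nrt, absurd (h1.trans f.1.symm) d.nrt,
      absurd (h1.trans f.2.1.symm) d.nrt, absurd (f.1.symm.trans h3) d.xs.z_ne]
  · have h3 : c * r * c⁻¹ * (c * r * c⁻¹) = t := by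
      rw [conj_mul, d.sq_t hi e b, conj_eq_of_comm hc.eq]
    obtain ⟨w, -, -, rfl⟩ := d.tyQ hi e b
    rcases d.cosets a (.inr h3) with f | f | f | f
    exacts [f, absurd (h3.symm.trans f.1) d.xs.z_ne, absurd (h3.symm.trans f.1) d.xs.z_ne,
      absurd ((isConj_iff.2 ⟨w, rfl⟩).trans (isConj_iff.2 ⟨c, rfl⟩)) f.2]

theorem RE.norm_ac (d : RE t R ψ) {h : G} (hc : Commute h t) (a : h * ψ 16 * h⁻¹ ∈ R)
    (b : h * ψ 32 * h⁻¹ ∈ R) : ∃ x, Ac t ψ h x := by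
  obtain ⟨i, hi, e⟩ := d.onto _ a
  obtain ⟨j, hj, f⟩ := d.onto _ b
  obtain ⟨x, rfl, rfl⟩ := pair2 hi hj (d.of_cjA hi e (isConj_iff.2 ⟨h, rfl⟩))
    (d.of_cjA hj f ((d.cjA (by norm_num) (.refl _ _) (by decide)).trans (isConj_iff.2 ⟨h, rfl⟩)))
    (d.of_cjA (xor_lt hi hj) (d.add' hi hj e f) ((d.cjA (i := 16 ^^^ 32) (by decide)
      ((d.add 16 (by norm_num) 32 (by norm_num)).symm d.tt) (by decide)).trans
        (isConj_iff.2 ⟨h, (conj_mul ..).symm⟩)))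
  obtain ⟨n, c⟩ := d.lift x
  have k : ∀ {v}, v < 256 → Eqv t (h * ψ v * h⁻¹) (ψ (ac x v)) →
      Eqv t (ψ v) (n⁻¹ * h * ψ v * (n⁻¹ * h)⁻¹) := fun l m => by
    have := d.af_code (d.ac_inv c) (ac_lt x l) m
    rw [ac_inv x l] at this
    simpa [mul_assoc] using this.symm d.tt
  obtain ⟨y, -, g⟩ := d.st _ (c.1.inv_left.mul_left hc) (k (by norm_num) e) (k (by norm_num) f)
  exact ⟨x * y, by simpa using d.ac_mul c g⟩

theorem RE.two (d : RE t R ψ) {T : Subgroup G} (hT : IsPGroup 2 T) (hR : R ≤ T)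
    (hc : ∀ h ∈ T, Commute h t) {h : G} (a : h ∈ T) : ∃ x, Ac t ψ h x := by
  have := Fact.mk Nat.prime_two
  let N : Subgroup G :=
    { carrier := {h | ∃ x, Ac t ψ h x}
      one_mem' := ⟨1, d.ac_one⟩
      mul_mem' := fun ⟨_, a⟩ ⟨_, b⟩ => ⟨_, d.ac_mul a b⟩
      inv_mem' := fun ⟨_, a⟩ => ⟨_, d.ac_inv a⟩ }
  have := hT.isNilpotent
  by_contra n
  obtain ⟨s, s1, s2⟩ := SetLike.exists_of_lt (Group.normalizerCondition_of_isNilpotent (N.subgroupOf T)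
    (lt_top_iff_ne_top.2 fun e => n (e.ge (mem_top (⟨h, a⟩ : T)))))
  have k : ∀ i < 256, dA.testBit i = true → s.1 * ψ i * s.1⁻¹ ∈ R := fun i hi b =>
    let ⟨_, c⟩ := (mem_normalizer_iff.1 s1 ⟨_, hR (d.mem i)⟩).1 ⟨1, d.ac_mem (d.mem i)⟩
    d.sc1 hi (.refl _ _) (.inl b) (hc _ s.2) c
  exact s2 (d.norm_ac (hc _ s.2) (k 16 (by norm_num) (by decide)) (k 32 (by norm_num) (by decide)))

end Cfsg.Agent.HNL
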