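import Cfsg.Agent.HNL.SCa

/-! Strong closure. -/

set_option autoImplicit false
set_option maxRecDepth 100000
set_option synthInstance.maxHeartbeats 400000
set_option synthInstance.maxSize 4000

namespace Cfsg.Agent.HNL

open Subgroup Cfsg.Agent.TT Cfsg.Agent.LES Cfsg.Agent.X32 Cfsg.Agent.X32.TG Cfsg.Agent.Loc3.Pr
open Cfsg.Agent.Mon.HN (comb comb_lt xor_lt)
open scoped Cfsg.Agent.PLocal.Amb

variable {G : Type*} [Group G] [Finite G] {t : G} {R : Subgroup G} {ψ : ℕ → G}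

theorem sc_tab : ∀ a < 256, dA.testBit a = true → dB.testBit (a ^^^ 17) = true → ∀ b < 256,
    dA.testBit b = true → dB.testBit (b ^^^ 17) = true → dB.testBit (a ^^^ b) = true →
    dB.testBit (a ^^^ b ^^^ 17) = true → ∀ m < 256, qf.testBit m = true →
    dB.testBit (m ^^^ 17) = true → dB.testBit (m ^^^ a ^^^ 17) = true →
    dB.testBit (m ^^^ b ^^^ 17) = true → dB.testBit (m ^^^ (a ^^^ b) ^^^ 17) = false := bd!

theorem RE.sc0 (d : RE t R ψ) {c : G} (hc : Commute c t) (a : Ac t ψ (c * ψ 17 * c⁻¹) xE) :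
    False := by
  have : Fact (Nat.Prime 2) := ⟨Nat.prime_two⟩
  have uu := d.sq_of (d.cB.trans (isConj_iff.2 ⟨c, rfl⟩)) d.tt
  obtain ⟨u, hu⟩ : ∃ u, c * ψ 17 * c⁻¹ = u := ⟨_, rfl⟩
  rw [hu] at a uu
  let Y : Subgroup G :=
    { carrier := {y | Commute y t ∧ Eqv t (y * ψ 17 * y⁻¹) (ψ 17)}
      one_mem' := ⟨Commute.one_left _, Or.inl (by simp)⟩
      mul_mem' := fun {x y} hx hy => ⟨hx.1.mul_left hy.1, Eqv.trans d.tt (by
        simpa only [mul_inv_rev, mul_assoc] using hy.2.conj hx.1.eq) hx.2⟩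
      inv_mem' := fun {x} hx => ⟨hx.1.inv_left, Eqv.symm d.tt (by
        simpa [mul_assoc] using hx.2.conj hx.1.inv_left.eq)⟩ }
  have RY : R ≤ Y := fun r hr => ⟨d.ct hr, d.xs.conj hr (d.mem 17)⟩
  obtain ⟨T, hT, RT⟩ := PLocal.Amb.exists_isSyl_ge d.xs.isPGroup RY
  obtain ⟨y, hy, l⟩ := hT.exists_cj_le (R := cj(c⁻¹, R) ⊓ Y)
    (PLocal.Amb.isPGroup_cj _ d.xs.isPGroup).to_inf_left inf_le_right
  have cy : Commute (y * c⁻¹) t := hy.1.mul_left hc.inv_left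
  have e17 : Eqv t (y * c⁻¹ * u * (y * c⁻¹)⁻¹) (ψ 17) := by
    simpa [← hu, mul_assoc] using hy.2
  have act : ∀ j < 256, ac xE j = j → ∃ x, Ac t ψ (y * c⁻¹ * ψ j * (y * c⁻¹)⁻¹) x := fun j hj e => by
    refine d.two hT.pgrp RT (fun h m => (hT.le m).1) (l ?_)
    rw [show y * c⁻¹ * ψ j * (y * c⁻¹)⁻¹ = y * (c⁻¹ * ψ j * c⁻¹⁻¹) * y⁻¹ by group]
    refine PLocal.Amb.conj_mem_cj y ⟨PLocal.Amb.conj_mem_cj _ (d.mem j),
      (hc.inv_left.mul_left (d.ct (d.mem j))).mul_left hc.inv_left.inv_left, ?_⟩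
    have e1 := ((a.2 j hj).mul_right (a := u * (ψ j)⁻¹) (a.1.mul_left (d.ct (d.mem j)).inv_left)).conj
      hc.inv_left.eq
    simpa [e, ← hu, mul_assoc] using e1
  generalize y * c⁻¹ = g at cy e17 act
  have nz : ∀ w, Eqv t (g * w * g⁻¹) (ψ 0) → w = 1 ∨ w = t := fun w e =>
    eqv_one_iff.1 (by simpa [mul_assoc] using (e.trans d.tt d.zero).conj cy.inv_left.eq)
  obtain ⟨s, s1, s2, s3, s4⟩ := d.cE
  let P : ℕ → ℕ → Prop := fun j i => j < 256 ∧ i < 256 ∧ ac xE j = j ∧ Eqv t (ψ i) (g * ψ j * g⁻¹)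
  have P1 : ∀ {j i j' i'}, P j i → P j' i' → P (j ^^^ j') (i ^^^ i') := fun p q =>
    ⟨xor_lt p.1 q.1, xor_lt p.2.1 q.2.1, by rw [(ad_ac _).add _ p.1 _ q.1, p.2.2.1, q.2.2.1],
      d.add_of cy p.1 q.1 p.2.1 q.2.1 p.2.2.2 q.2.2.2⟩
  have P2 : ∀ {j i}, P j i → dB.testBit (i ^^^ 17) = true := fun {j i} p => by
    have b := d.ac_mul (d.ac_mem (d.mem j)) a
    rw [one_mul] at b
    have e1 := (d.add' p.1 p.1 (.refl _ _) (p.2.2.1 ▸ d.af_code a p.1 (.refl _ _))).trans d.tt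
      (Nat.xor_self j ▸ d.zero)
    obtain ⟨q, hq, e2⟩ := d.free' (by simp) b s1 (by
      rwa [show ψ j * u * (ψ j * u) = ψ j * (u * ψ j * u⁻¹) * (u * u) by group, uu, mul_one,
        ← eqv_one_iff]) (Or.inl s2)
    have e3 := d.add' p.2.1 (by norm_num) (p.2.2.2.symm d.tt) e17
    rw [conj_mul] at e3
    refine d.of_cjB (xor_lt p.2.1 (by norm_num)) e3 (IsConj.trans ?_ (isConj_iff.2 ⟨g, rfl⟩))
      fun z => ?_
    · rcases e2 with e2 | e2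
      · exact s3.trans (isConj_iff.2 ⟨q, e2.symm⟩)
      · exact s4.trans (isConj_iff.2 ⟨q, by rw [e2, ← conj_mul, conj_eq_of_comm (d.ct hq)]⟩)
    · refine (bd! : xE ≠ 1) (d.ac_uniq b (d.ac_mem ?_))
      rcases nz _ (z ▸ e3) with e | e <;> rw [e]
      exacts [R.one_mem, d.xs.z_mem]
  have P0 : ∀ j < 256, ac xE j = j → dA.testBit j = true ∨ qf.testBit j = true → ∃ i, P j i :=
    fun j hj e b => by
      obtain ⟨x, m⟩ := act j hj e
      obtain ⟨i, hi, m⟩ := d.onto _ (d.sc1 hj (.refl _ _) b cy m)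
      exact ⟨i, hj, hi, e, m.symm d.tt⟩
  have PA : ∀ {j i}, P j i → dA.testBit j = true → dA.testBit i = true := fun p b =>
    d.of_cjA p.2.1 (p.2.2.2.symm d.tt) ((d.cjA p.1 (.refl _ _) b).trans (isConj_iff.2 ⟨g, rfl⟩))
  obtain ⟨i, pi⟩ := P0 1 (by norm_num) bd! (Or.inl (by decide))
  obtain ⟨j, pj⟩ := P0 48 (by norm_num) bd! (Or.inl (by decide))
  obtain ⟨m, pm⟩ := P0 6 (by norm_num) bd! (Or.inr (by decide))
  have pk := P1 pi pj
  have := sc_tab i pi.2.1 (PA pi (by decide)) (P2 pi) j pj.2.1 (PA pj (by decide)) (P2 pj)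
    (d.of_cjB pk.2.1 (pk.2.2.2.symm d.tt)
      ((d.cjB pk.1 (.refl _ _) (by decide)).trans (isConj_iff.2 ⟨g, rfl⟩)) fun z =>
        not_or.2 (d.ne pk.1 (by decide) (.refl _ _)) (nz _ (z ▸ pk.2.2.2.symm d.tt)))
    (P2 pk) m pm.2.1 (by
      by_contra z
      have := (d.sq' pm.2.1 (pm.2.2.2.symm d.tt)).2 (by simpa using z)
      rw [conj_mul, mul_inv_eq_one, mul_eq_left, d.sq 6 (by norm_num)] at this
      exact absurd this (by decide)) (P2 pm) (P2 (P1 pm pi)) (P2 (P1 pm pj))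
  simpa [this] using P2 (P1 pm pk)

/-- Let `i` be the code of `r`, `u = c r c⁻¹ ∉ R`.  `i = 0` is trivial, `dA i`, `qf i` are `sc1`; so `dB i` (`orbs`),
`u, u t ~ t` (`cjB`), and `cosets` + `nrt` leave `k x k⁻¹ = xE`.  Replacing `c` by `n c n'` (lifts; `tyB`; `af_norm`) assume
`r = ψ 17`, `x = xE`.  `Y = {y | Commute y t ∧ Eqv t (y r y⁻¹) r}` is a subgroup containing `R`.  The points `1, 48, 6` are fixed by `xE`, so
`ψ j u (ψ j)⁻¹ ≡ u` mod `t`, i.e. `c⁻¹ ψ j c ∈ Y`.  The 2-group `E = c⁻¹ R c ⊓ Y` is conjugate by some `y ∈ Y` into a Sylow 2-subgroup `T ≥ R`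
of `Y` (`PLocal.Amb.IsSyl`), all of whose elements act (`two`).  `c' = y c⁻¹` commutes with `t`, `c' u c'⁻¹ ≡ ψ 17`, and by `sc1`
(`dA 1, dA 48, qf 6`) the `c' ψ j c'⁻¹` lie in `R`, with codes `a, b ∈ dA` (`of_cjA`), `m ∈ qf` (`sq'`), `a ^^^ b ∈ dB` (`dB 49`, `cjB`,
`of_cjB`, `ne`).  For `j` in the span of `1, 48, 6`, `u ψ j` acts as `xE`, its square is in `{1,t}`, so by `free'` it is conjugate to `u` or
`u t`, hence to `t`; its conjugate by `c'` is in `R` with code `17 ^^^ (combination of a,b,m)`, non-zero since `u ∉ R`, so in `dB`.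
Table (`bd!`, python checked): `∀ a < 256, dA a → dB (a^17) → ∀ b < 256, dA b → dB (b^17) → dB (a^b) → dB (a^b^17) → ∀ m < 256, qf m →
dB (m^17) → dB (m^a^17) → dB (m^b^17) → dB (m^a^b^17) → False`. -/
theorem RE.sc (d : RE t R ψ) {r c : G} {x : Wr} (hr : r ∈ R) (hc : Commute c t)
    (a : Ac t ψ (c * r * c⁻¹) x) : c * r * c⁻¹ ∈ R := by
  obtain ⟨i, hi, e⟩ := d.onto r hr
  have B : dB.testBit i = true → c * r * c⁻¹ ∈ R := fun b => by
    have h1 : IsConj t (c * r * c⁻¹) := (d.cjB hi e b).trans (isConj_iff.2 ⟨c, rfl⟩)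
    have h2 : IsConj t (c * r * c⁻¹ * t) := (d.cjB hi (Eqv.trans d.tt (Or.inr rfl) e) b).trans
      (isConj_iff.2 ⟨c, by rw [← conj_mul, conj_eq_of_comm hc]⟩)
    rcases d.cosets a (Or.inl (d.sq_of h1 d.tt)) with z | ⟨-, ⟨z, -⟩ | ⟨-, z⟩⟩ | ⟨-, -, -, k, z⟩ | ⟨z, -⟩
    · exact z
    · exact absurd (z.trans h1.symm) d.nrt
    · exact absurd (z.trans h2.symm) d.nrt
    · obtain ⟨n, y, m, rfl⟩ := d.tyB hi e b
      obtain ⟨l, ml⟩ := d.lift k
      refine (d.sc0 ((ml.1.mul_left hc).mul_left m.1) ?_).elim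
      simpa only [z, mul_inv_rev, mul_assoc] using d.ac_conj ml a
    · exact absurd (z.symm.trans (d.sq_of h1 d.tt)) d.xs.z_ne
  rcases orbs i hi with rfl | ⟨b, -⟩ | ⟨b, -⟩ | ⟨b, -⟩
  · rcases eqv_one_iff.1 (e.trans d.tt d.zero) with rfl | rfl
    · simp
    · rwa [conj_eq_of_comm hc]
  exacts [d.sc1 hi e (Or.inl b) hc a, B b, d.sc1 hi e (Or.inr b) hc a]

end Cfsg.Agent.HNL
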