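import Cfsg.Agent.HNL.Ex
import Cfsg.Agent.Mult.Basic

/-! A complement `SL₂(5)` to the `3`-core, whose centre inverts `Q / Z`.

`Hh` is the table of `SL₂(5)` (HNL/H; facts by `bd!`): `e 3` is the only involution and is central,
`(e 1 * e 12) ^ 5 = e 3`, so `e 1 * e 12 * e 3`… has order 5; `indH`; `Hh` is perfect (write `e 1`, `e 12` as commutators, `bd!`).

`faith`: an element `g` of `C(z)` of order prime to 3 with `[g, Q] ≤ ⟨z⟩` is trivial: `g q g⁻¹ = q w` with `w ∈ ⟨z⟩`, so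
`g^n q g^{-n} = q w^n`, `w = 1`; then `g ∈ ⟨z⟩` by `cen`, `g = 1`.
`inv_of`: lift `e 3` to an involution `t` and an element of order 5 to `f` with `f⁵ = 1` (`PH.exists_lift'`).  For a subgroup
`⟨z⟩ ≤ U ≤ Q` normalised by `f`, `card_mod` (Loc3/Tools5) gives `|U| ≡ |C_U(f)| (mod 5)`.  `|Q| = 243 ≡ 3`, `C_Q(f) ∋ z` is proper by
`faith`, of order `3^k`, `1 ≤ k ≤ 4`, so `C_Q(f) = ⟨z⟩`.  `U = {q ∈ Q | t q t⁻¹ q⁻¹ ∈ ⟨z⟩}` is a subgroup normalised by `f` (`π t` is
central and `Q` acts trivially on `Q / ⟨z⟩`; or use `Sec.rep h.sh`), proper by `faith`, so `|U| ≡ 3`, `U = ⟨z⟩`.  For `q ∈ Q` the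
element `q (t q t⁻¹)` lies in `U`.  (Cf. Loc3/McB `fix5`, `fix2`.)  Any `g` with `π g = e 3` is `t` times an element of `Q`.
`exists_sec`: `L = C(z) ⊓ C(t)`; `π` maps `L` onto `Hh` (`frat2`, cf. L43/Gens `Ex.lift`; an involution of `C(z)` has image `e 3`),
with kernel `L ⊓ Q = ⟨z⟩` (`q² ∈ ⟨z⟩`), central in `L`, `|L| = 360`.  `X = ⟨z, y⟩` with `π y = e 1`, `y ∈ L` a 3-element, is abelian of
order 9, of index 40: `Mult.inf_commutator_le_of_coprime` gives `⟨z⟩ ⊓ L' = 1`.  So `π` is injective on `L'`, and onto since `Hh` is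
perfect; `κ` is the inverse. -/

set_option autoImplicit false
set_option maxRecDepth 100000
set_option synthInstance.maxHeartbeats 400000
set_option synthInstance.maxSize 4000

namespace Cfsg.Agent.HNL

open Subgroup Cfsg Cfsg.Agent.PLocal Cfsg.Agent.PLocal.Amb Cfsg.Agent.Loc3 Cfsg.Agent.Comp
open Cfsg.Agent.X32.TG Cfsg.Agent.Loc3.Pr
open scoped commutatorElement

variable {G : Type*} [Group G] [Finite G] {z g q : G} {Q : Subgroup G} {π : G → Hh}

theorem Ex.nZ (h : Ex z Q π) {w : G} (c : Commute g z) (a : w ∈ zpowers z) : g * w * g⁻¹ ∈ zpowers z :=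
  (conj_of_comm (h.cZ' c a)).symm ▸ a

/-- a subgroup between `⟨z⟩` and `Q` normalised by an element of order five -/
theorem Ex.irr5 (h : Ex z Q π) {f : G} (c : Commute f z) (f5 : f ^ 5 = 1) (f1 : f ≠ 1) {U : Subgroup G}
    (a : zpowers z ≤ U) (b : U ≤ Q) (n : ∀ x ∈ U, f * x * f⁻¹ ∈ U) : U = zpowers z ∨ U = Q := by
  have k : ∀ {U : Subgroup G}, zpowers z ≤ U → U ≤ Q → Nat.card U ≡ 3 [MOD 5] →
      U = zpowers z ∨ U = Q := fun {U} a b m => by
    obtain ⟨k, hk, e⟩ := (Nat.dvd_prime_pow Nat.prime_three).1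
      ((h.cQ.trans (by norm_num : 243 = 3 ^ 5)) ▸ card_dvd_of_le b)
    rw [e] at m
    interval_cases k
    · exact absurd m (by decide)
    · exact .inl (eq_of_le_of_card_ge a (e.trans h.cZ.symm).le).symm
    iterate 3 exact absurd m (by decide)
    exact .inr (eq_of_le_of_card_ge b (h.cQ.trans e.symm).le)
  have zf : zpowers z ≤ centralizer {f} := zpowers_le.2 (mem_cent.2 c.symm)
  have m := card_mod (by norm_num) f5 fun x hx => h.cj c hx
  rw [h.cQ] at m
  rcases k (le_inf h.ZQ zf) inf_le_left (m.symm.trans (by decide)) with d | d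
  · have m' := card_mod (by norm_num) f5 n
    rw [le_antisymm ((inf_le_inf_right _ b).trans d.le) (le_inf a zf), h.cZ] at m'
    exact k a b m'
  · exact absurd ((pow_eq_one_iff_of_coprime (by norm_num)).1 ⟨h.ex (h.ZQ (h.cen f fun q hq =>
      (mem_cent.1 (mem_inf.1 (d.ge hq)).2).symm)), f5⟩) f1

theorem Ex.ex2 (h : Ex z Q π) : ∃ t, Commute t z ∧ π t = e 3 ∧ t * t = 1 := by
  obtain ⟨t, a, b, c⟩ := h.ph.exists_lift' (m := 2) (by rw [h.cQ]; norm_num) (x := e 3) bd!
  exact ⟨t, mem_cent.1 a, b, (pow_two t).symm.trans c⟩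

theorem Ex.inv_of (h : Ex z Q π) (c : Commute g z) (a : π g = e 3) (hq : q ∈ Q) :
    q * (g * q * g⁻¹) ∈ zpowers z := by
  obtain ⟨t, tz, tp, t2⟩ := h.ex2
  obtain ⟨f, fz, fp, f5⟩ := h.ph.exists_lift' (m := 5) (by rw [h.cQ]; norm_num)
    (x := e 1 * e 12 * e 3) bd!
  replace fz := mem_cent.1 fz
  have tt : ∀ x, t * (t * x * t⁻¹) * t⁻¹ = x := fun x => by
    rw [show t * (t * x * t⁻¹) * t⁻¹ = t * t * x * (t * t)⁻¹ by group, t2]; group
  let U : Subgroup G :=
    { carrier := {x | x ∈ Q ∧ t * x * t⁻¹ * x⁻¹ ∈ zpowers z}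
      one_mem' := ⟨one_mem _, by simp⟩
      mul_mem' := fun {x y} hx hy => ⟨mul_mem hx.1 hy.1, by
        convert mul_mem hx.2 (h.nZ (h.cz hx.1) hy.2) using 1; group⟩
      inv_mem' := fun {x} hx => ⟨inv_mem hx.1, by
        convert h.nZ (h.cz hx.1).inv_left (inv_mem hx.2) using 1; group⟩ }
  have k : f⁻¹ * t * f * t⁻¹ ∈ Q := by
    have d := (fz.inv_left.mul_left tz).mul_left fz
    rw [← h.ker (d.mul_left tz.inv_left), h.mul d tz.inv_left, h.mul (fz.inv_left.mul_left tz) fz,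
      h.mul fz.inv_left tz, h.inv fz, h.inv tz, tp, fp]
    exact bd!
  rcases h.irr5 (U := U) fz f5 (fun d => absurd (fp.symm.trans (d ▸ h.ph.map_one)) bd!)
    (fun x hx => ⟨h.ZQ hx, mul_mem (h.nZ tz hx) (inv_mem hx)⟩) (fun x hx => hx.1)
    (fun x hx => ⟨h.cj fz hx.1, by
      convert h.nZ fz (mul_mem (h.cm k (h.cj tz hx.1)) hx.2) using 1
      rw [commutatorElement_def]; group⟩) with d | d
  · have u : q * (t * q * t⁻¹) ∈ zpowers z := d.le ⟨mul_mem hq (h.cj tz hq), by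
      convert h.cm (h.cj tz hq) hq using 1
      rw [← conj_mul, tt, commutatorElement_def]; group⟩
    convert mul_mem u (h.nZ tz (h.cm (inv_mem hq) (h.eq_of tz c (tp.trans a.symm)))) using 1
    rw [commutatorElement_def]; group
  · refine absurd (tp.symm.trans ((h.ker tz).2 (h.ZQ (h.cen t fun x hx => ?_)))) bd!
    have u := (d.ge hx).2
    have v := conj_of_comm (h.cZ' tz u)
    rw [← conj_mul, tt, ← conj_inv] at v
    refine comm_of_conj (mul_inv_eq_one.1 (G23.Am.one_of_sq (k := 1) (h.ex (h.ZQ u)) ?_))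
    nth_rewrite 1 [← v]
    group

theorem perf_Hh : _root_.commutator Hh = ⊤ := eq_top_iff.2 fun x _ => by
  induction x using indH with
  | h1 => exact one_mem _
  | h2 g m x ih =>
    refine mul_mem ?_ (ih (mem_top _))
    rw [(bd! : ∀ g ∈ (es [1, 12] : List Hh), g = e 6 * g * (e 6)⁻¹ * g⁻¹) g m]
    exact commutator_mem_commutator (mem_top _) (mem_top _)

theorem Ex.exists_sec (h : Ex z Q π) : ∃ κ : Hh →* G, ∀ x, Commute (κ x) z ∧ π (κ x) = x := by
  obtain ⟨t, tz, tp, t2⟩ := h.ex2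
  let L : Subgroup G := centralizer {z} ⊓ centralizer {t}
  have lz : ∀ x : L, Commute x.1 z := fun x => mem_cent.1 (mem_inf.1 x.2).1
  let σ : L →* Hh := MonoidHom.mk' (fun x => π x) fun x y => h.mul (lz x) (lz y)
  have sσ : Function.Surjective σ := fun x => by
    obtain ⟨a, ha, rfl⟩ := h.ph.surj x
    replace ha := mem_cent.1 ha
    have c := (ha.mul_left tz).mul_left ha.inv_left
    obtain ⟨k, b, d⟩ := frat2 (g := a) h.pQ t2 ((h.ker (tz.mul_left c)).1 (by
      rw [h.mul tz c, h.mul (ha.mul_left tz) ha.inv_left, h.mul ha tz, h.inv ha, tp]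
      exact (bd! : ∀ x : Hh, e 3 * (x * e 3 * x⁻¹) = 1) _))
    exact ⟨⟨k * a, mem_cent.2 ((h.cz b).mul_left ha), mem_cent.2 d⟩,
      (h.mul (h.cz b) ha).trans (by rw [(h.ker (h.cz b)).2 b, one_mul])⟩
  have kz : ∀ x : L, σ x = 1 → x.1 ∈ zpowers z := fun x a => by
    have b := (h.ker (lz x)).1 a
    have d := h.inv_of tz tp b
    rw [conj_of_comm (mem_cent.1 (mem_inf.1 x.2).2).symm] at d
    exact G23.Am.mem_of_sq (k := 1) (h.ex b) d
  have kc : σ.ker ≤ center L := fun x a => mem_center_iff.2 fun y =>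
    Subtype.ext (h.cZ' (lz y) (kz x a))
  have i40 : ((zpowers (e 1 : Hh)).comap σ).index = 40 := by
    have := (zpowers (e 1 : Hh)).index_mul_card
    rw [Nat.card_zpowers, orderOf_three bd! bd!, X32.TG.card] at this
    change _ = 120 at this
    rw [index_comap_of_surjective _ sσ]
    omega
  have ab : ⁅(zpowers (e 1 : Hh)).comap σ, (zpowers (e 1 : Hh)).comap σ⁆ = ⊥ := by
    obtain ⟨y, hy⟩ := sσ (e 1)
    refine eq_bot_iff.2 (commutator_le.2 ?_)
    rintro a ⟨i, ha⟩ b ⟨j, hb⟩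
    have c : ∀ {a : L} {i : ℤ}, e 1 ^ i = σ a → ∀ w, Commute w ((y ^ i)⁻¹ * a) := fun a w =>
      mem_center_iff.1 (kc (by rw [MonoidHom.mem_ker, map_mul, map_inv, map_zpow, hy, a, inv_mul_cancel])) w
    rw [mem_bot, commutatorElement_eq_one_iff_commute, ← mul_inv_cancel_left (y ^ i) a,
      ← mul_inv_cancel_left (y ^ j) b]
    exact (((Commute.refl y).zpow_zpow i j).mul_left (c ha _).symm).mul_right (c hb _)
  have bij : Function.Bijective (σ.comp (_root_.commutator L).subtype) :=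
    ⟨(injective_iff_map_eq_one _).2 fun x a => by
      have b := Cfsg.Agent.FGS.pow_index_mem_commutator_of_mem_center ((zpowers (e 1 : Hh)).comap σ) (kc a) x.2
      rw [ab, i40, mem_bot] at b
      exact Subtype.ext (Subtype.ext ((pow_eq_one_iff_of_coprime (by norm_num)).1
        ⟨h.ex (h.ZQ (kz _ a)), congrArg Subtype.val b⟩)), fun x => by
      have : x ∈ (_root_.commutator L).map σ := by
        rw [_root_.commutator_def, map_commutator, ← MonoidHom.range_eq_map,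
          MonoidHom.range_eq_top.2 sσ, ← _root_.commutator_def, perf_Hh]
        exact mem_top x
      obtain ⟨y, a, b⟩ := this
      exact ⟨⟨y, a⟩, b⟩⟩
  exact ⟨(L.subtype.comp (_root_.commutator L).subtype).comp (MulEquiv.ofBijective _ bij).symm.toMonoidHom,
    fun x => ⟨lz _, (MulEquiv.ofBijective _ bij).apply_symm_apply x⟩⟩

end Cfsg.Agent.HNL
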