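import Cfsg.Agent.HNL.A12
import Cfsg.Agent.Loc3.Fin8
import Cfsg.Agent.Loc3.Sym8

/-! The centralizer of the four-group `⟨v1, v2⟩` (helper22). -/

set_option autoImplicit false
set_option synthInstance.maxSize 100000
set_option synthInstance.maxHeartbeats 400000

namespace Cfsg.Agent.HNL

open Subgroup Equiv Cfsg.Agent.Comp Cfsg.Agent.Loc3 Cfsg.Agent.PLocal.Amb

variable {G : Type*} [Group G] [Finite G] {α : A12 →* G} {g : G}

/-- the conditions `nzy` and `nine` of `Fin8` follow from the others -/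
theorem fin8_of {φ : A8 →* G} (inj : Function.Injective φ) (cz : ∀ g, Commute g (φ z8) → g ∈ φ.range)
    (cy : ∀ g, Commute g (φ y8) → g ∈ φ.range) : Fin8 φ := by
  have := Fact.mk Nat.prime_three
  have cm : ∀ {x y}, Commute (φ x) (φ y) → Commute x y := fun e => inj (by simpa using e.eq)
  have c0 : ∀ {x y}, (∀ g, Commute g (φ x) → g ∈ φ.range) → IsConj x y → ∀ g, Commute g (φ y) → g ∈ φ.range := by
    intro x y a e g b
    obtain ⟨c, rfl⟩ := isConj_iff.1 e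
    have d : Commute ((φ c)⁻¹ * g * φ c) (φ x) := by simpa [mul_assoc] using Commute.cj b (φ c)⁻¹
    simpa [mul_assoc] using mul_mem (mul_mem (φ.mem_range.2 ⟨c, rfl⟩) (a _ d)) (inv_mem (φ.mem_range.2 ⟨c, rfl⟩))
  have z3 : φ z8 ^ 3 = 1 := by rw [← map_pow, (pd! : z8 ^ 3 = 1), map_one]
  have w3 : φ w8 ^ 3 = 1 := by rw [← map_pow, (pd! : w8 ^ 3 = 1), map_one]
  have zw := (pd! : Commute z8 w8).map φ
  have K : ∀ g, Commute g (φ z8) → Commute g (φ w8) → g ∈ closure {φ z8, φ w8} := fun g a b => by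
    obtain ⟨y, rfl⟩ := cz g a
    obtain ⟨p, hp, q, hq, rfl⟩ := (pd! : ∀ y : A8, Commute y z8 → Commute y w8 →
      ∃ p ∈ [1, z8, z8⁻¹], ∃ q ∈ [1, w8, w8⁻¹], y = p * q) y (cm a) (cm b)
    exact (mem_pair z3 w3 zw).2 ⟨φ p, by simpa using List.mem_map_of_mem (f := φ) hp, φ q,
      by simpa using List.mem_map_of_mem (f := φ) hq, map_mul ..⟩
  have c9 := card_nine z3 w3 zw (by simpa using inj.ne (pd! : w8 ≠ 1)) (by
    rw [mem_zpowers_three w3, ← map_inv, ← map_one φ]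
    simpa only [inj.eq_iff] using (pd! : ¬ (z8 = 1 ∨ z8 = w8 ∨ z8 = w8⁻¹)))
  have zD : φ z8 ∈ closure {φ z8, φ w8} := subset_closure (by simp)
  have wD : φ w8 ∈ closure {φ z8, φ w8} := subset_closure (by simp)
  refine ⟨inj, cz, cy, fun e => ?_, fun s s2 s1 e => ?_⟩
  · obtain ⟨c, hc⟩ := isConj_iff.1 e
    let f : A8 := ⟨swap 3 4 * swap 4 5 * swap 5 6 * swap 6 7, by simp⟩
    have a : Commute (c * φ f * c⁻¹) (φ y8) := hc ▸ Commute.cj ((show Commute f z8 from pd!).map φ) c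
    obtain ⟨u, hu⟩ := cy _ a
    have e := isConj_iff.2 ⟨c, hu.symm⟩
    exact ne_one_of_isConj inj e pd! ((pd! : ∀ u : A8, Commute u y8 → u ^ 5 = 1 → u = 1) u (cm (hu ▸ a))
      (pow_of_isConj inj e pd!))
  · refine (exists_cj_le_of_nine (D := closure {φ z8, φ w8})
      ⟨le_top, isPGroup_pair z3 w3 zw, fun R pR DR _ => ?_⟩ c9 e).elim fun c hc => ?_
    swap
    · have k : ∀ x ∈ closure {φ z8, φ w8}, Commute (c⁻¹ * s * c) x := fun x hx =>
        (comm_conj_iff.1 (mem_cent.1 (hc ⟨x, hx, rfl⟩))).symm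
      have := cube_pair z3 w3 zw (K _ (k _ zD) (k _ wD))
      rw [← inv_inv c, inv_inv c⁻¹, conj_pow, pow_three, s2] at this
      exact s1 (by simpa [mul_assoc, inv_mul_eq_one] using this)
    · have : Nontrivial R := (R.nontrivial_iff_ne_bot).2 fun b => by
        rw [b, le_bot_iff] at DR; rw [DR] at c9; simp at c9
      have := pR.center_nontrivial
      obtain ⟨⟨⟨x, xR⟩, hx⟩, x1⟩ := exists_ne (1 : center R)
      have cx : ∀ y ∈ R, Commute y x := fun y a => congrArg Subtype.val (mem_center_iff.1 hx ⟨y, a⟩)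
      have xD := K x (cx _ (DR zD)).symm (cx _ (DR wD)).symm
      obtain ⟨y, rfl⟩ := cz x (cx _ (DR zD)).symm
      have hR : R ≤ φ.range := fun r a => (cube_cases (x := y) (inj (by simpa using cube_pair z3 w3 zw xD))
        (by rintro rfl; exact x1 (Subtype.ext (Subtype.ext (map_one φ))))).elim
          (fun e => c0 cz e r (cx r a)) fun e => c0 cy e r (cx r a)
      obtain ⟨n, hn⟩ := pR.exists_card_eq
      have h1 := card_dvd_of_le hR
      rw [hn, ← Nat.card_congr (φ.ofInjective inj).toEquiv, nat_card_alternatingGroup, Nat.card_fin] at h1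
      refine (eq_of_le_of_card_ge DR ?_).ge
      rw [c9, hn]
      refine Nat.pow_le_pow_right (n := 3) (j := 2) (by norm_num) (not_lt.1 fun a => ?_)
      exact absurd ((pow_dvd_pow 3 a).trans h1) (by decide)

/-- the embedding of the eight points -/
def e8 : Fin 8 ↪ Fin 12 := ⟨![0, 1, 2, 6, 7, 3, 4, 5], by decide⟩

instance fv_e8 (i : Fin 8) {m : ℕ} [h : FV i m] : FV (e8 i) (ap 0x54376210 m) := ⟨by
  rw [h.h]; exact (by decide +kernel : ∀ i : Fin 8, ap 0x54376210 i = e8 i) i⟩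

theorem e8_range (j : Fin 12) : j ∉ Set.range e8 ↔ 7 < j := by
  revert j; exact (by decide : ∀ j : Fin 12, (¬ ∃ i, e8 i = j) ↔ 7 < j)

/-- `A₈` in `A₁₂` -/
noncomputable def i8 : A8 →* A12 := ((Perm.viaEmbeddingHom e8).comp A8.subtype).codRestrict _ fun x => by
  rw [Perm.mem_alternatingGroup, MonoidHom.comp_apply, Perm.viaEmbeddingHom_apply, Perm.viaEmbedding,
    Perm.sign_extendDomain]
  exact x.2

theorem i8_e (x : A8) (i : Fin 8) : (i8 x).1 (e8 i) = e8 (x.1 i) := Perm.viaEmbedding_apply x.1 e8 i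

theorem i8_n (x : A8) {j : Fin 12} (h : j ∉ Set.range e8) : (i8 x).1 j = j :=
  Perm.viaEmbedding_apply_of_notMem x.1 e8 j h

theorem i8_eq {x : A8} {y : A12} (h : (∀ i, e8 (x.1 i) = y.1 (e8 i)) ∧ ∀ j, 7 < j → y.1 j = j) : i8 x = y :=
  Subtype.ext (Equiv.ext fun j => by
    by_cases a : j ∈ Set.range e8
    · obtain ⟨i, rfl⟩ := a
      rw [i8_e, h.1]
    · rw [i8_n x a, h.2 j ((e8_range j).1 a)])

theorem i8_comm (x : A8) {v : A12} (h : ∀ i, v.1 (e8 i) = e8 i) : Commute (i8 x) v :=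
  Subtype.ext (Equiv.ext fun j => by
    change (i8 x).1 (v.1 j) = v.1 ((i8 x).1 j)
    by_cases a : j ∈ Set.range e8
    · obtain ⟨i, rfl⟩ := a
      rw [h, i8_e, h]
    · rw [i8_n x a, i8_n x fun ⟨i, b⟩ => a ⟨i, v.1.injective ((h i).trans b)⟩])

theorem i8_range {y : A12} (h : ∀ j, 7 < j → y.1 j = j) : ∃ x, i8 x = y := by
  have h0 : ∀ u, u ∉ Set.range e8 → y.1 u = u := fun u a => h u ((e8_range u).1 a)
  have h1 : ∀ u, y.1 u ∈ Set.range e8 ↔ u ∈ Set.range e8 := fun u => by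
    refine ⟨fun h2 => by_contra fun h3 => h3 (h0 u h3 ▸ h2), fun h2 => by_contra fun h3 => h3 ?_⟩
    rwa [y.1.injective (h0 _ h3)]
  have h2 : Perm.viaEmbeddingHom e8 ((Equiv.ofInjective e8 e8.2).symm.permCongr (y.1.subtypePerm h1)) = y.1 := by
    ext u
    by_cases h2 : u ∈ Set.range e8
    · obtain ⟨a, rfl⟩ := h2
      rw [Perm.viaEmbeddingHom_apply, Perm.viaEmbedding_apply]
      exact congrArg _ (Equiv.apply_ofInjective_symm e8.2 _)
    · rw [Perm.viaEmbeddingHom_apply, Perm.viaEmbedding_apply_of_notMem _ _ _ h2, h0 u h2]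
  refine ⟨⟨_, ?_⟩, Subtype.ext h2⟩
  have := y.2
  rwa [← h2, Perm.mem_alternatingGroup, Perm.viaEmbeddingHom_apply, Perm.viaEmbedding, Perm.sign_extendDomain] at this

theorem cen_v {y : A12} (a : Commute y v1) (b : Commute y v2) :
    ∃ x, ∃ v ∈ [1, v1, v2, v1 * v2], y = v * i8 x := by
  have k : ∀ {u v : A12}, Commute u v → ∀ j, u.1 (v.1 j) = v.1 (u.1 j) := fun e j =>
    congrArg (fun z : A12 => z.1 j) e.eq
  obtain ⟨v, hv, e, c1, c2⟩ := (pd! : ∀ m : Fin 12, v1.1 m ≠ m → ∃ v ∈ [1, v1, v2, v1 * v2],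
    v.1 8 = m ∧ Commute v v1 ∧ Commute v v2) (y.1 8) fun e => (pd! : v1.1 8 ≠ 8) (y.1.injective (by rw [k a, e]))
  obtain ⟨x, hx⟩ := i8_range (y := v⁻¹ * y) fun j hj => by
    change v.1⁻¹ (y.1 j) = j
    rw [Perm.inv_eq_iff_eq]
    rcases (pd! : ∀ j : Fin 12, 7 < j → j = 8 ∨ j = v1.1 8 ∨ j = v2.1 8 ∨ j = v1.1 (v2.1 8)) j hj with
      rfl | rfl | rfl | rfl <;> simp only [k a, k b, k c1, k c2, e]
  exact ⟨x, v, hv, by rw [hx, mul_inv_cancel_left]⟩

omit [Finite G] in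
theorem AE.cVy (h : AE α g) {k : G} (c : Commute k (α yy)) (a : Commute k (α v1)) (b : Commute k (α v2)) :
    k ∈ α.range := by
  have f : ∀ {x y}, Th α g x y → Commute k (α y) → Commute (g⁻¹ * k * g) (α x) := fun e d => by
    rw [← e] at d
    simpa [mul_assoc] using Commute.cj d g⁻¹
  obtain ⟨u, hu⟩ := h.cw _ (f h.g4 c)
  obtain ⟨p, hp, q, hq, r, hr, s, hs, rfl⟩ := (pd! : ∀ u : A12, Commute u w4 ∧ Commute u a1 ∧ Commute u a2 →
    ∃ p ∈ [1, w4, w4⁻¹], ∃ q ∈ [1, w3, w3⁻¹], ∃ r ∈ [1, a1, a2, a1 * a2], ∃ s ∈ [1, tt], u = p * q * r * s) u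
    ⟨h.comm.1 (hu ▸ f h.g4 c), h.comm.1 (hu ▸ f h.ga1 a), h.comm.1 (hu ▸ f h.ga2 b)⟩
  let D : Subgroup A12 := α.range.comap ((MulAut.conj g).toMonoidHom.comp α)
  have m : ∀ {x y}, Th α g x y → x ∈ D := fun e => ⟨_, e.symm⟩
  have : p * q * r * s ∈ D := by
    simp only [List.mem_cons, List.not_mem_nil, or_false] at hp hq hr hs
    refine mul_mem (mul_mem (mul_mem ?_ ?_) ?_) ?_
    · rcases hp with rfl | rfl | rfl
      exacts [one_mem _, m h.g4, inv_mem (m h.g4)]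
    · rcases hq with rfl | rfl | rfl
      exacts [one_mem _, m h.g3, inv_mem (m h.g3)]
    · rcases hr with rfl | rfl | rfl | rfl
      exacts [one_mem _, m h.ga1, m h.ga2, mul_mem (m h.ga1) (m h.ga2)]
    · rcases hs with rfl | rfl
      exacts [one_mem _, m h.gtt]
  obtain ⟨y, hy⟩ := this
  exact ⟨y, hy.trans (by simp only [MonoidHom.comp_apply, hu]; simp [mul_assoc])⟩

/-- `H = C_G(V)`, `V = ⟨α v1, α v2⟩`; `Loc3.Fin8` holds in `H / V`. -/
theorem AE.cV (h : AE α g) (k : G) (a : Commute k (α v1)) (b : Commute k (α v2)) :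
    k ∈ α.range := by
  let H : Subgroup G := centralizer {α v1} ⊓ centralizer {α v2}
  have mH : ∀ {x : A12}, Commute x v1 ∧ Commute x v2 → α x ∈ H := fun e =>
    ⟨mem_cent.2 (e.1.map α), mem_cent.2 (e.2.map α)⟩
  let V : Subgroup H := closure {⟨α v1, mH pd!⟩, ⟨α v2, mH pd!⟩}
  have hV : ∀ v ∈ V, (∀ x, Commute x v) ∧ v * v = 1 ∧ v.1 ∈ α.range := fun v hv => by
    induction hv using closure_induction with
    | mem x hx =>
      rcases hx with rfl | rfl
      · exact ⟨fun x => Subtype.ext (mem_cent.1 x.2.1).eq, Subtype.ext ((map_mul ..).symm.trans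
          (by rw [(pd! : v1 * v1 = 1), map_one]; rfl)), _, rfl⟩
      · exact ⟨fun x => Subtype.ext (mem_cent.1 x.2.2).eq, Subtype.ext ((map_mul ..).symm.trans
          (by rw [(pd! : v2 * v2 = 1), map_one]; rfl)), _, rfl⟩
    | one => exact ⟨fun x => .one_right x, mul_one _, one_mem _⟩
    | mul x y _ _ p q => exact ⟨fun z => (p.1 z).mul_right (q.1 z), by
        rw [mul_assoc, ← mul_assoc y, (p.1 y).eq, mul_assoc, q.2.1, mul_one, p.2.1], mul_mem p.2.2 q.2.2⟩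
    | inv x _ p => exact ⟨fun z => (p.1 z).inv_right, by rw [← mul_inv_rev, p.2.1, inv_one], inv_mem p.2.2⟩
  have : V.Normal := ⟨fun v hv x => by rwa [conj_of_comm ((hV v hv).1 x)]⟩
  let ψ : A8 →* H := (α.comp i8).codRestrict H fun x => mH ⟨i8_comm x pd!, i8_comm x pd!⟩
  let φ := (QuotientGroup.mk' V).comp ψ
  have k1 : ∀ k : H, k.1 ∈ α.range → QuotientGroup.mk' V k ∈ φ.range := fun k ⟨y, hy⟩ => by
    obtain ⟨x, v, hv, rfl⟩ := cen_v (y := y) (h.comm.1 (hy ▸ mem_cent.1 k.2.1)) (h.comm.1 (hy ▸ mem_cent.1 k.2.2))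
    have m : α v ∈ V.map H.subtype := by
      have m1 : α v1 ∈ V.map H.subtype := ⟨_, subset_closure (.inl rfl), rfl⟩
      have m2 : α v2 ∈ V.map H.subtype := ⟨_, subset_closure (.inr rfl), rfl⟩
      simp only [List.mem_cons, List.not_mem_nil, or_false] at hv
      rcases hv with rfl | rfl | rfl | rfl
      exacts [(map_one α).symm ▸ one_mem _, m1, m2, (map_mul α _ _).symm ▸ mul_mem m1 m2]
    obtain ⟨u, hu, e⟩ := m
    refine ⟨x, (QuotientGroup.mk'_eq_mk' V).2 ⟨u, hu, ((hV u hu).1 _).eq.trans (Subtype.ext ?_)⟩⟩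
    rw [← hy, map_mul, ← e]; rfl
  have k2 : ∀ (k : H) (x : A8), x ^ 3 = 1 → Commute (QuotientGroup.mk' V k) (φ x) → Commute k.1 (α (i8 x)) := by
    intro k x x3 e
    obtain ⟨v, hv, e⟩ := (QuotientGroup.mk'_eq_mk' V).1
      (show QuotientGroup.mk' V (ψ x) = QuotientGroup.mk' V (k * ψ x * k⁻¹) by
        rw [map_mul, map_mul, map_inv]; exact (conj_of_comm e).symm)
    have e3 := congrArg (· ^ 3) e
    simp only [((hV v hv).1 _).mul_pow, conj_pow, ← map_pow, x3, map_one, one_mul, mul_one, mul_inv_cancel] at e3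
    rw [pow_three, (hV v hv).2.1, mul_one] at e3
    rw [e3, mul_one] at e
    exact (comm_of_conj e.symm).map H.subtype
  have iz : i8 z8 = w1 := i8_eq pd!
  have hs : IsSimpleGroup A8 := alternatingGroup.isSimpleGroup (by simp)
  have F : Fin8 φ := by
    refine fin8_of (φ.ker_eq_bot_iff.1 ((hs.eq_bot_or_eq_top_of_normal φ.ker inferInstance).resolve_right
      fun e => ?_)) (fun x e => ?_) fun x e => ?_
    · have := (hV _ ((QuotientGroup.eq_one_iff _).1 (e ▸ mem_top z8 : z8 ∈ φ.ker))).2.1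
      exact (pd! : w1 * w1 ≠ 1) (h.inj (by rw [← iz, map_mul, map_one]; exact congrArg Subtype.val this))
    · obtain ⟨k, rfl⟩ := QuotientGroup.mk'_surjective V x
      have d := k2 k z8 pd! e
      let c := pm 0x201876543ba9
      rw [iz, (pd! : w1 = c⁻¹ * w4 * c), map_mul, map_mul, map_inv, ← comm_conj_iff] at d
      refine k1 k ?_
      simpa [mul_assoc] using mul_mem (mul_mem (inv_mem (α.mem_range.2 ⟨c, rfl⟩)) (h.cw _ d)) (α.mem_range.2 ⟨c, rfl⟩)
    · obtain ⟨k, rfl⟩ := QuotientGroup.mk'_surjective V x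
      have d := k2 k y8 pd! e
      rw [show i8 y8 = yy from i8_eq pd!] at d
      exact k1 k (h.cVy d (mem_cent.1 k.2.1) (mem_cent.1 k.2.2))
  obtain ⟨x, hx⟩ := (F.top ▸ mem_top _ : QuotientGroup.mk' V ⟨k, mem_cent.2 a, mem_cent.2 b⟩ ∈ φ.range)
  obtain ⟨v, hv, e⟩ := (QuotientGroup.mk'_eq_mk' V).1 hx
  rw [← show _ = k from congrArg Subtype.val e]
  exact mul_mem (α.mem_range.2 ⟨_, rfl⟩) (hV v hv).2.2

end Cfsg.Agent.HNL
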